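import Mathlib

/-!
Fixed points on cosets and the sign of an involution.
-/

set_option autoImplicit false

namespace Cfsg.Lib.HSLocal

open Subgroup

variable {K : Type*} [Group K] [Finite K]

/-- The sign of an involutory permutation. -/
theorem sign_invol {α : Type*} [Fintype α] [DecidableEq α] (σ : Equiv.Perm α) (h : σ * σ = 1) :
    ∃ m : ℕ, Fintype.card α = Nat.card {a // σ a = a} + 2 * m ∧ Equiv.Perm.sign σ = (-1) ^ m := by
  have hcard : Nat.card {a // σ a = a} + σ.support.card = Fintype.card α := by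
    have e : Nat.card {a // σ a = a} = (σ.supportᶜ).card := by
      rw [Nat.card_eq_fintype_card, Fintype.card_subtype]
      congr 1
      ext a
      simp
    rw [e, add_comm, Finset.card_add_card_compl]
  by_cases h1 : σ = 1
  · subst h1
    refine ⟨0, ?_, by simp⟩
    simpa using hcard.symm
  haveI : Fact (Nat.Prime 2) := ⟨Nat.prime_two⟩
  have ho : orderOf σ = 2 := orderOf_eq_prime (by rw [pow_two]; exact h) h1
  obtain ⟨k, hk⟩ := Equiv.Perm.cycleType_prime_order (σ := σ) (by rw [ho]; exact Nat.prime_two)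
  rw [ho] at hk
  have hs := σ.sum_cycleType
  rw [hk, Multiset.sum_replicate, smul_eq_mul] at hs
  refine ⟨k + 1, by omega, ?_⟩
  rw [Equiv.Perm.sign_of_cycleType, hk, Multiset.sum_replicate, smul_eq_mul, Multiset.card_replicate, pow_add,
    mul_comm (k + 1) 2, pow_mul, neg_one_sq, one_pow, one_mul]

/-- The fixed cosets of an element, counted by the conjugates it has in the subgroup. -/
theorem fix_count (P : Subgroup K) (x : K) (S : Finset K) (hS : ∀ y, y ∈ S ↔ y ∈ P ∧ ∃ k, k⁻¹ * x * k = y) :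
    Nat.card {c : K ⧸ P // x • c = c} * Nat.card P = S.card * Nat.card (centralizer ({x} : Set K)) := by
  classical
  let T : Set K := {k | k⁻¹ * x * k ∈ P}
  have h1 : Nat.card T = Nat.card P * Nat.card {c : K ⧸ P // x • c = c} := by
    have hT : T = QuotientGroup.mk ⁻¹' {c : K ⧸ P | x • c = c} := by
      ext k
      show k⁻¹ * x * k ∈ P ↔ x • (k : K ⧸ P) = (k : K ⧸ P)
      rw [MulAction.Quotient.smul_coe, eq_comm, QuotientGroup.eq, smul_eq_mul, mul_assoc]
    rw [hT, Nat.card_congr (QuotientGroup.preimageMkEquivSubgroupProdSet P _), Nat.card_prod]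
    rfl
  let e : T ≃ Σ y : {y // y ∈ S}, {k : K // k⁻¹ * x * k = y.1} :=
    { toFun := fun k => ⟨⟨k.1⁻¹ * x * k.1, (hS _).2 ⟨k.2, k.1, rfl⟩⟩, ⟨k.1, rfl⟩⟩
      invFun := fun p => ⟨p.2.1, by
        show p.2.1⁻¹ * x * p.2.1 ∈ P
        rw [p.2.2]; exact ((hS _).1 p.1.2).1⟩
      left_inv := fun k => rfl
      right_inv := fun p => by
        obtain ⟨⟨y, hy⟩, k, hk⟩ := p
        obtain rfl : k⁻¹ * x * k = y := hk
        rfl }
  have hf : ∀ y : {y // y ∈ S}, Nat.card {k : K // k⁻¹ * x * k = y.1} = Nat.card (centralizer ({x} : Set K)) := by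
    rintro ⟨y, hy⟩
    obtain ⟨-, k0, hk0⟩ := (hS y).1 hy
    refine Nat.card_congr
      { toFun := fun k => ⟨k.1 * k0⁻¹, mem_centralizer_singleton_iff.2 ?_⟩
        invFun := fun g => ⟨g.1 * k0, ?_⟩
        left_inv := fun k => Subtype.ext (by group)
        right_inv := fun g => Subtype.ext (by group) }
    · have h : k.1⁻¹ * x * k.1 = y := k.2
      calc k.1 * k0⁻¹ * x = k.1 * (k0⁻¹ * x * k0) * k0⁻¹ := by group
        _ = k.1 * (k.1⁻¹ * x * k.1) * k0⁻¹ := by rw [h, hk0]
        _ = x * (k.1 * k0⁻¹) := by group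
    · have h := mem_centralizer_singleton_iff.1 g.2
      calc (g.1 * k0)⁻¹ * x * (g.1 * k0) = k0⁻¹ * g.1⁻¹ * (x * g.1) * k0 := by group
        _ = y := by rw [← h, ← hk0]; group
  haveI : Fintype K := Fintype.ofFinite K
  rw [mul_comm, ← h1, Nat.card_congr e, Nat.card_sigma, Finset.sum_congr rfl fun y _ => hf y, Finset.sum_const,
    smul_eq_mul, Finset.card_univ, Fintype.card_coe]

end Cfsg.Lib.HSLocal
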