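import Mathlib

/-!
Linear algebra on three copies of the integers modulo four, and the finite facts used in the recognition.
-/

set_option autoImplicit false
set_option maxRecDepth 20000
set_option synthInstance.maxSize 1024
set_option synthInstance.maxHeartbeats 400000

namespace Cfsg.Lib.HSLocal

/-- Triples modulo four. -/
abbrev E4 : Type := ZMod 4 × ZMod 4 × ZMod 4

/-- Matrices, as columns. -/
abbrev Mat : Type := E4 × E4 × E4

/-- A multiple of a triple. -/
def sm (k : ZMod 4) (v : E4) : E4 := (k * v.1, k * v.2.1, k * v.2.2)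

/-- The image of a triple. -/
def app (m : Mat) (v : E4) : E4 := sm v.1 m.1 + sm v.2.1 m.2.1 + sm v.2.2 m.2.2

/-- Composition. -/
def mm (m n : Mat) : Mat := (app m n.1, app m n.2.1, app m n.2.2)

/-- The identity. -/
def idM : Mat := ((1, 0, 0), (0, 1, 0), (0, 0, 1))

/-- The determinant. -/
def det3 (m : Mat) : ZMod 4 :=
  m.1.1 * (m.2.1.2.1 * m.2.2.2.2 - m.2.1.2.2 * m.2.2.2.1) - m.1.2.1 * (m.2.1.1 * m.2.2.2.2 - m.2.1.2.2 * m.2.2.1) +
    m.1.2.2 * (m.2.1.1 * m.2.2.2.1 - m.2.1.2.1 * m.2.2.1)

theorem det3_mm (m n : Mat) : det3 (mm m n) = det3 m * det3 n := by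
  obtain ⟨⟨a, b, c⟩, ⟨d, e, f⟩, g, h, i⟩ := m
  obtain ⟨⟨a', b', c'⟩, ⟨d', e', f'⟩, g', h', i'⟩ := n
  simp only [det3, mm, app, sm, Prod.fst_add, Prod.snd_add]
  ring

theorem det3_id : det3 idM = 1 := by decide

theorem app_id (v : E4) : app idM v = v := by
  obtain ⟨i, j, l⟩ := v
  simp [app, sm, idM]

theorem app_mm (m n : Mat) (v : E4) : app (mm m n) v = app m (app n v) := by
  obtain ⟨⟨a, b, c⟩, ⟨d, e, f⟩, g, h, i⟩ := m
  obtain ⟨⟨a', b', c'⟩, ⟨d', e', f'⟩, g', h', i'⟩ := n
  obtain ⟨x, y, z⟩ := v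
  simp only [mm, app, sm, Prod.fst_add, Prod.snd_add, Prod.mk_add_mk, Prod.mk.injEq]
  refine ⟨?_, ?_, ?_⟩ <;> ring

theorem app_add (m : Mat) (v w : E4) : app m (v + w) = app m v + app m w := by
  obtain ⟨⟨a, b, c⟩, ⟨d, e, f⟩, g, h, i⟩ := m
  obtain ⟨x, y, z⟩ := v
  obtain ⟨x', y', z'⟩ := w
  simp only [app, sm, Prod.fst_add, Prod.snd_add, Prod.mk_add_mk, Prod.mk.injEq]
  refine ⟨?_, ?_, ?_⟩ <;> ring

/-- The action of the element of order three. -/
def mX : Mat := ((1, 0, 0), (0, 0, 1), (0, 3, 3))
/-- The action of the involution inverting it. -/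
def mY : Mat := ((3, 0, 0), (0, 1, 0), (0, 3, 3))
/-- The action of the transvection. -/
def mR : Mat := ((1, 0, 0), (0, 3, 0), (1, 2, 3))
/-- The action of the element of order seven. -/
def mU : Mat := ((2, 0, 3), (1, 3, 0), (2, 3, 1))

/-- Powers of a matrix. -/
def mpow (m : Mat) : ℕ → Mat
  | 0 => idM
  | k + 1 => mm (mpow m k) m

/-- The norm of the element of order three vanishes exactly off the first coordinate. -/
theorem norm_X : ∀ v : E4, app mX (app mX v) + app mX v + v = (3 * v.1, 0, 0) := by decide +kernel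

/-- Commutators with the inverse of the element of order three. -/
theorem comm_X : ∀ v : E4, v.1 = 0 → ∃ w : E4, w - app (mm mX mX) w = v := by decide +kernel

/-- Commutators with the element of order three. -/
theorem comm_X' : ∀ v : E4, v.1 = 0 → ∃ w : E4, w - app mX w = v := by decide +kernel

theorem fix_X : ∀ v : E4, app mX v = v → v.2 = (0, 0) := by decide +kernel

theorem det_X : det3 mX = 1 ∧ mm mX (mm mX mX) = idM := by decide +kernel

/-- A candidate for the inverting involution. -/
def yCand (e : Bool) (v : E4) : Mat := ((bif e then 3 else 1, 0, 0), v, app (mm mX mX) v)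

/-- An involution inverting the element of order three. -/
theorem involution_Y : ∀ (e : Bool) (v : E4),
    mm (yCand e v) (yCand e v) = idM → det3 (yCand e v) = 1 →
    v.1 = 0 →
      e = true ∧ ∃ a : E4, a.1 = 0 ∧ app (yCand e v) a = a ∧ (a + a).2 ≠ (0, 0) := by decide +kernel

/-- The square of an involution in a coset. -/
theorem square_Y : ∀ (v : E4) (j : Bool), v + app mY v + (bif j then (2, 0, 0) else 0) = 0 → j = false := by
  decide +kernel

/-- A candidate for the transvection. -/
def rCand (i i' : ZMod 4) (j l j' l' : Bool) : Mat :=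
  ((1, 0, 0), (i, bif j then 3 else 1, bif l then 2 else 0), (i', bif j' then 2 else 0, bif l' then 3 else 1))

/-- The conditions on the transvection and their consequence. -/
abbrev RProp (m : Mat) : Prop :=
    mm m m = idM → mm m mY = mm mY m → det3 m = 1 →
    mm m (mm mX (mm m (mm mX mX))) = mm (mm mX (mm m (mm mX mX))) m →
    mm (mm mX mX) (mm m mX) = mm m (mm mX (mm m (mm mX mX))) →
    sm 2 m.2.1 = (0, 2, 0) → sm 2 m.2.2 ≠ (0, 0, 2) →
      m = mR ∨ m = ((1, 0, 0), (0, 3, 0), (3, 2, 3))

/-- The action of the transvection, up to the sign of the centre. -/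
theorem transvection_R : ∀ (i i' : ZMod 4) (j l j' l' : Bool),
    RProp (rCand i i' j l j' l') := by decide +kernel

/-- Reduction modulo two. -/
def r2 (m : Mat) : Mat := (sm 2 m.1, sm 2 m.2.1, sm 2 m.2.2)

/-- Zero or two. -/
def zt (q : Bool) : ZMod 4 := bif q then 2 else 0

/-- A candidate for the element of order seven. -/
def uCand (a b c d e f g h i : Bool) : Mat :=
  ((2 + zt a, zt b, 3 + zt c), (1 + zt d, 3 + zt e, zt f), (2 + zt g, 3 + zt h, 1 + zt i))

/-- The conditions on the element of order seven and their consequence. -/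
abbrev UProp (m : Mat) : Prop :=
    mpow m 7 = idM → mm mX m = mm (mm m m) mX → mpow (mm mY m) 3 = idM →
    mpow (mm mY (mm mX (mm mR (mm m m)))) 2 = idM → m = mU

/-- The element of order seven is determined by its action modulo two. -/
theorem seven_U : ∀ (a b c d e f g h i : Bool),
    UProp (uCand a b c d e f g h i) := by decide +kernel

/-- The matrix of the cube. -/
def mG3 : Mat := mm mY mU
/-- The matrix of the square. -/
def mG2 : Mat := mm mY (mm mX (mm mR (mm mU mU)))

/-- The four possible cubes. -/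
def alV : Fin 4 → E4
  | 0 => (0, 0, 0)
  | 1 => (0, 0, 2)
  | 2 => (2, 0, 1)
  | 3 => (2, 0, 3)

theorem cube_values : ∀ v : E4, app mG3 v = v → ∃ j : Fin 4, v = alV j := by decide +kernel

theorem action_facts : mpow mG3 3 = idM ∧ mpow mG2 2 = idM ∧ mm mY mY = idM ∧ mm mR mR = idM ∧
    mpow mU 7 = idM := by decide +kernel

end Cfsg.Lib.HSLocal
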