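import Cfsg.Agent.HSLocal.Rels

/-!
Generated: log of a coset enumeration (CertH).
-/

set_option autoImplicit false
set_option maxRecDepth 100000

namespace Cfsg.Lib.HSLocal.CertH

open Cfsg.Lib.M12Cent (Log PT)

def fct_0 : PT :=
  (.node (.leaf 0x500007500023280003000300a00006b0002d270003000300300006800017230003000300a00005e0602d230004000400300005b00000180002000200300005800000180004000400200005600000140003000400300005300000190002000700800004b06025290006000400800004306029240004000300300004002011260004000400200003e00000150006000300200003c0000011000400030030000390100629000500030030000360100e21000200040030000330101d280006000601700001c0f02f280007000700000001c00000010007000600000001c00000050006000500000001c00000000005000400000001c00000020004000300000001c0000001000300020030000190301b23000200020030000160301522000200020030000130000d270002000200400000f02021240001000200000000f00000040002000100500000a0302322000100010040000060002123000100010030000030201f26000100010030000000201d2000010001000000000000000800010000000000000000003600000000000000000000003400000000000000000000003300000000000000000000003200000000000000000000003000000000)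 (.leaf 0))

def fct : PT :=
  fct_0

def parT_0 : PT :=
  (.node (.leaf 0x1000650005000042000310002400018000000000) (.leaf 0))

def parT : PT :=
  parT_0

def pth_0 : PT :=
  (.node (.leaf 0x240002e000230002e000220002d0001f0001b0001f00021000270002800026000260002400022000200001e000140000c0000a000010000700000000030000100006000000000b0000d000150001f00021000230002500027000170001000015000170001200016000170000f000160000a000050000b000150000e0000e0000a000030000b0000a00007000070000b0000a000090000b0000a000000000b) (.leaf 0x210003f000200004700047000440001e000170000c000100000d000150001f0003c0003600021000420002000030000370002d0001400016000190001d0002c0003d000310003a000290003b000390002b0003800033000380002c00039000270003200031000360001e000140000c000150002c0002d0001f0001e000170000c000150002c000300002d000190002c))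

def pth : PT :=
  pth_0

/-- The log. -/
def log : Log where
  ng := 9
  iv := [1, 0, 2, 3, 5, 4, 7, 6, 8]
  depth := 1
  m := 37
  fct := fct
  par := parT
  pth := pth
  rels := [[2, 2], [3, 3], [8, 8], [0, 0, 0], [4, 4, 4, 4], [6, 6, 6, 6], [4, 6, 5, 7], [2, 0, 2, 0], [0, 6, 1, 7], [2, 6, 2, 6], [2, 4, 2, 5], [2, 3, 2, 3], [3, 6, 3, 7], [3, 4, 3, 4], [8, 0, 8, 1], [8, 6, 8, 6], [8, 4, 4, 8, 3], [2, 8, 2, 7, 7, 8], [4, 0, 4, 1, 5, 0, 5, 1], [3, 0, 3, 1, 3, 0, 3, 1], [0, 0, 4, 1, 1, 0, 4, 1, 4], [0, 0, 3, 1, 1, 0, 3, 1, 3], [3, 0, 4, 1, 3, 0, 4, 1, 5, 5, 7], [8, 0, 4, 1, 2, 0, 5, 1, 8, 0, 4, 1, 2, 0, 5, 1, 8, 0, 4, 1, 2, 0, 5, 1]]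
  subs := [0, 1, 2, 3, 4, 5, 6, 7]

def rows0 : List (ℕ × List ℕ) :=
  [(0, [0, 1, 3, 5, 6, 7, 8, 9, 10]),
    (1, [12, 13, 19, 17, 20, 23, 14, 15, 11]),
    (2, [45, 30, 27, 29, 22, 21, 25, 24, 65]),
    (3, [31, 48, 32, 69, 54, 61, 71, 70, 73]),
    (4, [49, 44, 33, 67, 60, 55, 52, 53, 63])]

/-- The rows. -/
def rows : List (ℕ × List ℕ) :=
  rows0

/-- The rows as a number. -/
def mask : ℕ :=
  0x1f

end Cfsg.Lib.HSLocal.CertH
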