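import Cfsg.Agent.HSLocal.Closed
import Cfsg.Agent.HSLocal.DataB
import Cfsg.Agent.HSLocal.DataH
import Cfsg.Agent.HSLocal.DataM
import Cfsg.Agent.HSLocal.DataK0
import Cfsg.Agent.HSLocal.DataK1
import Cfsg.Agent.HSLocal.DataK3
import Cfsg.Agent.HSLocal.DataU1
import Cfsg.Agent.HSLocal.DataU2
import Cfsg.Agent.HSLocal.DataU3
import Cfsg.Agent.HSLocal.DataC1
import Cfsg.Agent.HSLocal.DataC2
import Cfsg.Agent.HSLocal.DataC3
import Cfsg.Agent.HSLocal.DataC4
import Cfsg.Agent.HSLocal.DataC5
import Cfsg.Agent.HSLocal.DataC6
import Cfsg.Agent.HSLocal.DataC7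

/-! Checks of the short logs. -/

set_option autoImplicit false
set_option maxRecDepth 40000
set_option Elab.async false

namespace Cfsg.Lib.HSLocal

open Cfsg.Lib.M12Cent (Log)

theorem CertB.ok_0 : CertB.log.factsOK 0 390 = true := by decide +kernel

theorem CertB.ok : CertB.log.factsOK 0 CertB.log.m = true := by
  rw [show CertB.log.m = 390 from rfl]
  exact CertB.ok_0

theorem CertB.letters : CertB.log.lettersOK = true := by decide +kernel

theorem CertB.table : tableOK CertB.log CertB.rows CertB.mask := by
  refine ⟨?_, ?_, ?_⟩ <;> decide +kernel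

theorem CertB.rows_length : CertB.rows.length = 96 := by decide +kernel

theorem CertH.ok_0 : CertH.log.factsOK 0 37 = true := by decide +kernel

theorem CertH.ok : CertH.log.factsOK 0 CertH.log.m = true := by
  rw [show CertH.log.m = 37 from rfl]
  exact CertH.ok_0

theorem CertH.letters : CertH.log.lettersOK = true := by decide +kernel

theorem CertH.table : tableOK CertH.log CertH.rows CertH.mask := by
  refine ⟨?_, ?_, ?_⟩ <;> decide +kernel

theorem CertH.rows_length : CertH.rows.length = 5 := by decide +kernel

theorem CertM.ok_0 : CertM.log.factsOK 0 171 = true := by decide +kernel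

theorem CertM.ok : CertM.log.factsOK 0 CertM.log.m = true := by
  rw [show CertM.log.m = 171 from rfl]
  exact CertM.ok_0

theorem CertM.letters : CertM.log.lettersOK = true := by decide +kernel

theorem CertM.table : tableOK CertM.log CertM.rows CertM.mask := by
  refine ⟨?_, ?_, ?_⟩ <;> decide +kernel

theorem CertM.rows_length : CertM.rows.length = 7 := by decide +kernel

theorem CertK0.ok_0 : CertK0.log.factsOK 0 282 = true := by decide +kernel

theorem CertK0.ok : CertK0.log.factsOK 0 CertK0.log.m = true := by
  rw [show CertK0.log.m = 282 from rfl]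
  exact CertK0.ok_0

theorem CertK0.letters : CertK0.log.lettersOK = true := by decide +kernel

theorem CertK0.close : CertK0.log.follow CertK0.log.m CertK0.path 0 = some (0, [6, 6]) := by decide +kernel

theorem CertK1.ok_0 : CertK1.log.factsOK 0 176 = true := by decide +kernel

theorem CertK1.ok : CertK1.log.factsOK 0 CertK1.log.m = true := by
  rw [show CertK1.log.m = 176 from rfl]
  exact CertK1.ok_0

theorem CertK1.letters : CertK1.log.lettersOK = true := by decide +kernel

theorem CertK1.close : CertK1.log.follow CertK1.log.m CertK1.path 0 = some (0, [6, 6]) := by decide +kernel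

theorem CertK3.ok_0 : CertK3.log.factsOK 0 157 = true := by decide +kernel

theorem CertK3.ok : CertK3.log.factsOK 0 CertK3.log.m = true := by
  rw [show CertK3.log.m = 157 from rfl]
  exact CertK3.ok_0

theorem CertK3.letters : CertK3.log.lettersOK = true := by decide +kernel

theorem CertK3.close : CertK3.log.follow CertK3.log.m CertK3.path 0 = some (0, [6, 6]) := by decide +kernel

theorem CertU1.ok_0 : CertU1.log.factsOK 0 500 = true := by decide +kernel

theorem CertU1.ok_500 : CertU1.log.factsOK 500 14 = true := by decide +kernel

theorem CertU1.ok : CertU1.log.factsOK 0 CertU1.log.m = true := by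
  rw [show CertU1.log.m = 514 from rfl]
  have h0 : CertU1.log.factsOK 0 514 = true := Log.factsOK_cat0 _ CertU1.ok_0 CertU1.ok_500 (by norm_num)
  exact h0

theorem CertU1.letters : CertU1.log.lettersOK = true := by decide +kernel

theorem CertU1.close : CertU1.log.follow CertU1.log.m CertU1.path 0 = some (0, [6, 6]) := by decide +kernel

theorem CertU2.ok_0 : CertU2.log.factsOK 0 500 = true := by decide +kernel

theorem CertU2.ok_500 : CertU2.log.factsOK 500 163 = true := by decide +kernel

theorem CertU2.ok : CertU2.log.factsOK 0 CertU2.log.m = true := by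
  rw [show CertU2.log.m = 663 from rfl]
  have h0 : CertU2.log.factsOK 0 663 = true := Log.factsOK_cat0 _ CertU2.ok_0 CertU2.ok_500 (by norm_num)
  exact h0

theorem CertU2.letters : CertU2.log.lettersOK = true := by decide +kernel

theorem CertU2.close : CertU2.log.follow CertU2.log.m CertU2.path 0 = some (0, [6, 6]) := by decide +kernel

theorem CertU3.ok_0 : CertU3.log.factsOK 0 500 = true := by decide +kernel

theorem CertU3.ok_500 : CertU3.log.factsOK 500 95 = true := by decide +kernel

theorem CertU3.ok : CertU3.log.factsOK 0 CertU3.log.m = true := by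
  rw [show CertU3.log.m = 595 from rfl]
  have h0 : CertU3.log.factsOK 0 595 = true := Log.factsOK_cat0 _ CertU3.ok_0 CertU3.ok_500 (by norm_num)
  exact h0

theorem CertU3.letters : CertU3.log.lettersOK = true := by decide +kernel

theorem CertU3.close : CertU3.log.follow CertU3.log.m CertU3.path 0 = some (0, [6, 6]) := by decide +kernel

theorem CertC1.ok_0 : CertC1.log.factsOK 0 500 = true := by decide +kernel

theorem CertC1.ok_500 : CertC1.log.factsOK 500 500 = true := by decide +kernel

theorem CertC1.ok_1000 : CertC1.log.factsOK 1000 4 = true := by decide +kernel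

theorem CertC1.ok : CertC1.log.factsOK 0 CertC1.log.m = true := by
  rw [show CertC1.log.m = 1004 from rfl]
  have h0 : CertC1.log.factsOK 0 1000 = true := Log.factsOK_cat0 _ CertC1.ok_0 CertC1.ok_500 (by norm_num)
  have h1 : CertC1.log.factsOK 0 1004 = true := Log.factsOK_cat0 _ h0 CertC1.ok_1000 (by norm_num)
  exact h1

theorem CertC1.letters : CertC1.log.lettersOK = true := by decide +kernel

theorem CertC1.close : CertC1.log.follow CertC1.log.m CertC1.path 0 = some (0, [9]) := by decide +kernel

theorem CertC2.ok_0 : CertC2.log.factsOK 0 418 = true := by decide +kernel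

theorem CertC2.ok : CertC2.log.factsOK 0 CertC2.log.m = true := by
  rw [show CertC2.log.m = 418 from rfl]
  exact CertC2.ok_0

theorem CertC2.letters : CertC2.log.lettersOK = true := by decide +kernel

theorem CertC2.close : CertC2.log.follow CertC2.log.m CertC2.path 0 = some (0, [9]) := by decide +kernel

theorem CertC3.ok_0 : CertC3.log.factsOK 0 466 = true := by decide +kernel

theorem CertC3.ok : CertC3.log.factsOK 0 CertC3.log.m = true := by
  rw [show CertC3.log.m = 466 from rfl]
  exact CertC3.ok_0

theorem CertC3.letters : CertC3.log.lettersOK = true := by decide +kernel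

theorem CertC3.close : CertC3.log.follow CertC3.log.m CertC3.path 0 = some (0, [9]) := by decide +kernel

theorem CertC4.ok_0 : CertC4.log.factsOK 0 444 = true := by decide +kernel

theorem CertC4.ok : CertC4.log.factsOK 0 CertC4.log.m = true := by
  rw [show CertC4.log.m = 444 from rfl]
  exact CertC4.ok_0

theorem CertC4.letters : CertC4.log.lettersOK = true := by decide +kernel

theorem CertC4.close : CertC4.log.follow CertC4.log.m CertC4.path 0 = some (0, [9]) := by decide +kernel

theorem CertC5.ok_0 : CertC5.log.factsOK 0 416 = true := by decide +kernel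

theorem CertC5.ok : CertC5.log.factsOK 0 CertC5.log.m = true := by
  rw [show CertC5.log.m = 416 from rfl]
  exact CertC5.ok_0

theorem CertC5.letters : CertC5.log.lettersOK = true := by decide +kernel

theorem CertC5.close : CertC5.log.follow CertC5.log.m CertC5.path 0 = some (0, [9]) := by decide +kernel

theorem CertC6.ok_0 : CertC6.log.factsOK 0 500 = true := by decide +kernel

theorem CertC6.ok_500 : CertC6.log.factsOK 500 500 = true := by decide +kernel

theorem CertC6.ok_1000 : CertC6.log.factsOK 1000 500 = true := by decide +kernel

theorem CertC6.ok_1500 : CertC6.log.factsOK 1500 120 = true := by decide +kernel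

theorem CertC6.ok : CertC6.log.factsOK 0 CertC6.log.m = true := by
  rw [show CertC6.log.m = 1620 from rfl]
  have h0 : CertC6.log.factsOK 0 1000 = true := Log.factsOK_cat0 _ CertC6.ok_0 CertC6.ok_500 (by norm_num)
  have h1 : CertC6.log.factsOK 0 1500 = true := Log.factsOK_cat0 _ h0 CertC6.ok_1000 (by norm_num)
  have h2 : CertC6.log.factsOK 0 1620 = true := Log.factsOK_cat0 _ h1 CertC6.ok_1500 (by norm_num)
  exact h2

theorem CertC6.letters : CertC6.log.lettersOK = true := by decide +kernel

theorem CertC6.close : CertC6.log.follow CertC6.log.m CertC6.path 0 = some (0, [9]) := by decide +kernel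

theorem CertC7.ok_0 : CertC7.log.factsOK 0 500 = true := by decide +kernel

theorem CertC7.ok_500 : CertC7.log.factsOK 500 321 = true := by decide +kernel

theorem CertC7.ok : CertC7.log.factsOK 0 CertC7.log.m = true := by
  rw [show CertC7.log.m = 821 from rfl]
  have h0 : CertC7.log.factsOK 0 821 = true := Log.factsOK_cat0 _ CertC7.ok_0 CertC7.ok_500 (by norm_num)
  exact h0

theorem CertC7.letters : CertC7.log.lettersOK = true := by decide +kernel

theorem CertC7.close : CertC7.log.follow CertC7.log.m CertC7.path 0 = some (0, [9]) := by decide +kernel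

end Cfsg.Lib.HSLocal
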