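import Cfsg.Agent.HSLocal.Sat
import Cfsg.Agent.HSLocal.SmallFacts

/-!
Orders of the groups generated by the local relators.
-/

set_option autoImplicit false

namespace Cfsg.Lib.HSLocal

open Subgroup
open Cfsg.Lib.M12Cent (Log)

variable {X : Type*} [Group X] {im : ℕ → X}

/-- The relators of the centralizer, with the further letters. -/
def relsH : List (List ℕ) := relsB ++ relsS 2

/-- The relators of the normalizer, the further letter of the centralizer being trivial. -/
def relsM (j : Fin 4) : List (List ℕ) := relsB ++ relsU (alW j) ++ [[8]]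

theorem fits_all : fits CertB.log relsB = true ∧ fits CertH.log relsH = true ∧ fits CertM.log (relsM 0) = true := by
  decide +kernel

theorem shapes : (CertB.log.ng = 8 ∧ CertB.log.subs = [4, 5, 6, 7]) ∧
    (CertH.log.ng = 9 ∧ CertH.log.subs = [0, 1, 2, 3, 4, 5, 6, 7]) ∧
    (CertM.log.ng = 11 ∧ CertM.log.subs = [0, 1, 2, 3, 4, 5, 6, 7, 8]) := ⟨⟨rfl, rfl⟩, ⟨rfl, rfl⟩, ⟨rfl, rfl⟩⟩

theorem card_ac (h : Sat im relsB) :
    Finite (closure ({im 4, im 5, im 6, im 7} : Set X)) ∧ Nat.card (closure ({im 4, im 5, im 6, im 7} : Set X)) ≤ 16 := by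
  have h5 : im 5 = (im 4)⁻¹ := h.iv 4 (by norm_num)
  have h7 : im 7 = (im 6)⁻¹ := h.iv 6 (by norm_num)
  have ha : im 4 ^ 4 = 1 := by
    rw [← h.rel [4, 4, 4, 4] (by decide)]; simp [wvx, pow_succ, mul_assoc]
  have hc : im 6 ^ 4 = 1 := by
    rw [← h.rel [6, 6, 6, 6] (by decide)]; simp [wvx, pow_succ, mul_assoc]
  have hcomm : Commute (im 4) (im 6) := by
    have e := h.rel [4, 6, 5, 7] (by decide)
    simp [wvx, h5, h7] at e
    rw [commute_iff_eq, ← mul_inv_eq_one, ← e]
    group
  let S : Subgroup X :=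
    { carrier := Set.range fun p : Fin 4 × Fin 4 => im 4 ^ (p.1 : ℕ) * im 6 ^ (p.2 : ℕ)
      one_mem' := ⟨(0, 0), by simp⟩
      mul_mem' := by
        rintro _ _ ⟨p, rfl⟩ ⟨q, rfl⟩
        refine ⟨(p.1 + q.1, p.2 + q.2), ?_⟩
        simp only [Fin.val_add]
        rw [← pow_eq_pow_mod _ ha, ← pow_eq_pow_mod _ hc, pow_add, pow_add,
          Commute.mul_mul_mul_comm (hcomm.pow_pow _ _)]
      inv_mem' := by
        rintro _ ⟨p, rfl⟩
        refine ⟨(-p.1, -p.2), ?_⟩
        simp only
        refine eq_inv_of_mul_eq_one_left ?_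
        rw [← (hcomm.pow_pow _ _).mul_mul_mul_comm, ← pow_add, ← pow_add, pow_eq_pow_mod _ ha,
          pow_eq_pow_mod _ hc, ← Fin.val_add, ← Fin.val_add, neg_add_cancel, neg_add_cancel]
        simp }
  have hS : closure ({im 4, im 5, im 6, im 7} : Set X) ≤ S := by
    rw [closure_le]
    have h4 : im 4 ∈ S := ⟨(1, 0), by simp⟩
    have h6 : im 6 ∈ S := ⟨(0, 1), by simp⟩
    intro g hg
    simp only [Set.mem_insert_iff, Set.mem_singleton_iff] at hg
    rcases hg with rfl | rfl | rfl | rfl
    · exact h4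
    · rw [h5]; exact S.inv_mem h4
    · exact h6
    · rw [h7]; exact S.inv_mem h6
  have hfin : (S : Set X).Finite := Set.finite_range _
  haveI : Finite S := hfin.to_subtype
  refine ⟨Finite.of_injective _ (Subgroup.inclusion_injective hS), ?_⟩
  refine (Subgroup.card_le_of_le hS).trans ?_
  have hle : Nat.card (Set.range fun p : Fin 4 × Fin 4 => im 4 ^ (p.1 : ℕ) * im 6 ^ (p.2 : ℕ)) ≤
      Nat.card (Fin 4 × Fin 4) :=
    Nat.card_le_card_of_surjective _ Set.rangeFactorization_surjective
  rw [Nat.card_prod, Nat.card_fin] at hle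
  exact hle

theorem card_B (h : Sat im relsB) :
    Finite (closure (im '' Set.Iio 8)) ∧ Nat.card (closure (im '' Set.Iio 8)) ≤ 1536 := by
  obtain ⟨hf, hc⟩ := card_ac h
  have hS := h.sound (K := closure ({im 4, im 5, im 6, im 7} : Set X)) fits_all.1 CertB.letters (fun l hl _ => by
    rw [shapes.1.2] at hl
    simp only [List.mem_cons, List.not_mem_nil, or_false] at hl
    refine subset_closure ?_
    rcases hl with rfl | rfl | rfl | rfl <;> simp)
  have := finite_card_le hS CertB.ok CertB.table (L := closure (im '' Set.Iio 8)) (by rw [shapes.1.1]) hf hc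
  rwa [CertB.rows_length] at this

theorem card_H (h : Sat im relsH) :
    Finite (closure (im '' Set.Iio 9)) ∧ Nat.card (closure (im '' Set.Iio 9)) ≤ 7680 := by
  obtain ⟨hf, hc⟩ := card_B (h.mono (R' := relsB) (by decide +kernel))
  have hS := h.sound (K := closure (im '' Set.Iio 8)) fits_all.2.1 CertH.letters (fun l hl _ => by
    rw [shapes.2.1.2] at hl
    simp only [List.mem_cons, List.not_mem_nil, or_false] at hl
    exact subset_closure ⟨l, by simp only [Set.mem_Iio]; omega, rfl⟩)
  have := finite_card_le hS CertH.ok CertH.table (L := closure (im '' Set.Iio 9)) (by rw [shapes.2.1.1]) hf hc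
  rwa [CertH.rows_length] at this

theorem card_M (h : Sat im (relsM 0)) :
    Finite (closure (im '' Set.Iio 11)) ∧ Nat.card (closure (im '' Set.Iio 11)) ≤ 10752 := by
  obtain ⟨hf, hc⟩ := card_B (h.mono (R' := relsB) (by decide +kernel))
  have hS := h.sound (K := closure (im '' Set.Iio 8)) fits_all.2.2 CertM.letters (fun l hl _ => by
    rw [shapes.2.2.2] at hl
    simp only [List.mem_cons, List.not_mem_nil, or_false] at hl
    rcases lt_or_ge l 8 with h8 | h8
    · exact subset_closure ⟨l, h8, rfl⟩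
    · obtain rfl : l = 8 := by omega
      have e := h.rel [8] (by decide +kernel)
      simp [wvx] at e
      rw [e]; exact one_mem _)
  have := finite_card_le hS CertM.ok CertM.table (L := closure (im '' Set.Iio 11)) (by rw [shapes.2.2.1]) hf hc
  rwa [CertM.rows_length] at this

end Cfsg.Lib.HSLocal
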