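import Cfsg.Agent.HSLocal.Seven
import Cfsg.Agent.HSLocal.Bounds

/-!
The local data give elements satisfying the relators of the two local subgroups.
-/

set_option autoImplicit false
set_option maxRecDepth 20000
set_option synthInstance.maxSize 4096
set_option synthInstance.maxHeartbeats 400000

namespace Cfsg.Lib.HSLocal

open Subgroup
open Cfsg.Lib.M12Cent (Log)

theorem common_bits : ∀ k : Coord.Bits, 2 * det3 (Coord.ofBits k) ≠ 0 → sm 2 (Coord.ofBits k).1 = (2, 0, 0) →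
    ∃ (i : Fin 3) (e p q : Bool), r2 (Coord.ofBits k) = r2 (mm (mm (mm (mpow mX i.val) (bif e then mY else idM))
      (bif p then mR else idM)) (bif q then mm mX (mm mR (mm mX mX)) else idM)) := by decide +kernel

theorem order_21 : ∀ (i : Fin 7) (j : Fin 3), mm (mpow mU i.val) (mpow mX j.val) = idM → i.val = 0 ∧ j.val = 0 := by
  decide +kernel

theorem fits_K : (fits CertK0.log (relsB ++ relsS 0) = true ∧ fits CertK1.log (relsB ++ relsS 1) = true ∧
      fits CertK3.log (relsB ++ relsS 3) = true) ∧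
    fits CertU1.log (relsM 1) = true ∧ fits CertU2.log (relsM 2) = true ∧ fits CertU3.log (relsM 3) = true := by
  decide +kernel

theorem subs_K : ((CertK0.log.subs = [0, 1, 8] ∧ [6, 6].all (fun l => Nat.blt l CertK0.log.ng) = true) ∧
      (CertK1.log.subs = [0, 1, 8] ∧ [6, 6].all (fun l => Nat.blt l CertK1.log.ng) = true) ∧
      (CertK3.log.subs = [0, 1, 8] ∧ [6, 6].all (fun l => Nat.blt l CertK3.log.ng) = true)) ∧
    (CertU1.log.subs = [0, 1, 8, 9, 10] ∧ [6, 6].all (fun l => Nat.blt l CertU1.log.ng) = true) ∧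
    (CertU2.log.subs = [0, 1, 8, 9, 10] ∧ [6, 6].all (fun l => Nat.blt l CertU2.log.ng) = true) ∧
    (CertU3.log.subs = [0, 1, 8, 9, 10] ∧ [6, 6].all (fun l => Nat.blt l CertU3.log.ng) = true) := by
  decide +kernel

theorem all_blt {w : List ℕ} {n : ℕ} (h : (w.all fun l => Nat.blt l n) = true) : ∀ l ∈ w, l < n := fun l hl =>
  Nat.le_of_ble_eq_true (List.all_eq_true.1 h l hl)

variable {G : Type*} [Group G] {L : Loc G} {C : Coord L} {I : Inv C}

/-- The letters. -/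
def lets (x y r a c s u : G) : ℕ → G
  | 0 => x
  | 1 => x⁻¹
  | 2 => y
  | 3 => r
  | 4 => a
  | 5 => a⁻¹
  | 6 => c
  | 7 => c⁻¹
  | 8 => s
  | 9 => u
  | 10 => u⁻¹
  | _ => 1

theorem lets_iv {x y r a c s u : G} (hy : y * y = 1) (hr : r * r = 1) (hs : s * s = 1) :
    ∀ l < 11, lets x y r a c s u (ivL.getD l 0) = (lets x y r a c s u l)⁻¹ := by
  intro l hl
  interval_cases l <;> first
    | rfl
    | exact (inv_inv _).symm
    | exact (inv_eq_of_mul_eq_one_left hy).symm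
    | exact (inv_eq_of_mul_eq_one_left hr).symm
    | exact (inv_eq_of_mul_eq_one_left hs).symm

theorem Loc.conj_zc (L : Loc G) {h z : G} (hh : h ∈ L.H) (hz : z ∈ zpowers L.c) : h * z * h⁻¹ ∈ zpowers L.c := by
  obtain ⟨k, rfl⟩ := mem_zpowers_iff.1 hz
  rw [← conj_zpow]
  rcases L.conj_c hh with e | e <;> rw [e]
  · exact zpow_mem (mem_zpowers _) _
  · exact zpow_mem (inv_mem (mem_zpowers _)) _

variable [Finite G]

/-- Elements of order three over the same image are conjugate under the two-radical. -/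
theorem R_conj (C : Coord L) (hx : L.φ ⟨C.x, C.x_H⟩ = sig0) {x' : G} (h3 : x' * x' * x' = 1) (hH : x' ∈ L.H)
    (hφ : L.φ ⟨x', hH⟩ = sig0) : ∃ r ∈ L.R, x' * r = r * C.x := by
  classical
  haveI : Fact (Nat.Prime 3) := ⟨Nat.prime_three⟩
  have hρ : C.x⁻¹ * x' ∈ L.R := by
    have : L.φ (⟨C.x, C.x_H⟩⁻¹ * ⟨x', hH⟩) = 1 := by rw [map_mul, map_inv, hx, hφ, inv_mul_cancel]
    exact (L.φ_ker _).1 this
  have hstep : ∀ r ∈ L.R, x' * r * C.x⁻¹ ∈ L.R := fun r hr => by
    have := L.R_norm C.x C.x_H _ (mul_mem hρ hr)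
    have e : C.x * (C.x⁻¹ * x' * r) * C.x⁻¹ = x' * r * C.x⁻¹ := by group
    rwa [e] at this
  let f : L.R → L.R := fun r => ⟨x' * r * C.x⁻¹, hstep r r.2⟩
  have hf3 : ∀ r, f (f (f r)) = r := fun r => Subtype.ext (by
    show x' * (x' * (x' * r * C.x⁻¹) * C.x⁻¹) * C.x⁻¹ = r
    calc x' * (x' * (x' * r * C.x⁻¹) * C.x⁻¹) * C.x⁻¹ = (x' * x' * x') * r * (C.x * C.x * C.x)⁻¹ := by group
      _ = r := by rw [h3, C.x3]; group)
  let σ : Equiv.Perm L.R := ⟨f, fun r => f (f r), fun r => hf3 r, fun r => hf3 r⟩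
  haveI : Fintype L.R := Fintype.ofFinite _
  obtain ⟨r, hr⟩ := Equiv.Perm.exists_fixed_point_of_prime (p := 3) (n := 1) (σ := σ)
    (by rw [← Nat.card_eq_fintype_card, L.card_R]; norm_num)
    (Equiv.ext fun r => hf3 r)
  have hr' : x' * r * C.x⁻¹ = r := congrArg Subtype.val hr
  exact ⟨r, r.2, by nth_rw 2 [← hr']; group⟩

/-- The further involution may be chosen with a braid relation. -/
theorem exists_braid (S : Cent I) (hx : L.φ ⟨C.x, C.x_H⟩ = sig0) :
    ∃ S' : Cent I, S'.r = S.r ∧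
      (S'.s * (C.b * I.y * C.b⁻¹)) * (S'.s * (C.b * I.y * C.b⁻¹)) * (S'.s * (C.b * I.y * C.b⁻¹)) = 1 := by
  classical
  set X : L.H := ⟨C.x, C.x_H⟩ with hX
  set Y : L.H := ⟨I.y, I.y_H⟩ with hY
  set A' : L.H := ⟨C.a, L.A_H C.a_A⟩ with hA'
  set B' : L.H := ⟨C.b, L.A_H C.b_A⟩ with hB'
  have hb : B' = X * A' * X⁻¹ := Subtype.ext rfl
  have hy2 : L.φ Y * L.φ Y = 1 := by
    rw [← map_mul, show Y * Y = 1 from Subtype.ext I.y_sq, map_one]
  have hyx : L.φ Y * sig0 * L.φ Y * sig0 = 1 := by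
    rw [← hx, ← map_mul, ← map_mul, ← map_mul, show Y * X * Y * X = 1 from Subtype.ext I.y_x, map_one]
  have haaV : C.a * C.a ∈ L.V := L.A_sq _ (mul_mem C.a_A C.a_A) (by
    rw [← L.A_exp C.a C.a_A]; simp [pow_succ, mul_assoc])
  have ha2 : L.φ A' * L.φ A' = 1 := by
    rw [← map_mul]; exact (L.φ_ker _).2 (L.V_le haaV)
  have ha1 : L.φ A' ≠ 1 := fun e => by
    rcases L.R_sq _ ((L.φ_ker _).1 e) with q | q
    · exact C.a_one q
    · exact C.a_t q
  have hya : L.φ Y * L.φ A' = L.φ A' * L.φ Y := by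
    rw [← map_mul, ← map_mul]
    congr 1
    refine Subtype.ext ?_
    show I.y * C.a = C.a * I.y
    calc I.y * C.a = I.y * C.a * I.y * I.y⁻¹ := by group
      _ = C.a * I.y := by rw [I.y_a, I.inv_y]
  have hbphi : L.φ B' = sig0 * L.φ A' * sig0⁻¹ := by rw [hb, map_mul, map_mul, map_inv, ← hx]
  have hba : sig0 * L.φ A' * sig0⁻¹ * L.φ A' = L.φ A' * (sig0 * L.φ A' * sig0⁻¹) := by
    rw [← hbphi, ← map_mul, ← map_mul]
    congr 1
    exact Subtype.ext (L.A_comm _ C.b_A _ C.a_A)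
  have hnorm : sig0 * (sig0 * L.φ A' * sig0⁻¹) * sig0⁻¹ * (sig0 * L.φ A' * sig0⁻¹) * L.φ A' = 1 := by
    rw [← hx, ← map_inv, ← map_mul, ← map_mul, ← map_mul, ← map_mul, ← map_mul, ← map_mul, ← map_one L.φ]
    congr 1
    exact Subtype.ext C.norm
  obtain ⟨hη, hfive⟩ := five_facts _ hy2 hyx
  obtain ⟨w3, w1⟩ := hfive _ ha2 ha1 hya hba hnorm
  set W : L.H := ⟨S.s, S.s_H⟩ * (B' * Y * B'⁻¹) with hW
  have hWφ : L.φ W = tau0 * (sig0 * L.φ A' * sig0⁻¹ * L.φ Y * (sig0 * L.φ A' * sig0⁻¹)⁻¹) := by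
    rw [hW, map_mul, map_mul, map_mul, map_inv, hbphi, S.φ_s]
  obtain ⟨g, hg⟩ := three_conj (σ := L.φ W) (by rw [hWφ]; exact w3) (by rw [hWφ]; exact w1)
  obtain ⟨h, rfl⟩ := L.φ_surj g
  set Q : L.H := h * W * h⁻¹ with hQ
  have hQφ : L.φ Q = sig0 := by rw [hQ, map_mul, map_mul, map_inv, hg]
  have hW3 : ((W ^ 3 : L.H) : G) ∈ L.R := (L.φ_ker _).1 (by rw [map_pow, hWφ]; exact w3)
  set ρ : G := ((W ^ 3 : L.H) : G) with hρ
  have hQ3 : ((Q ^ 3 : L.H) : G) = (h : G) * ρ * (h : G)⁻¹ := by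
    rw [hQ, conj_pow, hρ]; rfl
  have hQ4φ : L.φ (Q ^ 4) = sig0 := by
    rw [map_pow, hQφ, pow_succ, pow_succ, pow_two, sig0_facts.1, one_mul]
  have hρ4 : ρ ^ 4 = 1 := by
    rw [show (4 : ℕ) = 2 * 2 from rfl, pow_mul, pow_two, pow_two]
    rcases L.R_sq _ hW3 with e | e <;> rw [e]
    · rw [one_mul]
    · exact L.t_sq
  have hQ4 : ((Q ^ 4 : L.H) : G) * ((Q ^ 4 : L.H) : G) * ((Q ^ 4 : L.H) : G) = 1 := by
    have e : (Q ^ 4) * (Q ^ 4) * (Q ^ 4) = (Q ^ 3) ^ 4 := by rw [← pow_add, ← pow_add, ← pow_mul]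
    rw [← Subgroup.coe_mul, ← Subgroup.coe_mul, e, Subgroup.coe_pow, hQ3, conj_pow, hρ4, mul_one, mul_inv_cancel]
  obtain ⟨r, hr, hrx⟩ := R_conj C hx hQ4 (Q ^ 4).2 hQ4φ
  have hcom : Commute ((Q ^ 4 : L.H) : G) ((h : G) * ρ * (h : G)⁻¹) := by
    rw [← hQ3]
    exact ((Commute.refl Q).pow_pow 4 3).map L.H.subtype
  have hρ' : (h : G) * ρ * (h : G)⁻¹ ∈ L.R := L.R_norm _ h.2 _ hW3
  have hz : r⁻¹ * ((h : G) * ρ * (h : G)⁻¹) * r ∈ zpowers L.c := by
    refine cent_x_R S.s_H S.s_x hx S.φ_s (mul_mem (mul_mem (inv_mem hr) hρ') hr) ?_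
    have e : C.x = r⁻¹ * ((Q ^ 4 : L.H) : G) * r := by rw [mul_assoc, hrx]; group
    rw [e]
    calc r⁻¹ * ((Q ^ 4 : L.H) : G) * r * (r⁻¹ * ((h : G) * ρ * (h : G)⁻¹) * r)
        = r⁻¹ * (((Q ^ 4 : L.H) : G) * ((h : G) * ρ * (h : G)⁻¹)) * r := by group
      _ = r⁻¹ * (((h : G) * ρ * (h : G)⁻¹) * ((Q ^ 4 : L.H) : G)) * r := by rw [hcom.eq]
      _ = _ := by group
  have hρc : ρ ∈ zpowers L.c := by
    have h1 := L.conj_zc (L.R_le hr) hz
    have h2 := L.conj_zc (inv_mem h.2) h1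
    have e : (h : G)⁻¹ * (r * (r⁻¹ * ((h : G) * ρ * (h : G)⁻¹) * r) * r⁻¹) * ((h : G)⁻¹)⁻¹ = ρ := by group
    rwa [e] at h2
  obtain ⟨m, hm⟩ := (Submonoid.mem_powers_iff _ _).1
    ((isOfFinOrder_of_finite L.c).mem_powers_iff_mem_zpowers.2 hρc)
  set d := L.c ^ (3 * m) with hd
  have hds : d * S.s = S.s * d⁻¹ := by
    have : S.s * d * S.s⁻¹ = d⁻¹ := by rw [hd, ← conj_pow, S.inv_s, S.scs, inv_pow]
    calc d * S.s = (S.s * d * S.s⁻¹)⁻¹ * S.s := by rw [this, inv_inv]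
      _ = S.s * d⁻¹ := by group
  have hdy : d * I.y = I.y * d⁻¹ := by
    have : I.y * d * I.y⁻¹ = d⁻¹ := by rw [hd, ← conj_pow, I.inv_y, I.ycy, inv_pow]
    calc d * I.y = (I.y * d * I.y⁻¹)⁻¹ * I.y := by rw [this, inv_inv]
      _ = I.y * d⁻¹ := by group
  have hdA : d ∈ L.A := pow_mem L.c_A _
  have hdH : S.s * d ∈ L.H := mul_mem S.s_H (L.A_H hdA)
  obtain ⟨k, hk⟩ := S.s_y
  let S' : Cent I :=
    { s := S.s * d
      s_H := hdH
      s_sq := by
        calc S.s * d * (S.s * d) = S.s * (d * S.s) * d := by group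
          _ = S.s * S.s := by rw [hds]; group
          _ = 1 := S.s_sq
      s_x := by
        have : Commute C.x d := Commute.pow_right C.x_c _
        rw [mul_assoc, ← this.eq, ← mul_assoc, S.s_x, mul_assoc]
      s_c := by
        have : Commute d L.c := Commute.pow_self _ _
        calc S.s * d * L.c * (S.s * d) * L.c = S.s * L.c * (d * S.s) * (L.c * d) := by
              rw [show S.s * d * L.c * (S.s * d) * L.c = S.s * (d * L.c) * S.s * (d * L.c) by group, this.eq]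
              rw [show S.s * (L.c * d) * S.s * (L.c * d) = S.s * L.c * (d * S.s) * (L.c * d) by group]
          _ = S.s * L.c * S.s * (d⁻¹ * (L.c * d)) := by rw [hds]; group
          _ = S.s * L.c * S.s * L.c := by rw [← this.eq]; group
          _ = 1 := S.s_c
      s_y := by
        refine ⟨k + 3 * (3 * m) + 3 * (3 * m), ?_⟩
        have h4 : d⁻¹ = L.c ^ (3 * (3 * m)) := by
          refine inv_eq_of_mul_eq_one_left ?_
          rw [hd, ← pow_add, show 3 * (3 * m) + 3 * m = 4 * (3 * m) by ring, pow_mul, L.c_four, one_pow]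
        calc I.y * (S.s * d) * I.y = I.y * S.s * (d * I.y) := by group
          _ = (I.y * S.s * I.y) * d⁻¹ := by rw [hdy]; group
          _ = S.s * L.c ^ k * d⁻¹ := by rw [hk]
          _ = S.s * d * (L.c ^ k * d⁻¹ * d⁻¹) := by
              have : Commute (L.c ^ k * d⁻¹) d⁻¹ :=
                ((Commute.pow_pow (Commute.refl L.c) k (3 * m)).mul_left (Commute.inv_left (Commute.refl d))).inv_right
              rw [this.eq]; group
          _ = _ := by rw [h4, ← pow_add, ← pow_add]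
      φ_s := by
        have e : (⟨S.s * d, hdH⟩ : L.H) = ⟨S.s, S.s_H⟩ * ⟨d, L.R_le (pow_mem L.c_R _)⟩ := Subtype.ext rfl
        rw [e, map_mul, Coord.phi_R (pow_mem L.c_R _), mul_one, S.φ_s] }
  refine ⟨S', ?_, ?_⟩
  · show S.s * d * (C.a * C.a) * (S.s * d) = S.s * (C.a * C.a) * S.s
    have : Commute d (C.a * C.a) := L.A_comm _ hdA _ (mul_mem C.a_A C.a_A)
    calc S.s * d * (C.a * C.a) * (S.s * d) = S.s * (d * (C.a * C.a)) * S.s * d := by group
      _ = S.s * (C.a * C.a) * (d * S.s) * d := by rw [this.eq]; group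
      _ = _ := by rw [hds]; group
  · show S.s * d * (C.b * I.y * C.b⁻¹) * (S.s * d * (C.b * I.y * C.b⁻¹)) * (S.s * d * (C.b * I.y * C.b⁻¹)) = 1
    set z := C.b * I.y * C.b⁻¹ with hz'
    have hdb : Commute d C.b := L.A_comm _ hdA _ C.b_A
    have hdz : d * z = z * d⁻¹ := by
      calc d * z = (d * C.b) * I.y * C.b⁻¹ := by rw [hz']; group
        _ = C.b * (d * I.y) * C.b⁻¹ := by rw [hdb.eq]; group
        _ = C.b * I.y * (C.b * d)⁻¹ := by rw [hdy]; group
        _ = z * d⁻¹ := by rw [← hdb.eq, hz']; group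
    have hcom' : Commute d (S.s * z) := by
      have hdi : d⁻¹ * z = z * d := by
        calc d⁻¹ * z = d⁻¹ * (z * d⁻¹) * d := by group
          _ = z * d := by rw [← hdz]; group
      show d * (S.s * z) = S.s * z * d
      calc d * (S.s * z) = d * S.s * z := (mul_assoc _ _ _).symm
        _ = S.s * (d⁻¹ * z) := by rw [hds]; group
        _ = S.s * (z * d) := by rw [hdi]
        _ = _ := (mul_assoc _ _ _).symm
    have hw3 : (S.s * z) * (S.s * z) * (S.s * z) = L.c ^ m := by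
      rw [hm, hρ, pow_succ, pow_two]; rfl
    calc S.s * d * z * (S.s * d * z) * (S.s * d * z)
        = S.s * (d * z) * (S.s * (d * z)) * (S.s * (d * z)) := by group
      _ = (S.s * z) * (d⁻¹ * (S.s * z)) * d⁻¹ * (S.s * z) * d⁻¹ := by rw [hdz]; group
      _ = (S.s * z) * (S.s * z) * ((d⁻¹ * d⁻¹) * (S.s * z)) * d⁻¹ := by rw [hcom'.inv_left.eq]; group
      _ = (S.s * z) * (S.s * z) * (S.s * z) * (d⁻¹ * d⁻¹ * d⁻¹) := by
          rw [(hcom'.inv_left.mul_left hcom'.inv_left).eq]; group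
      _ = 1 := by
          rw [hw3, hd, ← mul_inv_rev, ← mul_inv_rev, ← pow_add, ← pow_add]
          refine mul_inv_eq_one.2 ?_
          rw [show 3 * m + (3 * m + 3 * m) = m + 4 * (2 * m) by ring, pow_add, pow_mul L.c 4, L.c_four, one_pow,
            mul_one]

/-- The relators of the common part hold. -/
theorem rels_B (S : Cent I) (ha : S.r * C.a * S.r = C.a⁻¹) (hb : S.r * C.b * S.r = C.P (1, 2, 3)) (e u : G) :
    ∀ w ∈ relsB, wvx (lets C.x I.y S.r C.a L.c e u) w = 1 := by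
  have hc4 : L.c ^ 4 = 1 := L.c_four
  have ha4 := L.A_exp C.a C.a_A
  simp only [pow_succ, pow_zero, one_mul] at hc4 ha4
  intro w hw
  simp only [relsB, List.mem_cons, List.not_mem_nil, or_false] at hw
  rcases hw with rfl | rfl | rfl | rfl | rfl | rfl | rfl | rfl | rfl | rfl | rfl | rfl | rfl | rfl | rfl | rfl | rfl | rfl <;>
    simp only [wvx, List.map_cons, List.map_nil, List.prod_cons, List.prod_nil, lets, mul_one]
  · rw [← mul_assoc]; exact C.x3
  · exact I.y_sq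
  · exact S.r_sq
  · rw [← mul_assoc, ← mul_assoc]; exact ha4
  · rw [← mul_assoc, ← mul_assoc]; exact hc4
  · rw [← mul_assoc, L.A_comm _ C.a_A _ L.c_A]; group
  · have h : Commute C.a C.b := L.A_comm _ C.a_A _ C.b_A
    calc C.a * (C.x * (C.a * (C.x⁻¹ * (C.a⁻¹ * (C.x * (C.a⁻¹ * C.x⁻¹))))))
        = (C.a * C.b) * (C.a⁻¹ * C.b⁻¹) := by rw [Coord.b]; group
      _ = 1 := by rw [h.eq]; group
  · rw [← mul_assoc, ← mul_assoc]; exact I.y_x
  · rw [← mul_assoc, C.x_c]; group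
  · rw [← mul_assoc, ← mul_assoc]; exact I.y_c
  · rw [← mul_assoc, ← mul_assoc, I.y_a, mul_inv_cancel]
  · calc I.y * (S.r * (I.y * S.r)) = I.y * (S.r * I.y) * S.r := by group
      _ = (I.y * I.y) * (S.r * S.r) := by rw [← S.r_y]; group
      _ = 1 := by rw [I.y_sq, S.r_sq, one_mul]
  · calc S.r * (L.c * (S.r * L.c⁻¹)) = (S.r * L.c) * S.r * L.c⁻¹ := by group
      _ = L.c * (S.r * S.r) * L.c⁻¹ := by rw [S.r_c]; group
      _ = 1 := by rw [S.r_sq]; group
  · rw [← C.norm]; group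
  · calc S.r * (C.x * (S.r * (C.x⁻¹ * (S.r * (C.x * (S.r * C.x⁻¹))))))
        = S.r * (C.x * S.r * C.x⁻¹) * S.r * (C.x * S.r * C.x⁻¹) := by group
      _ = C.x * S.r * C.x⁻¹ * (S.r * S.r) * (C.x * S.r * C.x⁻¹) := by rw [S.r_comm]; group
      _ = C.x * S.r * C.x⁻¹ * 1 * (C.x * S.r * C.x⁻¹) := by rw [S.r_sq]
      _ = C.x * (S.r * S.r) * C.x⁻¹ := by group
      _ = 1 := by rw [S.r_sq]; group
  · rw [← S.norm_r]; group
  · calc S.r * (C.a * (S.r * C.a)) = S.r * C.a * S.r * C.a := by group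
      _ = 1 := by rw [ha, inv_mul_cancel]
  · calc S.r * (C.x * (C.a * (C.x⁻¹ * (S.r * (C.x * (C.a * (C.x⁻¹ * (C.a⁻¹ * (C.a⁻¹ * L.c⁻¹)))))))))
        = (S.r * C.b * S.r) * C.b * C.a⁻¹ * C.a⁻¹ * L.c⁻¹ := by rw [Coord.b]; group
      _ = C.P ((1, 2, 3) + (0, 0, 1) + -(0, 1, 0) + -(0, 1, 0) + -(1, 0, 0)) := by
          rw [hb, C.P_add, C.P_add, C.P_add, C.P_add, C.P_neg, C.P_neg, C.P_b, C.P_a, C.P_c]
      _ = 1 := by rw [← C.P_zero]; exact congrArg C.P (by decide)

/-- The relators of the element of order seven hold. -/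
theorem rels_U {S : Cent I} (T : Seven S) (e : G) {j : Fin 4}
    (hj : I.y * T.u * (I.y * T.u) * (I.y * T.u) = C.P (alV j)) :
    ∀ w ∈ relsU (alW j), wvx (lets C.x I.y S.r C.a L.c e T.u) w = 1 := by
  intro w hw
  simp only [relsU, relsU0, List.cons_append, List.nil_append, List.mem_cons, List.not_mem_nil, or_false] at hw
  rcases hw with rfl | rfl | rfl | rfl | rfl | rfl | rfl
  · simp only [wvx, List.map_cons, List.map_nil, List.prod_cons, List.prod_nil, lets, mul_one]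
    rw [← T.u_seven]; simp only [pow_succ, pow_zero, one_mul, mul_assoc]
  · simp only [wvx, List.map_cons, List.map_nil, List.prod_cons, List.prod_nil, lets, mul_one]
    calc C.x * (T.u * (C.x⁻¹ * (T.u⁻¹ * T.u⁻¹))) = C.x * T.u * C.x⁻¹ * (T.u * T.u)⁻¹ := by group
      _ = 1 := by rw [T.u_x, mul_inv_cancel]
  · simp only [wvx, List.map_cons, List.map_nil, List.prod_cons, List.prod_nil, lets, mul_one]
    calc T.u * (L.c * (T.u⁻¹ * (C.x * (C.a * (C.x⁻¹ * (L.c⁻¹ * L.c⁻¹))))))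
        = (T.u * L.c * T.u⁻¹) * C.b * L.c⁻¹ * L.c⁻¹ := by rw [Coord.b]; group
      _ = C.P ((2, 0, 3) + (0, 0, 1) + -(1, 0, 0) + -(1, 0, 0)) := by
          rw [T.u_c, C.P_add, C.P_add, C.P_add, C.P_neg, C.P_b, C.P_c]
      _ = 1 := by rw [← C.P_zero]; exact congrArg C.P (by decide)
  · simp only [wvx, List.map_cons, List.map_nil, List.prod_cons, List.prod_nil, lets, mul_one]
    calc T.u * (C.a * (T.u⁻¹ * (C.a * L.c⁻¹))) = (T.u * C.a * T.u⁻¹) * C.a * L.c⁻¹ := by group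
      _ = C.P ((1, 3, 0) + (0, 1, 0) + -(1, 0, 0)) := by
          rw [T.u_a, C.P_add, C.P_add, C.P_neg, C.P_a, C.P_c]
      _ = 1 := by rw [← C.P_zero]; exact congrArg C.P (by decide)
  · simp only [wvx, List.map_cons, List.map_nil, List.prod_cons, List.prod_nil, lets, mul_one]
    calc T.u * (C.x * (C.a * (C.x⁻¹ * (T.u⁻¹ * (C.x * (C.a⁻¹ * (C.x⁻¹ * (C.a * (L.c⁻¹ * L.c⁻¹)))))))))
        = (T.u * C.b * T.u⁻¹) * C.b⁻¹ * C.a * L.c⁻¹ * L.c⁻¹ := by rw [Coord.b]; group
      _ = C.P ((2, 3, 1) + -(0, 0, 1) + (0, 1, 0) + -(1, 0, 0) + -(1, 0, 0)) := by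
          rw [T.u_b, C.P_add, C.P_add, C.P_add, C.P_add, C.P_neg, C.P_neg, C.P_b, C.P_a, C.P_c]
      _ = 1 := by rw [← C.P_zero]; exact congrArg C.P (by decide)
  · rw [show (2 :: 9 :: 2 :: 9 :: 2 :: 9 :: winv (alW j)) = [2, 9, 2, 9, 2, 9] ++ winv (alW j) from rfl, wvx_append]
    simp only [wvx, List.map_cons, List.map_nil, List.prod_cons, List.prod_nil, lets, mul_one]
    have e1 : I.y * (T.u * (I.y * (T.u * (I.y * T.u)))) = C.P (alV j) := by rw [← hj]; group
    rw [e1]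
    fin_cases j <;>
      simp only [alW, alV, winv, ivL, List.reverse_cons, List.reverse_nil, List.nil_append, List.cons_append,
        List.map_cons, List.map_nil, List.prod_cons, List.prod_nil, List.getD_cons_succ, List.getD_cons_zero, lets,
        mul_one]
    · exact C.P_zero
    · rw [show C.x * (C.a⁻¹ * (C.a⁻¹ * C.x⁻¹)) = C.b⁻¹ * C.b⁻¹ by rw [Coord.b]; group,
        show ((0, 0, 2) : E4) = (0, 0, 1) + (0, 0, 1) by decide, C.P_add, C.P_b]
      group
    · rw [show C.x * (C.a⁻¹ * (C.x⁻¹ * (L.c⁻¹ * L.c⁻¹))) = C.b⁻¹ * (L.c⁻¹ * L.c⁻¹) by rw [Coord.b]; group,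
        show ((2, 0, 1) : E4) = (1, 0, 0) + (1, 0, 0) + (0, 0, 1) by decide, C.P_add, C.P_add, C.P_b, C.P_c]
      group
    · rw [show C.x * (C.a * (C.x⁻¹ * (L.c⁻¹ * L.c⁻¹))) = C.b * (L.c⁻¹ * L.c⁻¹) by rw [Coord.b]; group,
        show ((2, 0, 3) : E4) = (1, 0, 0) + (1, 0, 0) + -(0, 0, 1) by decide, C.P_add, C.P_add, C.P_neg, C.P_b,
        C.P_c]
      group
  · simp only [wvx, List.map_cons, List.map_nil, List.prod_cons, List.prod_nil, lets, mul_one]
    rw [← T.sq]; group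

/-- The relators of the further involution hold. -/
theorem rels_S (S : Cent I)
    (hbr : (S.s * (C.b * I.y * C.b⁻¹)) * (S.s * (C.b * I.y * C.b⁻¹)) * (S.s * (C.b * I.y * C.b⁻¹)) = 1) (u : G) :
    ∃ k : Fin 4, ∀ w ∈ relsS k, wvx (lets C.x I.y S.r C.a L.c S.s u) w = 1 := by
  obtain ⟨n, hn⟩ := S.s_y
  refine ⟨⟨n % 4, Nat.mod_lt _ (by norm_num)⟩, ?_⟩
  set k : Fin 4 := ⟨n % 4, Nat.mod_lt _ (by norm_num)⟩ with hk
  have hn' : I.y * S.s * I.y = S.s * L.c ^ k.val := by rw [hn, hk]; exact congrArg _ (pow_eq_pow_mod _ L.c_four)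
  intro w hw
  simp only [relsS, List.cons_append, List.nil_append, List.mem_cons, List.not_mem_nil, or_false] at hw
  rcases hw with rfl | rfl | rfl | rfl | rfl | rfl
  · simp only [wvx, List.map_cons, List.map_nil, List.prod_cons, List.prod_nil, lets, mul_one]
    exact S.s_sq
  · simp only [wvx, List.map_cons, List.map_nil, List.prod_cons, List.prod_nil, lets, mul_one]
    calc S.s * (C.x * (S.s * C.x⁻¹)) = (S.s * C.x) * S.s * C.x⁻¹ := by group
      _ = C.x * (S.s * S.s) * C.x⁻¹ := by rw [S.s_x]; group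
      _ = 1 := by rw [S.s_sq]; group
  · simp only [wvx, List.map_cons, List.map_nil, List.prod_cons, List.prod_nil, lets, mul_one]
    rw [← S.s_c]; group
  · rw [show (2 :: 8 :: 2 :: winv (8 :: cw k)) = [2, 8, 2] ++ winv (8 :: cw k) from rfl, wvx_append]
    have e1 : wvx (lets C.x I.y S.r C.a L.c S.s u) [2, 8, 2] = S.s * L.c ^ k.val := by
      simp only [wvx, List.map_cons, List.map_nil, List.prod_cons, List.prod_nil, lets, mul_one]
      rw [← hn']; group
    have hc4 := L.c_four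
    have e2 : wvx (lets C.x I.y S.r C.a L.c S.s u) (winv (8 :: cw k)) = (L.c ^ k.val)⁻¹ * S.s := by
      clear_value k
      fin_cases k <;>
        simp only [cw, winv, ivL, wvx, List.reverse_cons, List.reverse_nil, List.nil_append, List.cons_append,
          List.map_cons, List.map_nil, List.prod_cons, List.prod_nil, List.getD_cons_succ, List.getD_cons_zero, lets,
          mul_one]
      · simp
      · simp
      · simp [pow_two, mul_assoc]
      · rw [inv_eq_of_mul_eq_one_left (show L.c * L.c ^ 3 = 1 by rw [← pow_succ', hc4])]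
    rw [e1, e2]
    calc S.s * L.c ^ k.val * ((L.c ^ k.val)⁻¹ * S.s) = S.s * S.s := by group
      _ = 1 := S.s_sq
  · simp only [wvx, List.map_cons, List.map_nil, List.prod_cons, List.prod_nil, lets, mul_one]
    calc S.s * (C.a * (C.a * (S.s * S.r))) = (S.s * (C.a * C.a) * S.s) * S.r := by group
      _ = 1 := S.r_sq
  · simp only [wvx, List.map_cons, List.map_nil, List.prod_cons, List.prod_nil, lets, mul_one]
    rw [← hbr, Coord.b]; group

/-- The abelian normal subgroup lies in the group generated by the first letters. -/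
theorem A_le_letters (S : Cent I) (u : G) : L.A ≤ closure (lets C.x I.y S.r C.a L.c S.s u '' Set.Iio 9) := by
  intro g hg
  obtain ⟨v, rfl⟩ := C.P_surj hg
  have hm : ∀ l < 9, lets C.x I.y S.r C.a L.c S.s u l ∈ closure (lets C.x I.y S.r C.a L.c S.s u '' Set.Iio 9) :=
    fun l hl => subset_closure ⟨l, hl, rfl⟩
  exact mul_mem (mul_mem (pow_mem (hm 6 (by norm_num)) _) (pow_mem (hm 4 (by norm_num)) _))
    (pow_mem (mul_mem (mul_mem (hm 0 (by norm_num)) (hm 4 (by norm_num))) (hm 1 (by norm_num))) _)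

/-- The first letters generate the centralizer. -/
theorem letters_H (S : Cent I) (hx : L.φ ⟨C.x, C.x_H⟩ = sig0) (ha : S.r * C.a * S.r = C.a⁻¹)
    (hb : S.r * C.b * S.r = C.P (1, 2, 3)) (u : G) :
    closure (lets C.x I.y S.r C.a L.c S.s u '' Set.Iio 9) = L.H := by
  classical
  set K := closure (lets C.x I.y S.r C.a L.c S.s u '' Set.Iio 9)
  have hm : ∀ l < 9, lets C.x I.y S.r C.a L.c S.s u l ∈ K := fun l hl => subset_closure ⟨l, hl, rfl⟩
  have hle : K ≤ L.H := by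
    rw [closure_le]
    rintro _ ⟨l, hl, rfl⟩
    simp only [Set.mem_Iio] at hl
    interval_cases l
    exacts [C.x_H, inv_mem C.x_H, I.y_H, L.R_le S.r_R, L.A_H C.a_A, inv_mem (L.A_H C.a_A), L.c_H, inv_mem L.c_H,
      S.s_H]
  have hB : L.H ⊓ L.M ≤ K := by
    rintro g ⟨hgH, hgM⟩
    have hcol : sm 2 (Coord.ofBits (Coord.toBits (C.mat g))).1 = (2, 0, 0) := by
      have e := congrArg Prod.fst (Coord.r2_bits (C.mat g))
      rw [show sm 2 (Coord.ofBits (Coord.toBits (C.mat g))).1 = sm 2 (C.mat g).1 from e,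
        ← (app_basis (C.mat g)).1, ← app_two]
      refine C.P_inj ?_
      rw [← C.conj_app hgM, show ((1, 0, 0) : E4) + (1, 0, 0) = (2, 0, 0) by decide, C.P_t,
        ← (L.t_comm hgH).eq]
      group
    obtain ⟨i, e, p, q, h⟩ := common_bits _ (by rw [Coord.det_r2 (Coord.r2_bits _)]; exact C.r2_unit hgM) hcol
    rw [Coord.r2_bits] at h
    have hxK : C.x ∈ K := hm 0 (by norm_num)
    have hyK : (bif e then I.y else 1 : G) ∈ K := by cases e; exacts [one_mem _, hm 2 (by norm_num)]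
    have hrK : (bif p then S.r else 1 : G) ∈ K := by cases p; exacts [one_mem _, hm 3 (by norm_num)]
    have hqK : (bif q then C.x * (S.r * (C.x * C.x)) else 1 : G) ∈ K := by
      cases q
      exacts [one_mem _, mul_mem hxK (mul_mem (hm 3 (by norm_num)) (mul_mem hxK hxK))]
    have hyM : (bif e then I.y else 1 : G) ∈ L.M := by cases e; exacts [one_mem _, I.y_M]
    have hrM : (bif p then S.r else 1 : G) ∈ L.M := by cases p; exacts [one_mem _, S.r_M]
    have hxx : C.x * C.x ∈ L.M := mul_mem C.x_M C.x_M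
    have hqM : (bif q then C.x * (S.r * (C.x * C.x)) else 1 : G) ∈ L.M := by
      cases q
      exacts [one_mem _, mul_mem C.x_M (mul_mem S.r_M hxx)]
    have h1 := pow_mem C.x_M i.val
    have h2 := mul_mem (mul_mem (mul_mem h1 hyM) hrM) hqM
    have hy' : C.mat (bif e then I.y else 1) = bif e then mY else idM := by
      cases e; exacts [C.mat_one, I.mat_y]
    have hr' : C.mat (bif p then S.r else 1) = bif p then mR else idM := by
      cases p; exacts [C.mat_one, S.mat_r ha hb]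
    have hq' : C.mat (bif q then C.x * (S.r * (C.x * C.x)) else 1) = bif q then mm mX (mm mR (mm mX mX)) else idM := by
      cases q
      · exact C.mat_one
      · rw [cond_true, cond_true, C.mat_mul C.x_M (mul_mem S.r_M hxx), C.mat_mul S.r_M hxx,
          C.mat_mul C.x_M C.x_M, C.mat_x, S.mat_r ha hb]
    have hA := C.mem_A_of_r2 hgM h2 (by
      rw [C.mat_mul (mul_mem (mul_mem h1 hyM) hrM) hqM, C.mat_mul (mul_mem h1 hyM) hrM, C.mat_mul h1 hyM,
        C.mat_pow C.x_M, C.mat_x, hy', hr', hq']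
      exact h)
    have hprod := mul_mem (mul_mem (mul_mem (mul_mem (pow_mem hxK i.val) hyK) hrK) hqK) (A_le_letters S u hA)
    rwa [mul_inv_cancel_left] at hprod
  have hsK : S.s ∈ K := hm 8 (by norm_num)
  have hdvd := Subgroup.card_dvd_of_le hB
  rw [L.card_B] at hdvd
  have hdvd' := Subgroup.card_dvd_of_le hle
  rw [L.card_H] at hdvd'
  obtain ⟨d, hd⟩ := hdvd
  have hd5 : d ∣ 5 := by
    rw [hd, show 7680 = 1536 * 5 by norm_num] at hdvd'
    exact Nat.dvd_of_mul_dvd_mul_left (by norm_num) hdvd'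
  refine Subgroup.eq_of_le_of_card_ge hle ?_
  rcases (Nat.dvd_prime (show Nat.Prime 5 by norm_num)).1 hd5 with rfl | rfl
  · exfalso
    have := Subgroup.eq_of_le_of_card_ge hB (by rw [hd, L.card_B])
    rw [← this] at hsK
    exact not_M S.s_H S.s_x hx S.φ_s hsK.2
  · rw [hd, L.card_H]

/-- The cube is trivial. -/
theorem cube_zero {S : Cent I} (T : Seven S) (ha : S.r * C.a * S.r = C.a⁻¹) (hb : S.r * C.b * S.r = C.P (1, 2, 3))
    {j : Fin 4} (hj : I.y * T.u * (I.y * T.u) * (I.y * T.u) = C.P (alV j)) : j = 0 := by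
  classical
  set im := lets C.x I.y S.r C.a L.c 1 T.u with him
  have hsat : Sat im (relsM j) := ⟨lets_iv I.y_sq S.r_sq (one_mul 1), fun w hw => by
    rcases List.mem_append.1 hw with hw | hw
    · rcases List.mem_append.1 hw with hw | hw
      · exact rels_B S ha hb 1 T.u w hw
      · exact rels_U T 1 hj w hw
    · simp only [List.mem_cons, List.not_mem_nil, or_false] at hw
      subst hw
      simp [wvx, him, lets]⟩
  have hxu : ∀ i n : ℕ, C.x ^ n * T.u ^ i = T.u ^ (2 ^ n * i) * C.x ^ n := by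
    intro i n
    induction n with
    | zero => simp
    | succ n ih =>
      have h1 : C.x * T.u ^ (2 ^ n * i) * C.x⁻¹ = T.u ^ (2 ^ (n + 1) * i) := by
        rw [← conj_pow, T.u_x, ← pow_two, ← pow_mul]
        congr 1
        ring
      calc C.x ^ (n + 1) * T.u ^ i = C.x * (C.x ^ n * T.u ^ i) := by rw [pow_succ', mul_assoc]
        _ = C.x * T.u ^ (2 ^ n * i) * C.x⁻¹ * (C.x * C.x ^ n) := by rw [ih]; group
        _ = _ := by rw [h1, ← pow_succ']
  let P := {g : G | ∃ i n : ℕ, g = T.u ^ i * C.x ^ n}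
  have hmul : ∀ p ∈ P, ∀ q ∈ P, p * q ∈ P := by
    rintro _ ⟨i, n, rfl⟩ _ ⟨i', n', rfl⟩
    refine ⟨i + 2 ^ n * i', n + n', ?_⟩
    calc T.u ^ i * C.x ^ n * (T.u ^ i' * C.x ^ n') = T.u ^ i * (C.x ^ n * T.u ^ i') * C.x ^ n' := by group
      _ = _ := by rw [hxu, pow_add, pow_add]; group
  have hpow : ∀ p ∈ P, ∀ k : ℕ, p ^ k ∈ P := fun p hp k => by
    induction k with
    | zero => exact ⟨0, 0, by simp⟩
    | succ k ih => rw [pow_succ]; exact hmul _ ih _ hp
  let K : Subgroup G :=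
    { carrier := P
      one_mem' := ⟨0, 0, by simp⟩
      mul_mem' := fun hp hq => hmul _ hp _ hq
      inv_mem' := fun {p} hp => by
        have : p⁻¹ = p ^ (orderOf p - 1) := inv_eq_of_mul_eq_one_left (by
          rw [← pow_succ, Nat.sub_add_cancel (orderOf_pos p), pow_orderOf_eq_one])
        rw [this]; exact hpow _ hp _ }
  have hxK : C.x ∈ K := ⟨0, 1, by simp⟩
  have huK : T.u ∈ K := ⟨1, 0, by simp⟩
  have hsub : ∀ l ∈ [0, 1, 8, 9, 10], im l ∈ K := by
    intro l hl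
    simp only [List.mem_cons, List.not_mem_nil, or_false] at hl
    rcases hl with rfl | rfl | rfl | rfl | rfl
    exacts [hxK, inv_mem hxK, one_mem _, huK, inv_mem huK]
  have hno : wvx im [6, 6] ∉ K := by
    rintro ⟨i, n, h⟩
    have e : L.t = T.u ^ (i % 7) * C.x ^ (n % 3) := by
      rw [← pow_eq_pow_mod _ T.u_seven, ← pow_eq_pow_mod _ (show C.x ^ 3 = 1 by rw [← C.x_ord, pow_orderOf_eq_one]),
        ← h, ← L.c_sq]
      simp [wvx, him, lets]
    have hm := C.mat_A (L.V_A L.t_V)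
    rw [e, C.mat_mul (pow_mem T.u_M _) (pow_mem C.x_M _), C.mat_pow T.u_M, C.mat_pow C.x_M, C.mat_x,
      C.mat_cols T.u_M T.u_c T.u_a T.u_b] at hm
    obtain ⟨h1, h2⟩ := order_21 ⟨i % 7, Nat.mod_lt _ (by norm_num)⟩ ⟨n % 3, Nat.mod_lt _ (by norm_num)⟩ hm
    simp only at h1 h2
    rw [h1, h2, pow_zero, pow_zero, one_mul] at e
    exact L.t_ne e
  obtain ⟨-, ⟨s1, n1⟩, ⟨s2, n2⟩, s3, n3⟩ := subs_K
  fin_cases j
  · rfl
  · exact absurd (hsat.close_mem fits_K.2.1 CertU1.letters CertU1.ok CertU1.close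
      (fun l hl _ => hsub l (s1 ▸ hl)) (all_blt n1)) hno
  · exact absurd (hsat.close_mem fits_K.2.2.1 CertU2.letters CertU2.ok CertU2.close
      (fun l hl _ => hsub l (s2 ▸ hl)) (all_blt n2)) hno
  · exact absurd (hsat.close_mem fits_K.2.2.2 CertU3.letters CertU3.ok CertU3.close
      (fun l hl _ => hsub l (s3 ▸ hl)) (all_blt n3)) hno

/-- The twist of the further involution is the central involution. -/
theorem twist_two (S : Cent I) (hx : L.φ ⟨C.x, C.x_H⟩ = sig0) (ha : S.r * C.a * S.r = C.a⁻¹)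
    (hb : S.r * C.b * S.r = C.P (1, 2, 3)) {k : Fin 4}
    (hk : ∀ w ∈ relsS k, wvx (lets C.x I.y S.r C.a L.c S.s 1) w = 1) : k = 2 := by
  classical
  set im := lets C.x I.y S.r C.a L.c S.s 1 with him
  have hsat : Sat im (relsB ++ relsS k) := ⟨lets_iv I.y_sq S.r_sq S.s_sq, fun w hw => by
    rcases List.mem_append.1 hw with hw | hw
    · exact rels_B S ha hb S.s 1 w hw
    · exact hk w hw⟩
  let K : Subgroup G :=
    { carrier := {g | ∃ i j : ℤ, g = C.x ^ i * S.s ^ j}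
      one_mem' := ⟨0, 0, by simp⟩
      mul_mem' := by
        rintro _ _ ⟨i, j, rfl⟩ ⟨i', j', rfl⟩
        refine ⟨i + i', j + j', ?_⟩
        have hc : Commute (S.s ^ j) (C.x ^ i') := (show Commute S.s C.x from S.s_x).zpow_zpow j i'
        rw [zpow_add, zpow_add, mul_assoc, ← mul_assoc (S.s ^ j), hc.eq]; group
      inv_mem' := by
        rintro _ ⟨i, j, rfl⟩
        refine ⟨-i, -j, ?_⟩
        have hc : Commute (S.s ^ j) (C.x ^ i) := (show Commute S.s C.x from S.s_x).zpow_zpow j i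
        rw [← hc.eq, mul_inv_rev, zpow_neg, zpow_neg] }
  have hxK : C.x ∈ K := ⟨1, 0, by simp⟩
  have hsK : S.s ∈ K := ⟨0, 1, by simp⟩
  have hsub : ∀ l ∈ [0, 1, 8], im l ∈ K := by
    intro l hl
    simp only [List.mem_cons, List.not_mem_nil, or_false] at hl
    rcases hl with rfl | rfl | rfl
    exacts [hxK, inv_mem hxK, hsK]
  have hno : wvx im [6, 6] ∉ K := by
    rintro ⟨i, j, h⟩
    have e : L.t = C.x ^ i * S.s ^ j := by rw [← h, ← L.c_sq]; simp [wvx, him, lets]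
    rcases Int.even_or_odd j with ⟨m, rfl⟩ | ⟨m, rfl⟩
    · have hs1 : S.s ^ (m + m) = 1 := by rw [zpow_add, ← (Commute.refl S.s).mul_zpow, S.s_sq, one_zpow]
      rw [hs1, mul_one] at e
      have h3 : L.t * L.t * L.t = 1 := by
        rw [e, ← zpow_add, ← zpow_add, show i + i + i = 3 * i by ring, zpow_mul,
          show C.x ^ (3 : ℤ) = 1 by rw [show (3 : ℤ) = ((3 : ℕ) : ℤ) from rfl, zpow_natCast, ← C.x_ord, pow_orderOf_eq_one],
          one_zpow]
      rw [L.t_sq, one_mul] at h3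
      exact L.t_ne h3
    · have hs1 : S.s ^ (2 * m + 1) = S.s := by
        rw [zpow_add, zpow_mul, zpow_two, S.s_sq, one_zpow, one_mul, zpow_one]
      rw [hs1] at e
      refine not_M S.s_H S.s_x hx S.φ_s ?_
      rw [show S.s = (C.x ^ i)⁻¹ * L.t by rw [e]; group]
      exact mul_mem (inv_mem (zpow_mem C.x_M _)) (L.A_le (L.V_A L.t_V))
  obtain ⟨⟨⟨s0, n0⟩, ⟨s1, n1⟩, s3, n3⟩, -⟩ := subs_K
  fin_cases k
  · exact absurd (hsat.close_mem fits_K.1.1 CertK0.letters CertK0.ok CertK0.close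
      (fun l hl _ => hsub l (s0 ▸ hl)) (all_blt n0)) hno
  · exact absurd (hsat.close_mem fits_K.1.2.1 CertK1.letters CertK1.ok CertK1.close
      (fun l hl _ => hsub l (s1 ▸ hl)) (all_blt n1)) hno
  · rfl
  · exact absurd (hsat.close_mem fits_K.1.2.2 CertK3.letters CertK3.ok CertK3.close
      (fun l hl _ => hsub l (s3 ▸ hl)) (all_blt n3)) hno

/-- The data give elements satisfying the relators of both local subgroups. -/
theorem exists_local (L : Loc G) : ∃ im : ℕ → G, Sat im relsL ∧ closure (im '' Set.Iio 9) = L.H ∧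
    im 9 ∉ L.H ∧ wvx im [6, 6] = L.t := by
  classical
  obtain ⟨L1, C, I0, S0, ht, hH, hx, ha0, hb0⟩ := exists_signed L
  obtain ⟨I, S1, hs1, ⟨T1⟩⟩ := exists_seven S0 ha0 hb0
  obtain ⟨S, hr, hbr⟩ := exists_braid S1 hx
  have hr0 : S.r = S0.r := by rw [hr, Cent.r, Cent.r, hs1]
  have ha : S.r * C.a * S.r = C.a⁻¹ := by rw [hr0]; exact ha0
  have hb : S.r * C.b * S.r = C.P (1, 2, 3) := by rw [hr0]; exact hb0
  let T : Seven S :=
    { u := T1.u, u_M := T1.u_M, u_seven := T1.u_seven, u_x := T1.u_x, u_c := T1.u_c, u_a := T1.u_a, u_b := T1.u_b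
      sq := by rw [hr]; exact T1.sq
      cube := T1.cube }
  obtain ⟨j, hj⟩ := T.cube
  obtain rfl := cube_zero T ha hb hj
  obtain ⟨k, hk⟩ := rels_S S hbr T.u
  have hk2 : k = 2 := twist_two S hx ha hb fun w hw => by
    rw [← hk w hw]
    refine wvx_congr fun l hl => ?_
    have hlow : ∀ k : Fin 4, ∀ w ∈ relsS k, ∀ l ∈ w, l < 9 := by decide +kernel
    have := hlow k w hw l hl
    interval_cases l <;> rfl
  subst hk2
  refine ⟨lets C.x I.y S.r C.a L1.c S.s T.u, ⟨lets_iv I.y_sq S.r_sq S.s_sq, fun w hw => ?_⟩, ?_, ?_, ?_⟩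
  · rcases List.mem_append.1 hw with hw | hw
    · rcases List.mem_append.1 hw with hw | hw
      · exact rels_B S ha hb S.s T.u w hw
      · exact hk w hw
    · exact rels_U T S.s hj w hw
  · rw [← hH]; exact letters_H S hx ha hb T.u
  · show T.u ∉ L.H
    rw [← hH]
    intro hu
    have e := (L1.mem_H _).1 hu
    have : T.u * L1.t * T.u⁻¹ = L1.t := by rw [e]; group
    rw [← L1.c_sq, show T.u * (L1.c * L1.c) * T.u⁻¹ = (T.u * L1.c * T.u⁻¹) * (T.u * L1.c * T.u⁻¹) by group,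
      T.u_c, ← C.P_add, ← C.P_c, ← C.P_add] at this
    exact absurd (C.P_inj this) (by decide)
  · rw [← ht, ← L1.c_sq]; simp [wvx, lets]

end Cfsg.Lib.HSLocal
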