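import Cfsg.Agent.M12Cent.Table

/-!
Final tables of coset enumeration logs with references in either direction, and the resulting bounds.
-/

set_option autoImplicit false

namespace Cfsg.Lib.HSLocal

open Cfsg.Lib.M12Cent (Log)

theorem cat3 {C : Log} {a b m c n : ℕ} (h1 : C.factsOK a b = true) (h2 : C.factsOK m c = true) (hm : a + b = m)
    (hn : b + c = n) : C.factsOK a n = true := by
  subst hm hn
  exact C.factsOK_cat h1 h2

/-- A reference leads from a row with a letter to a row of the table. -/
def refOK (C : Log) (mask : ℕ) (c l e : ℕ) : Bool :=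
  decide (e / 2 < C.m) &&
    if e % 2 = 0 then C.su (e / 2) == c && C.sl (e / 2) == l && mask.testBit (C.sv (e / 2))
    else C.sv (e / 2) == c && decide (C.sl (e / 2) < C.ng) && C.inv (C.sl (e / 2)) == l &&
      mask.testBit (C.su (e / 2))

/-- A block of rows is complete. -/
def rowsOK (C : Log) (mask : ℕ) (rows : List (ℕ × List ℕ)) : Bool :=
  rows.all fun r => (List.range C.ng).all fun l => refOK C mask r.1 l (r.2.getD l (2 * C.m))

theorem rowsOK_append {C : Log} {mask : ℕ} {a b : List (ℕ × List ℕ)} (ha : rowsOK C mask a = true)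
    (hb : rowsOK C mask b = true) : rowsOK C mask (a ++ b) = true := by
  rw [rowsOK] at *; rw [List.all_append, ha, hb]; rfl

/-- The table is complete. -/
def tableOK (C : Log) (rows : List (ℕ × List ℕ)) (mask : ℕ) : Prop :=
  rowsOK C mask rows = true ∧ mask = Log.rowMask rows ∧ mask.testBit 0 = true

variable {C : Log} {G : Type*} [Group G] {im : ℕ → G} {K : Subgroup G}
variable {rows : List (ℕ × List ℕ)} {mask : ℕ}

theorem cover (hS : C.Sound im K) (hf : C.factsOK 0 C.m = true) (hc : tableOK C rows mask) {g : G}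
    (hg : g ∈ Subgroup.closure (im '' Set.Iio C.ng)) :
    ∃ c ∈ rows.map Prod.fst, g * (C.rep im c)⁻¹ ∈ K := by
  have hold := hS.all_hold hf
  obtain ⟨hrows, hmask, h0⟩ := hc
  have hmem : ∀ c, mask.testBit c = true → c ∈ rows.map Prod.fst := fun c h =>
    Log.mem_of_testBit rows (hmask ▸ h)
  simp only [rowsOK, List.all_eq_true, List.mem_range] at hrows
  have step : ∀ c ∈ rows.map Prod.fst, ∀ l < C.ng, ∃ d ∈ rows.map Prod.fst,
      C.rep im c * im l * (C.rep im d)⁻¹ ∈ K := by
    intro c hc l hl
    obtain ⟨r, hr, rfl⟩ := List.mem_map.1 hc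
    have h := hrows r hr l hl
    generalize r.2.getD l (2 * C.m) = e at h
    simp only [refOK, Bool.and_eq_true, decide_eq_true_eq] at h
    obtain ⟨hm, h⟩ := h
    have hh := hold _ hm
    rw [Log.Holds] at hh
    split_ifs at h with he <;> simp only [Bool.and_eq_true, beq_iff_eq, decide_eq_true_eq] at h
    · obtain ⟨⟨h1, h2⟩, h3⟩ := h
      refine ⟨_, hmem _ h3, ?_⟩
      rw [h1, h2] at hh
      simpa [Log.val, hl] using hh
    · obtain ⟨⟨⟨h1, h2⟩, h3⟩, h4⟩ := h
      refine ⟨_, hmem _ h4, ?_⟩
      have h5 := K.inv_mem hh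
      rw [h1] at h5
      rw [← h3, hS.inv_spec _ h2]
      simpa [Log.val, h2, mul_assoc] using h5
  induction hg using Subgroup.closure_induction_right with
  | one => exact ⟨0, hmem 0 h0, by simp [Log.rep_zero, K.one_mem]⟩
  | mul_right a b _ hb ih =>
    obtain ⟨l, hl, rfl⟩ := hb
    obtain ⟨c, hc, hac⟩ := ih
    obtain ⟨d, hd, hh⟩ := step c hc l hl
    exact ⟨d, hd, by convert K.mul_mem hac hh using 1; group⟩
  | mul_inv_cancel a b _ hb ih =>
    obtain ⟨l, hl, rfl⟩ := hb
    obtain ⟨c, hc, hac⟩ := ih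
    rw [← hS.inv_spec l hl]
    obtain ⟨d, hd, hh⟩ := step c hc _ (hS.inv_lt hl)
    exact ⟨d, hd, by convert K.mul_mem hac hh using 1; group⟩

/-- The generated subgroup is finite and bounded by the number of rows. -/
theorem finite_card_le (hS : C.Sound im K) (hf : C.factsOK 0 C.m = true) (hc : tableOK C rows mask)
    {L : Subgroup G} (hL : L ≤ Subgroup.closure (im '' Set.Iio C.ng)) (hK : Finite K) {n : ℕ}
    (hn : Nat.card K ≤ n) : Finite L ∧ Nat.card L ≤ rows.length * n := by
  choose k hk hmem using fun g : L => cover hS hf hc (hL g.2)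
  let f : L → Fin rows.length × K := fun g =>
    (⟨(rows.map Prod.fst).idxOf (k g), by simpa using List.idxOf_lt_length_of_mem (hk g)⟩, ⟨_, hmem g⟩)
  have hfi : Function.Injective f := fun a b h => by
    simp only [f, Prod.mk.injEq, Fin.mk.injEq, Subtype.mk.injEq] at h
    have e := (List.idxOf_inj (hk a)).1 h.1
    rw [e] at h
    exact Subtype.ext (mul_right_cancel h.2)
  refine ⟨Finite.of_injective f hfi, (Nat.card_le_card_of_injective f hfi).trans ?_⟩
  rw [Nat.card_prod, Nat.card_eq_fintype_card (α := Fin rows.length), Fintype.card_fin]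
  exact Nat.mul_le_mul_left _ hn

end Cfsg.Lib.HSLocal
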