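import Cfsg.Agent.HSLocal.Fusion
import Cfsg.Agent.HSLocal.Count

/-!
The group of the letters controls the centralizers of its involutions, hence is everything.
-/

set_option autoImplicit false
set_option maxRecDepth 100000

namespace Cfsg.Lib.HSLocal

open Subgroup

theorem class_facts : pClass.all (fun p => Nat.blt p.1 7680) = true ∧
    pIdx.all (fun i => isT i [] == false || p0Idx.contains i) = true := by decide +kernel

variable {G : Type*} [Group G] [Finite G] {im : ℕ → G}

namespace Faith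

variable (F : Faith im)
include F

/-- The order of the centralizer of two elements, counted in the stored list. -/
theorem card_two {w : List ℕ} (hw : ∀ l ∈ w, l < 11) {T : ℕ}
    (hT : ∀ x < 100, Cfsg.Lib.PermCert.ap T x = Cfsg.Lib.CosetCert.evalW tabX w x) :
    Nat.card (centralizer ({tv' im} : Set G) ⊓ centralizer ({wvx im w} : Set G) : Subgroup G) =
      ((List.range 7680).filter fun i => commT i T).length := by
  classical
  set L := (List.range 7680).filter fun i => commT i T with hL
  have hnd : L.Nodup := List.Nodup.filter _ List.nodup_range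
  have key : ∀ i < 7680, (el im i * wvx im w = wvx im w * el im i ↔ commT i T = true) := fun i hi => by
    rw [commT_iff hi (fun l hl => (hw l hl).trans (by norm_num)) hT]
    exact F.comm_word (h11 i) hw
  let f : L.toFinset → (centralizer ({tv' im} : Set G) ⊓ centralizer ({wvx im w} : Set G) : Subgroup G) := fun i =>
    ⟨el im i, by
      have hi := List.mem_filter.1 (List.mem_toFinset.1 i.2)
      exact ⟨mem_centralizer_singleton_iff.2 (F.el_cent (List.mem_range.1 hi.1)),
        mem_centralizer_singleton_iff.2 ((key _ (List.mem_range.1 hi.1)).2 hi.2)⟩⟩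
  have hlt : ∀ i : L.toFinset, (i : ℕ) < 7680 := fun i =>
    List.mem_range.1 (List.mem_filter.1 (List.mem_toFinset.1 i.2)).1
  have hbij : Function.Bijective f := by
    refine ⟨fun i j e => Subtype.ext (F.el_inj (hlt i) (hlt j) (congrArg Subtype.val e)), fun g => ?_⟩
    obtain ⟨i, hi, e⟩ := F.cent g (mem_centralizer_singleton_iff.1 g.2.1)
    refine ⟨⟨i, List.mem_toFinset.2 ?_⟩, Subtype.ext e.symm⟩
    rw [hL, List.mem_filter, List.mem_range]
    exact ⟨hi, (key i hi).1 (by rw [← e]; exact mem_centralizer_singleton_iff.1 g.2.2)⟩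
  rw [← Nat.card_congr (Equiv.ofBijective f hbij), Nat.card_eq_fintype_card, Fintype.card_coe,
    List.toFinset_card_of_nodup hnd]

/-- The common centralizer of the two involutions. -/
theorem pair_iff {g : G} : g ∈ centralizer ({tv' im} : Set G) ⊓ centralizer ({uv im} : Set G) ↔
    ∃ i ∈ pIdx, g = el im i := by
  constructor
  · rintro ⟨h1, h2⟩
    exact F.cent_pair (mem_centralizer_singleton_iff.1 h1) (mem_centralizer_singleton_iff.1 h2)
  · rintro ⟨i, hi, rfl⟩
    exact ⟨mem_centralizer_singleton_iff.2 (F.el_pair hi).1, mem_centralizer_singleton_iff.2 (F.el_pair hi).2⟩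

theorem card_pair : Nat.card (centralizer ({tv' im} : Set G) ⊓ centralizer ({uv im} : Set G) : Subgroup G) = 64 := by
  have h := F.card_two (w := uW) uW11 uT_eq
  rw [cent_u, sub_closed.2.2.2] at h
  exact h

theorem card_pair_b : Nat.card (centralizer ({bv im} : Set G) ⊓ centralizer ({uv im} : Set G) : Subgroup G) = 96 := by
  obtain ⟨-, -, -, -, -, hb, he, -⟩ := small_facts
  have hw : ∀ l ∈ cjW hbW uW, l < 11 := app11 (app11 (all_lt hb) uW11) (winv_lt (all_lt hb))
  have h := F.card_two hw ubT_eq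
  rw [cent_ub] at h
  have hy : wvx im hbW * bv im * (wvx im hbW)⁻¹ = tv' im := by
    have e := F.app (app11 (app11 (all_lt hb) bW11) (winv_lt (all_lt hb))) t11 he
    rw [wvx_append, wvx_append, F.sat.winv_val _ (all_lt hb)] at e
    exact e
  have hu : wvx im (cjW hbW uW) = wvx im hbW * uv im * (wvx im hbW)⁻¹ := by
    rw [cjW, wvx_append, wvx_append, F.sat.winv_val _ (all_lt hb)]; rfl
  set y := wvx im hbW with hy'
  have e : (centralizer ({bv im} : Set G) ⊓ centralizer ({uv im} : Set G) : Subgroup G).map (MulAut.conj y).toMonoidHom =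
      centralizer ({tv' im} : Set G) ⊓ centralizer ({wvx im (cjW hbW uW)} : Set G) := by
    rw [hu, ← hy]
    ext g
    constructor
    · rintro ⟨k, ⟨h1, h2⟩, rfl⟩
      refine ⟨mem_centralizer_singleton_iff.2 ?_, mem_centralizer_singleton_iff.2 ?_⟩
      · show y * k * y⁻¹ * (y * bv im * y⁻¹) = y * bv im * y⁻¹ * (y * k * y⁻¹)
        calc y * k * y⁻¹ * (y * bv im * y⁻¹) = y * (k * bv im) * y⁻¹ := by group
          _ = _ := by rw [mem_centralizer_singleton_iff.1 h1]; group
      · show y * k * y⁻¹ * (y * uv im * y⁻¹) = y * uv im * y⁻¹ * (y * k * y⁻¹)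
        calc y * k * y⁻¹ * (y * uv im * y⁻¹) = y * (k * uv im) * y⁻¹ := by group
          _ = _ := by rw [mem_centralizer_singleton_iff.1 h2]; group
    · rintro ⟨h1, h2⟩
      refine ⟨y⁻¹ * g * y, ⟨mem_centralizer_singleton_iff.2 ?_, mem_centralizer_singleton_iff.2 ?_⟩,
        by show y * (y⁻¹ * g * y) * y⁻¹ = g; group⟩
      · calc y⁻¹ * g * y * bv im = y⁻¹ * (g * (y * bv im * y⁻¹)) * y := by group
          _ = _ := by rw [mem_centralizer_singleton_iff.1 h1]; group
      · calc y⁻¹ * g * y * uv im = y⁻¹ * (g * (y * uv im * y⁻¹)) * y := by group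
          _ = _ := by rw [mem_centralizer_singleton_iff.1 h2]; group
  rw [← h, ← e, Subgroup.card_map_of_injective (MulAut.conj y).injective]

/-- A subgroup of index two in the common centralizer. -/
theorem exists_half : ∃ P0 : Subgroup G, Nat.card P0 = 32 ∧ ∀ g, g ∈ P0 ↔ ∃ i ∈ p0Idx, g = el im i := by
  classical
  let S : Set G := {g | ∃ i ∈ p0Idx, g = el im i}
  have hone : (1 : G) ∈ S := by
    obtain ⟨i, hi, h⟩ := List.any_eq_true.1 fusion_facts.2.2.2.2.1
    refine ⟨i, hi, ?_⟩
    have e := (isT_iff (p0_lt hi) (by simp)).1 h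
    exact ((F.el_one i).2 (by rw [e, wvx_nil])).symm
  have hmul : ∀ a ∈ S, ∀ b ∈ S, a * b ∈ S := by
    rintro _ ⟨i, hi, rfl⟩ _ ⟨j, hj, rfl⟩
    obtain ⟨k, hk, h⟩ := List.any_eq_true.1 (List.all_eq_true.1 (List.all_eq_true.1 sub_closed.1 i hi) j hj)
    exact ⟨k, hk, (F.el_mul i j k).2 (prodT_sound (p0_lt hi) (p0_lt hj) (p0_lt hk) h)⟩
  have hpow : ∀ a ∈ S, ∀ n : ℕ, a ^ n ∈ S := fun a ha n => by
    induction n with
    | zero => rw [pow_zero]; exact hone
    | succ n ih => rw [pow_succ]; exact hmul _ ih _ ha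
  let P0 : Subgroup G :=
    { carrier := S
      one_mem' := hone
      mul_mem' := fun ha hb => hmul _ ha _ hb
      inv_mem' := fun {a} ha => by
        have : a⁻¹ = a ^ (orderOf a - 1) := inv_eq_of_mul_eq_one_left (by
          rw [← pow_succ, Nat.sub_add_cancel (orderOf_pos a), pow_orderOf_eq_one])
        rw [this]; exact hpow _ ha _ }
  refine ⟨P0, ?_, fun g => Iff.rfl⟩
  let f : p0Idx.toFinset → P0 := fun i => ⟨el im i, i, List.mem_toFinset.1 i.2, rfl⟩
  have hbij : Function.Bijective f := ⟨fun i j e => Subtype.ext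
      (F.el_inj (p0_lt (List.mem_toFinset.1 i.2)) (p0_lt (List.mem_toFinset.1 j.2)) (congrArg Subtype.val e)),
    fun g => by
      obtain ⟨i, hi, e⟩ := g.2
      exact ⟨⟨i, List.mem_toFinset.2 hi⟩, Subtype.ext e.symm⟩⟩
  rw [← Nat.card_congr (Equiv.ofBijective f hbij), Nat.card_eq_fintype_card, Fintype.card_coe,
    List.toFinset_card_of_nodup fusion_facts.2.2.1, sub_closed.2.2.1]

/-- The common centralizer is a maximal two-subgroup of the centralizer of the second involution. -/
theorem pair_max : ∀ Q : Subgroup G, Q ≤ centralizer ({uv im} : Set G) →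
    centralizer ({tv' im} : Set G) ⊓ centralizer ({uv im} : Set G) ≤ Q → IsPGroup 2 Q →
    Q = centralizer ({tv' im} : Set G) ⊓ centralizer ({uv im} : Set G) := by
  classical
  intro Q hQK hPQ hQ2
  haveI : Fact (Nat.Prime 2) := ⟨Nat.prime_two⟩
  set P := centralizer ({tv' im} : Set G) ⊓ centralizer ({uv im} : Set G) with hP
  by_contra hne
  haveI : Group.IsNilpotent Q := hQ2.isNilpotent
  have hlt : P.subgroupOf Q < ⊤ := lt_top_iff_ne_top.2 fun e =>
    hne (le_antisymm (Subgroup.subgroupOf_eq_top.1 e) hPQ)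
  obtain ⟨q, hq, hqP⟩ := SetLike.exists_of_lt (Group.normalizerCondition_of_isNilpotent (G := Q) _ hlt)
  apply hqP
  have htP : tv' im ∈ P := ⟨mem_centralizer_singleton_iff.2 rfl, mem_centralizer_singleton_iff.2 (by
    have h : Commute (tv' im) (uv im) := by
      refine (F.comm_word t11 uW11).2 ?_
      have hu : ∀ l ∈ uW, l < 9 := all_lt small_facts.2.2.2.1
      obtain ⟨i, hi, hti⟩ := List.any_eq_true.1 split_ok.2.2.1
      have := (p_mem (p0_lt hi)).1 (p0_sub hi)
      rwa [(isT_iff (p0_lt hi) (by decide)).1 hti] at this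
    exact h.eq)⟩
  have hn : ∀ p ∈ P, (q : G) * p * (q : G)⁻¹ ∈ P := fun p hp => by
    have := (Subgroup.mem_normalizer_iff.1 hq ⟨p, hPQ hp⟩).1 (Subgroup.mem_subgroupOf.2 hp)
    exact this
  obtain ⟨i, hi, hqt⟩ := (F.pair_iff).1 (hn _ htP)
  have hcom : ∀ j ∈ pIdx, Commute (el im i) (el im j) := by
    intro j hj
    have hjP : el im j ∈ P := (F.pair_iff).2 ⟨j, hj, rfl⟩
    have hinv : (q : G)⁻¹ * el im j * q ∈ P := by
      have h := Subgroup.mem_normalizer_iff.1 (inv_mem hq) ⟨el im j, hPQ hjP⟩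
      have h' := h.1 (Subgroup.mem_subgroupOf.2 hjP)
      simpa [Subgroup.mem_subgroupOf] using h'
    have hc : Commute (tv' im) ((q : G)⁻¹ * el im j * q) := (mem_centralizer_singleton_iff.1 hinv.1).symm
    rw [← hqt]
    calc (q : G) * tv' im * (q : G)⁻¹ * el im j = q * (tv' im * ((q : G)⁻¹ * el im j * q)) * (q : G)⁻¹ := by group
      _ = _ := by rw [hc.eq]; group
  have hsq : el im i * el im i = 1 := by
    rw [← hqt]
    calc (q : G) * tv' im * (q : G)⁻¹ * (q * tv' im * (q : G)⁻¹) = q * (tv' im * tv' im) * (q : G)⁻¹ := by group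
      _ = 1 := by rw [F.t_sq]; group
  have hne1 : el im i ≠ 1 := fun e => F.t_ne (conj_eq_one_iff.1 (hqt.trans e))
  have htrue := F.type_true (p_lt hi) (q : G)⁻¹ (by rw [← hqt]; group)
  have hc := List.all_eq_true.1 central_ok i hi
  rw [(expT_iff (p_lt hi)).2 ((F.el_sq i).1 hsq),
    Bool.eq_false_iff.2 (fun h => hne1 ((F.el_one i).2 ((oneT_iff (p_lt hi)).1 h))), htrue] at hc
  have hall : (pIdx.all fun j => (List.range 100).all fun x => hEv j (hEv i x) == hEv i (hEv j x)) = true :=
    List.all_eq_true.2 fun j hj => (comm_sound (p_lt hi) (p_lt hj)).2 ((F.comm_word (h11 i) (h11 j)).1 (hcom j hj))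
  rw [hall] at hc
  simp only [Bool.not_true, Bool.false_or, Bool.or_false, show (some true == some false) = false from rfl] at hc
  have hit : el im i = tv' im := (F.el_word i t11).2 ((isT_iff (p_lt hi) (by decide)).1 hc)
  rw [hit] at hqt
  rw [Subgroup.mem_subgroupOf]
  refine ⟨mem_centralizer_singleton_iff.2 ?_, hQK q.2⟩
  calc (q : G) * tv' im = q * tv' im * (q : G)⁻¹ * q := by group
    _ = tv' im * q := by rw [hqt]

/-- The centralizer of the second involution lies in the group of the letters. -/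
theorem cent_u_le : centralizer ({uv im} : Set G) ≤ gY im := by
  classical
  haveI : Fact (Nat.Prime 2) := ⟨Nat.prime_two⟩
  set K := centralizer ({uv im} : Set G) with hK
  set P := centralizer ({tv' im} : Set G) ⊓ K with hP
  have hP2 : IsPGroup 2 P := IsPGroup.of_card (n := 6) F.card_pair
  obtain ⟨P0, hP0c, hP0m⟩ := F.exists_half
  have hP0P : P0 ≤ P := fun g hg => by
    obtain ⟨i, hi, rfl⟩ := (hP0m g).1 hg
    exact F.pair_iff.2 ⟨i, p0_sub hi, rfl⟩
  have hPY : P ≤ gY im := fun g hg => F.cent_le (mem_centralizer_singleton_iff.1 hg.1)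
  have hmem : ∀ {w : List ℕ}, (∀ l ∈ w, l < 11) → p0Idx.any (fun i => isT i w) = true → wvx im w ∈ P0 := by
    intro w hw h
    obtain ⟨i, hi, hiw⟩ := List.any_eq_true.1 h
    exact (hP0m _).2 ⟨i, hi, ((F.el_word i hw).2 ((isT_iff (p0_lt hi) (fun l hl => (hw l hl).trans (by norm_num))).1 hiw)).symm⟩
  have ht0 : tv' im ∈ P0 := hmem t11 split_ok.2.2.1
  have hu0 : uv im ∈ P0 := hmem uW11 split_ok.2.1
  have hb0 : bv im ∈ P0 := hmem bW11 split_ok.2.2.2
  have htK : tv' im ∈ K := (hP0P ht0).2
  have hbK : bv im ∈ K := (hP0P hb0).2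
  have huK : uv im ∈ K := (hP0P hu0).2
  -- conjugacy in `K` of the involutions of the half
  have hcard_b := F.card_pair_b
  have hnot : ∀ k ∈ K, k * tv' im * k⁻¹ ≠ bv im := by
    intro k hk e
    have hmap : P.map (MulAut.conj k).toMonoidHom = centralizer ({bv im} : Set G) ⊓ K := by
      ext g
      constructor
      · rintro ⟨p, ⟨h1, h2⟩, rfl⟩
        refine ⟨mem_centralizer_singleton_iff.2 ?_, K.mul_mem (K.mul_mem hk h2) (K.inv_mem hk)⟩
        rw [← e]
        show k * p * k⁻¹ * (k * tv' im * k⁻¹) = k * tv' im * k⁻¹ * (k * p * k⁻¹)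
        calc k * p * k⁻¹ * (k * tv' im * k⁻¹) = k * (p * tv' im) * k⁻¹ := by group
          _ = _ := by rw [mem_centralizer_singleton_iff.1 h1]; group
      · rintro ⟨h1, h2⟩
        refine ⟨k⁻¹ * g * k, ⟨mem_centralizer_singleton_iff.2 ?_, K.mul_mem (K.mul_mem (K.inv_mem hk) h2) hk⟩,
          by show k * (k⁻¹ * g * k) * k⁻¹ = g; group⟩
        have h := mem_centralizer_singleton_iff.1 h1
        rw [← e] at h
        calc k⁻¹ * g * k * tv' im = k⁻¹ * (g * (k * tv' im * k⁻¹)) * k := by group
          _ = _ := by rw [h]; group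
    have h1 : Nat.card (P.map (MulAut.conj k).toMonoidHom) = Nat.card P :=
      Subgroup.card_map_of_injective (MulAut.conj k).injective
    rw [hmap, F.card_pair, hcard_b] at h1
    norm_num at h1
  have hentry : ∀ p ∈ pClass, ∃ l ∈ K ⊓ gY im, l * el im p.1 * l⁻¹ = if p.2.1 then tv' im else bv im := by
    intro p hp
    have h := List.all_eq_true.1 pClass_ok.1 p hp
    simp only [Bool.and_eq_true] at h
    obtain ⟨⟨hl, hc⟩, he⟩ := h
    refine ⟨wvx im p.2.2, ⟨mem_centralizer_singleton_iff.2 ?_, gY_word (all_lt hl)⟩, ?_⟩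
    · refine ((F.comm_word (all_lt hl) uW11).2 ?_).eq
      rw [commute_iff_eq, ← wvx_append, ← wvx_append]; exact eqW_sound hc
    · have e := (F.faithful (cjW p.2.2 (hW p.1)) (if p.2.1 then [6, 6] else bW)
        (app11 (app11 (all_lt hl) (h11 _)) (winv_lt (all_lt hl))) (by split; exacts [t11, bW11])).2 (eqW_sound he)
      rw [cjW, wvx_append, wvx_append, F.sat.winv_val _ (all_lt hl)] at e
      rw [el, e]
      cases p.2.1 <;> rfl
  have hclass : ∀ x ∈ P0, x * x = 1 → (∃ g : G, g * x * g⁻¹ = tv' im) →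
      ∃ p ∈ pClass, x = el im p.1 := by
    intro x hx hx2 hg
    obtain ⟨i, hi, rfl⟩ := (hP0m x).1 hx
    obtain ⟨g, hg⟩ := hg
    have htrue := F.type_true (p0_lt hi) g hg
    have h1 : el im i ≠ 1 := fun e => F.t_ne (by rw [← hg, e]; group)
    have h := List.all_eq_true.1 pClass_ok.2.1 i hi
    rw [(expT_iff (p0_lt hi)).2 ((F.el_sq i).1 hx2),
      Bool.eq_false_iff.2 (fun h => h1 ((F.el_one i).2 ((oneT_iff (p0_lt hi)).1 h))), htrue] at h
    simp only [Bool.not_true, Bool.false_or, Bool.or_false, show (some true == some false) = false from rfl,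
      List.any_eq_true, beq_iff_eq] at h
    obtain ⟨p, hp, hpi⟩ := h
    exact ⟨p, hp, by rw [hpi]⟩
  obtain ⟨yb, hyb, hybt⟩ := F.b_conj
  -- the sign on the cosets of the half
  let P0K : Subgroup K := P0.subgroupOf K
  haveI : Fintype (K ⧸ P0K) := Fintype.ofFinite _
  let χ : K →* ℤˣ := Equiv.Perm.sign.comp (MulAction.toPermHom K (K ⧸ P0K))
  have hP0K : Nat.card P0K = 32 := by
    rw [Nat.card_congr (Subgroup.subgroupOfEquivOfLe (fun g hg => (hP0P hg).2)).toEquiv, hP0c]
  obtain ⟨o, ho, hn⟩ : ∃ o : ℕ, Odd o ∧ Fintype.card (K ⧸ P0K) = 2 * o := by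
    obtain ⟨S, hS⟩ := (hP2.of_equiv (Subgroup.subgroupOfEquivOfLe (inf_le_right : P ≤ K)).symm).exists_le_sylow
    have hSP : (S : Subgroup K).map K.subtype = P :=
      F.pair_max _ (Subgroup.map_subtype_le _) (fun p hp => ⟨⟨p, hp.2⟩, hS (Subgroup.mem_subgroupOf.2 hp), rfl⟩)
        (S.isPGroup'.map K.subtype)
    have hSc : Nat.card (S : Subgroup K) = 64 := by
      rw [← Subgroup.card_map_of_injective K.subtype_injective, hSP]; exact F.card_pair
    refine ⟨(S : Subgroup K).index, Nat.odd_iff.2 ?_, ?_⟩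
    · have := S.not_dvd_index'
      rcases Nat.mod_two_eq_zero_or_one (S : Subgroup K).index with h | h
      · exact absurd (Nat.dvd_of_mod_eq_zero h) (S.not_dvd_index' (Subgroup.index_ne_zero_of_finite))
      · exact h
    · have h1 := (S : Subgroup K).card_mul_index
      have h2 := P0K.card_mul_index
      rw [hSc] at h1
      rw [hP0K] at h2
      rw [← Nat.card_eq_fintype_card]
      show P0K.index = _
      omega
  have hval : ∀ (x : K) (S : Finset K) (c f : ℕ), (x * x = 1) →
      (∀ y, y ∈ S ↔ y ∈ P0K ∧ ∃ k, k⁻¹ * x * k = y) → Nat.card (centralizer ({x} : Set K)) = c →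
      S.card * c = 32 * f → ∃ m, 2 * o = f + 2 * m ∧ χ x = (-1) ^ m := by
    intro x S c f hx2 hS hc hf
    obtain ⟨m, hm, hsign⟩ := sign_invol (MulAction.toPermHom K (K ⧸ P0K) x) (by rw [← map_mul, hx2, map_one])
    refine ⟨m, ?_, hsign⟩
    have hfc := fix_count P0K x S hS
    rw [hP0K, hc, hf] at hfc
    rw [← hn, hm]
    show Nat.card {a : K ⧸ P0K // x • a = a} + _ = _
    omega
  have hcentK : ∀ x : K, Nat.card (centralizer ({x} : Set K)) =
      Nat.card (centralizer ({(x : G)} : Set G) ⊓ K : Subgroup G) := fun x => by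
    have hm : Nat.card ((centralizer ({x} : Set K)).map K.subtype) = Nat.card (centralizer ({x} : Set K)) :=
      Subgroup.card_map_of_injective K.subtype_injective
    rw [← hm]
    congr 2
    ext g
    constructor
    · rintro ⟨k, hk, rfl⟩
      exact ⟨mem_centralizer_singleton_iff.2 (congrArg Subtype.val (mem_centralizer_singleton_iff.1 hk)), k.2⟩
    · rintro ⟨h1, h2⟩
      exact ⟨⟨g, h2⟩, mem_centralizer_singleton_iff.2 (Subtype.ext (mem_centralizer_singleton_iff.1 h1)), rfl⟩
  have hPle : ∀ p ∈ pClass, el im p.1 ∈ K := fun p hp =>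
    (hP0P ((hP0m _).2 ⟨p.1, List.contains_iff_mem.1 (List.all_eq_true.1 pClass_ok.2.2.2.2.2 p hp), rfl⟩)).2
  have hsel : ∀ q : Bool, ∀ x : K, (x : G) = (if q then tv' im else bv im) → χ x = 1 := by
    intro q x hx
    have hx2 : x * x = 1 := Subtype.ext (by
      rw [Subgroup.coe_mul, hx]; cases q
      · exact F.b_sq
      · exact F.t_sq)
    have hxconj : ∃ g : G, g * (x : G) * g⁻¹ = tv' im := by
      rw [hx]; cases q
      · exact ⟨yb, hybt⟩
      · exact ⟨1, by simp⟩
    haveI : Fintype K := Fintype.ofFinite K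
    have hSmem : ∀ y, y ∈ (Finset.univ.filter fun y : K => ∃ p ∈ pClass, p.2.1 = q ∧ (y : G) = el im p.1) ↔
        y ∈ P0K ∧ ∃ k, k⁻¹ * x * k = y := by
      intro y
      simp only [Finset.mem_filter, Finset.mem_univ, true_and]
      constructor
      · rintro ⟨p, hp, rfl, hy⟩
        refine ⟨Subgroup.mem_subgroupOf.2 ((hP0m _).2 ⟨p.1, List.contains_iff_mem.1
          (List.all_eq_true.1 pClass_ok.2.2.2.2.2 p hp), hy⟩), ?_⟩
        obtain ⟨l, hl, hle⟩ := hentry p hp
        refine ⟨⟨l, hl.1⟩, Subtype.ext ?_⟩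
        show l⁻¹ * (x : G) * l = y
        rw [hx, hy, ← hle]; group
      · rintro ⟨hy0, k, hk⟩
        have hk' : (k : G)⁻¹ * x * k = y := congrArg Subtype.val hk
        have hy2 : (y : G) * y = 1 := by
          rw [← hk']
          calc (k : G)⁻¹ * x * k * ((k : G)⁻¹ * x * k) = (k : G)⁻¹ * ((x : G) * x) * k := by group
            _ = 1 := by rw [← Subgroup.coe_mul, hx2]; simp
        obtain ⟨g, hg⟩ := hxconj
        obtain ⟨p, hp, hyp⟩ := hclass y (Subgroup.mem_subgroupOf.1 hy0) hy2 ⟨g * k, by rw [← hk', ← hg]; group⟩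
        refine ⟨p, hp, ?_, hyp⟩
        by_contra hne
        obtain ⟨l, hl, hle⟩ := hentry p hp
        rw [← hyp, ← hk', hx] at hle
        cases q
        · rw [show p.2.1 = true by simpa using hne] at hle
          simp only [if_true, Bool.false_eq_true, if_false] at hle
          refine hnot ((k : G) * l⁻¹) (mul_mem k.2 (inv_mem hl.1)) ?_
          rw [← hle]; group
        · rw [show p.2.1 = false by simpa using hne] at hle
          simp only [if_true, Bool.false_eq_true, if_false] at hle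
          refine hnot (l * (k : G)⁻¹) (mul_mem hl.1 (inv_mem k.2)) ?_
          rw [← hle]; group
    have hScard : (Finset.univ.filter fun y : K => ∃ p ∈ pClass, p.2.1 = q ∧ (y : G) = el im p.1).card =
        (pClass.filter fun p => p.2.1 == q).length := by
      set l := pClass.filter fun p => p.2.1 == q with hl
      have hnd : (l.map fun p => p.1).Nodup := pClass_ok.2.2.2.2.1.sublist (List.Sublist.map _ List.filter_sublist)
      rw [← List.length_map (f := fun p : ℕ × Bool × List ℕ => p.1), ← List.toFinset_card_of_nodup hnd]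
      symm
      have hlt : ∀ i ∈ l.map (fun p => p.1), i < 7680 ∧ el im i ∈ K := fun i hi => by
        obtain ⟨p, hp, rfl⟩ := List.mem_map.1 hi
        have hp' := List.mem_of_mem_filter hp
        exact ⟨Nat.le_of_ble_eq_true (List.all_eq_true.1 class_facts.1 p hp'), hPle p hp'⟩
      refine Finset.card_bij (fun i hi => (⟨el im i, (hlt i (List.mem_toFinset.1 hi)).2⟩ : K)) ?_ ?_ ?_
      · intro i hi
        obtain ⟨p, hp, rfl⟩ := List.mem_map.1 (List.mem_toFinset.1 hi)
        rw [hl, List.mem_filter, beq_iff_eq] at hp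
        simp only [Finset.mem_filter, Finset.mem_univ, true_and]
        exact ⟨p, hp.1, hp.2, rfl⟩
      · intro i hi j hj e
        exact F.el_inj (hlt i (List.mem_toFinset.1 hi)).1 (hlt j (List.mem_toFinset.1 hj)).1 (congrArg Subtype.val e)
      · intro y hy
        simp only [Finset.mem_filter, Finset.mem_univ, true_and] at hy
        obtain ⟨p, hp, hq, hy⟩ := hy
        refine ⟨p.1, List.mem_toFinset.2 (List.mem_map.2 ⟨p, ?_, rfl⟩), Subtype.ext hy.symm⟩
        rw [hl, List.mem_filter, beq_iff_eq]; exact ⟨hp, hq⟩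
    cases q
    · obtain ⟨m, hm, hχ⟩ := hval x _ 96 18 hx2 hSmem (by rw [hcentK, hx]; exact hcard_b)
        (by rw [hScard, show (pClass.filter fun p => p.2.1 == false).length = 6 from by
          rw [← pClass_ok.2.2.2.1]; exact congrArg _ (List.filter_congr fun p _ => by cases p.2.1 <;> rfl)])
      obtain ⟨d, rfl⟩ := ho
      rw [hχ, show m = 2 * (d - 4) by omega, pow_mul, neg_one_sq, one_pow]
    · obtain ⟨m, hm, hχ⟩ := hval x _ 64 10 hx2 hSmem (by rw [hcentK, hx]; exact F.card_pair)
        (by rw [hScard, show (pClass.filter fun p => p.2.1 == true).length = 5 from by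
          rw [← pClass_ok.2.2.1]; exact congrArg _ (List.filter_congr fun p _ => by cases p.2.1 <;> rfl)])
      obtain ⟨d, rfl⟩ := ho
      rw [hχ, show m = 2 * (d - 2) by omega, pow_mul, neg_one_sq, one_pow]
  -- an involution of the kernel centralised by `t` lies in the half
  have hkerP : ∀ x : K, (x : G) ∈ P → x * x = 1 → x ≠ 1 → χ x = 1 → (x : G) ∈ P0 := by
    intro x hxP hx2 hx1 hχ1
    by_contra hx0
    obtain ⟨i, hi, hxi⟩ := F.pair_iff.1 hxP
    have hi0 : i ∉ p0Idx := fun h => hx0 ((hP0m _).2 ⟨i, h, hxi⟩)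
    have hi2 : el im i * el im i = 1 := by rw [← hxi, ← Subgroup.coe_mul, hx2]; rfl
    have hi1 : el im i ≠ 1 := fun e => hx1 (Subtype.ext (hxi.trans e))
    have hiu : el im i ≠ uv im := fun e => hx0 (by rw [hxi, e]; exact hu0)
    have hsp := List.all_eq_true.1 split_ok.1 i hi
    rw [splitOK, (expT_iff (p_lt hi)).2 ((F.el_sq i).1 hi2),
      Bool.eq_false_iff.2 (fun h => hi1 ((F.el_one i).2 ((oneT_iff (p_lt hi)).1 h))),
      Bool.eq_false_iff.2 (fun h => hiu ((F.el_word i uW11).2
        ((isT_iff (p_lt hi) (fun l hl => (uW11 l hl).trans (by norm_num))).1 h))),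
      show p0Idx.contains i = false from Bool.eq_false_iff.2 (fun h => hi0 (List.contains_iff_mem.1 h))] at hsp
    simp only [Bool.not_true, Bool.false_or, List.any_eq_true, Bool.and_eq_true, Bool.false_eq_true, if_false,
      beq_iff_eq] at hsp
    obtain ⟨j, hj, hjs, hif, hjf⟩ := hsp
    have hju : el im j = el im i * uv im := by
      have h := F.faithful (hW j) (hW i ++ uW) (h11 j) (app11 (h11 i) uW11)
      rw [wvx_append, wvx_append] at h
      exact h.2 (shiftT_sound (p_lt hi) (p_lt hj) hjs)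
    have hnone : ∀ y, y ∈ (∅ : Finset K) ↔ y ∈ P0K ∧ ∃ k, k⁻¹ * x * k = y := by
      intro y
      refine iff_of_false (by simp) ?_
      rintro ⟨hy0, k, hk⟩
      have hk' : (k : G)⁻¹ * el im i * k = y := by rw [← hxi]; exact congrArg Subtype.val hk
      obtain ⟨l, hl, hyl⟩ := (hP0m _).1 (Subgroup.mem_subgroupOf.1 hy0)
      have hl2 : el im l * el im l = 1 := by
        rw [← hyl, ← hk']
        calc (k : G)⁻¹ * el im i * k * ((k : G)⁻¹ * el im i * k) = (k : G)⁻¹ * (el im i * el im i) * k := by group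
          _ = 1 := by rw [hi2]; group
      have hl1 : el im l ≠ 1 := fun e => hi1 (by
        rw [e] at hyl; rw [hyl] at hk'
        calc el im i = (k : G) * ((k : G)⁻¹ * el im i * k) * (k : G)⁻¹ := by group
          _ = 1 := by rw [hk']; group)
      have hlu : el im l ≠ uv im := fun e => hiu (by
        rw [e] at hyl; rw [hyl] at hk'
        calc el im i = (k : G) * ((k : G)⁻¹ * el im i * k) * (k : G)⁻¹ := by group
          _ = uv im := by
            rw [hk', mem_centralizer_singleton_iff.1 k.2]; group)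
      have hsl := List.all_eq_true.1 split_ok.1 l (p0_sub hl)
      rw [splitOK, (expT_iff (p0_lt hl)).2 ((F.el_sq l).1 hl2),
        Bool.eq_false_iff.2 (fun h => hl1 ((F.el_one l).2 ((oneT_iff (p0_lt hl)).1 h))),
        Bool.eq_false_iff.2 (fun h => hlu ((F.el_word l uW11).2
          ((isT_iff (p0_lt hl) (fun a ha => (uW11 a ha).trans (by norm_num))).1 h))),
        show p0Idx.contains l = true from List.contains_iff_mem.2 hl] at hsl
      simp only [Bool.not_true, Bool.false_or, List.any_eq_true, Bool.and_eq_true, if_true, Bool.or_eq_true,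
        beq_iff_eq] at hsl
      obtain ⟨m, hm, hms, hor⟩ := hsl
      have hmu : el im m = el im l * uv im := by
        have h := F.faithful (hW m) (hW l ++ uW) (h11 m) (app11 (h11 l) uW11)
        rw [wvx_append, wvx_append] at h
        exact h.2 (shiftT_sound (p0_lt hl) (p_lt hm) hms)
      have hku : Commute (k : G) (uv im) := mem_centralizer_singleton_iff.1 k.2
      have htype : ∀ (a : ℕ), a < 7680 → typeI a = some true → el im a * el im a = 1 →
          ∃ g : G, g * el im a * g⁻¹ = tv' im := by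
        intro a ha hta ha2
        have ha1 : el im a ≠ 1 := fun e => by
          have : typeI a ≠ some true := by
            intro _
            exact absurd e (by
              intro e
              obtain ⟨p, hp⟩ : ∃ p, invol.find? (fun p => p.1 == a) = some p := by
                rw [typeI] at hta
                exact Option.isSome_iff_exists.1 (by cases h : invol.find? (fun p => p.1 == a) <;> simp [h] at hta ⊢)
              have hpi : p.1 = a := by simpa using List.find?_some hp
              rw [typeI, hp] at hta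
              have hq : p.2.1 = true := by simpa using hta
              have hc := List.all_eq_true.1 invol_conj p (List.mem_of_find?_eq_some hp)
              rw [conjOK] at hc
              simp only [Bool.and_eq_true, hq, if_true] at hc
              have e' := (F.faithful (cjW p.2.2 (hW p.1)) [6, 6]
                (app11 (app11 (all_lt hc.1.1) (h11 _)) (winv_lt (all_lt hc.1.1))) t11).2 (eqW_sound hc.1.2)
              rw [cjW, wvx_append, wvx_append, F.sat.winv_val _ (all_lt hc.1.1), hpi] at e'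
              rw [show wvx im (hW a) = 1 from e, mul_one, mul_inv_cancel] at e'
              exact F.t_ne e'.symm)
          exact this hta
        obtain ⟨q, hq, y, -, hy⟩ := F.invol_type ha ha2 ha1
        rw [hta] at hq
        simp only [Option.some.injEq] at hq
        subst hq
        exact ⟨y, hy⟩
      rcases hor with h | h
      · obtain ⟨g, hg⟩ := htype l (p0_lt hl) h hl2
        refine F.type_false (p_lt hi) hif (g * (k : G)⁻¹) ?_
        rw [← hg, ← hyl, ← hk']; group
      · have hlu' : Commute (el im l) (uv im) := (F.el_pair (p0_sub hl)).2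
        have hm2 : el im m * el im m = 1 := by
          rw [hmu]
          calc el im l * uv im * (el im l * uv im) = el im l * (uv im * el im l) * uv im := by group
            _ = el im l * el im l * (uv im * uv im) := by rw [← hlu'.eq]; group
            _ = 1 := by rw [hl2, F.u_sq, one_mul]
        obtain ⟨g, hg⟩ := htype m (p_lt hm) h hm2
        refine F.type_false (p_lt hj) hjf (g * (k : G)⁻¹) ?_
        rw [← hg, hmu, ← hyl, ← hk', hju]
        calc g * (k : G)⁻¹ * (el im i * uv im) * (g * (k : G)⁻¹)⁻¹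
            = g * ((k : G)⁻¹ * el im i * (uv im * k)) * g⁻¹ := by group
          _ = _ := by rw [← hku.eq]; group
    obtain ⟨m, hm, hχ⟩ := hval x ∅ _ 0 hx2 hnone rfl (by simp)
    rw [hχ, show m = o by omega, ho.neg_one_pow] at hχ1
    exact absurd hχ1 (by decide)
  -- involutions of the kernel in the group of the letters
  have hcz : ∀ z : K, (z : G) ∈ gY im → z * z = 1 → z ≠ 1 → (z : G) ≠ uv im → χ z = 1 →
      centralizer ({(z : G)} : Set G) ⊓ K ≤ gY im := by
    intro z hzY hz2 hz1 hzu hzχ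
    obtain ⟨l, hl, hlP⟩ := conj_into (P := P) (L := K ⊓ gY im) (le_inf inf_le_right hPY) hP2
      (fun Q hQ hPQ h2 => F.pair_max Q (hQ.trans inf_le_left) hPQ h2) (x := (z : G)) ⟨z.2, hzY⟩
      (congrArg Subtype.val hz2)
    let z' : K := ⟨l, hl.1⟩ * z * ⟨l, hl.1⟩⁻¹
    have hz'2 : z' * z' = 1 := by
      show (⟨l, hl.1⟩ : K) * z * ⟨l, hl.1⟩⁻¹ * (⟨l, hl.1⟩ * z * ⟨l, hl.1⟩⁻¹) = 1
      calc (⟨l, hl.1⟩ : K) * z * ⟨l, hl.1⟩⁻¹ * (⟨l, hl.1⟩ * z * ⟨l, hl.1⟩⁻¹)
          = ⟨l, hl.1⟩ * (z * z) * ⟨l, hl.1⟩⁻¹ := by group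
        _ = 1 := by rw [hz2]; group
    have hz'1 : z' ≠ 1 := fun e => hz1 (conj_eq_one_iff.1 e)
    have hz'χ : χ z' = 1 := by
      show χ ((⟨l, hl.1⟩ : K) * z * ⟨l, hl.1⟩⁻¹) = 1
      rw [map_mul, map_mul, hzχ, mul_one, map_inv, mul_inv_cancel]
    obtain ⟨i, hi, hzi⟩ := (hP0m _).1 (hkerP z' hlP hz'2 hz'1 hz'χ)
    have hzi' : l * z * l⁻¹ = el im i := hzi
    have hi2 : el im i * el im i = 1 := by rw [← hzi]; exact congrArg Subtype.val hz'2
    have hi1 : el im i ≠ 1 := fun e => hz'1 (Subtype.ext (hzi.trans e))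
    have hlu : Commute l (uv im) := mem_centralizer_singleton_iff.1 hl.1
    have hiu : el im i ≠ uv im := fun e => hzu (by
      calc (z : G) = l⁻¹ * (l * z * l⁻¹) * l := by group
        _ = l⁻¹ * (uv im * l) := by rw [hzi', e]; group
        _ = uv im := by rw [← hlu.eq]; group)
    have hsp := List.all_eq_true.1 split_ok.1 i (p0_sub hi)
    rw [splitOK, (expT_iff (p0_lt hi)).2 ((F.el_sq i).1 hi2),
      Bool.eq_false_iff.2 (fun h => hi1 ((F.el_one i).2 ((oneT_iff (p0_lt hi)).1 h))),
      Bool.eq_false_iff.2 (fun h => hiu ((F.el_word i uW11).2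
        ((isT_iff (p0_lt hi) (fun a ha => (uW11 a ha).trans (by norm_num))).1 h))),
      show p0Idx.contains i = true from List.contains_iff_mem.2 hi] at hsp
    simp only [Bool.not_true, Bool.false_or, List.any_eq_true, Bool.and_eq_true, if_true, Bool.or_eq_true,
      beq_iff_eq] at hsp
    obtain ⟨m, hm, hms, hor⟩ := hsp
    have hmu : el im m = el im i * uv im := by
      have h := F.faithful (hW m) (hW i ++ uW) (h11 m) (app11 (h11 i) uW11)
      rw [wvx_append, wvx_append] at h
      exact h.2 (shiftT_sound (p0_lt hi) (p_lt hm) hms)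
    rintro g ⟨hgz, hgK⟩
    have hg : g * (z : G) = z * g := mem_centralizer_singleton_iff.1 hgz
    have hgu : Commute g (uv im) := mem_centralizer_singleton_iff.1 hgK
    have hlg : Commute (l * g * l⁻¹) (el im i) := by
      rw [← hzi']
      show l * g * l⁻¹ * (l * z * l⁻¹) = l * z * l⁻¹ * (l * g * l⁻¹)
      calc l * g * l⁻¹ * (l * z * l⁻¹) = l * (g * z) * l⁻¹ := by group
        _ = _ := by rw [hg]; group
    have hlgu : Commute (l * g * l⁻¹) (uv im) := (hlu.mul_left hgu).mul_left hlu.inv_left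
    have hlgY : l * g * l⁻¹ ∈ gY im := by
      have hget : ∀ a, a < 7680 → typeI a = some true → el im a * el im a = 1 → el im a ≠ 1 →
          Commute (l * g * l⁻¹) (el im a) → l * g * l⁻¹ ∈ gY im := by
        intro a ha hta ha2 ha1 hc
        obtain ⟨q, hq, y, hy, hya⟩ := F.invol_type ha ha2 ha1
        rw [hta] at hq
        simp only [Option.some.injEq] at hq
        subst hq
        exact F.cent_conj hy hya hc.eq
      rcases hor with h | h
      · exact hget i (p0_lt hi) h hi2 hi1 hlg
      · have hlu' : Commute (el im i) (uv im) := (F.el_pair (p0_sub hi)).2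
        refine hget m (p_lt hm) h ?_ ?_ (by rw [hmu]; exact hlg.mul_right hlgu)
        · rw [hmu]
          calc el im i * uv im * (el im i * uv im) = el im i * (uv im * el im i) * uv im := by group
            _ = el im i * el im i * (uv im * uv im) := by rw [← hlu'.eq]; group
            _ = 1 := by rw [hi2, F.u_sq, one_mul]
        · intro e
          rw [hmu] at e
          exact hiu ((eq_inv_of_mul_eq_one_left e).trans (inv_eq_of_mul_eq_one_left F.u_sq))
    have hlY : l ∈ gY im := hl.2
    have := mul_mem (mul_mem (inv_mem hlY) hlgY) hlY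
    simpa [mul_assoc] using this
  -- the product of the first involution and a conjugate of the third
  intro k hk
  set j := k * bv im * k⁻¹ with hj
  have hjK : j ∈ K := mul_mem (mul_mem hk hbK) (inv_mem hk)
  have hj2 : j * j = 1 := by
    rw [hj]
    calc k * bv im * k⁻¹ * (k * bv im * k⁻¹) = k * (bv im * bv im) * k⁻¹ := by group
      _ = 1 := by rw [F.b_sq]; group
  let T : K := ⟨tv' im, htK⟩
  let J : K := ⟨j, hjK⟩
  have hTχ : χ T = 1 := hsel true T rfl
  have hJχ : χ J = 1 := by
    have e : J = ⟨k, hk⟩ * ⟨bv im, hbK⟩ * ⟨k, hk⟩⁻¹ := Subtype.ext rfl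
    rw [e, map_mul, map_mul, hsel false ⟨bv im, hbK⟩ rfl, mul_one, map_inv, mul_inv_cancel]
  have hT2 : T * T = 1 := Subtype.ext F.t_sq
  have hJ2 : J * J = 1 := Subtype.ext hj2
  have hTi : T⁻¹ = T := inv_eq_of_mul_eq_one_left hT2
  have hJi : J⁻¹ = J := inv_eq_of_mul_eq_one_left hJ2
  set w := T * J with hw
  have hTw : T * w * T⁻¹ = w⁻¹ := by
    rw [hw, mul_inv_rev, hJi, hTi, ← mul_assoc T T J, hT2, one_mul]
  have hTwT : w * T = T * J * T := by rw [hw]
  have hrot : ∀ p : ℕ, w ^ p * T * (w ^ p)⁻¹ = w ^ (2 * p) * T := fun p => by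
    have h : T * (w ^ p)⁻¹ * T⁻¹ = w ^ p := by
      rw [← inv_pow, ← conj_pow, show T * w⁻¹ * T⁻¹ = (T * w * T⁻¹)⁻¹ by group, hTw, inv_inv]
    calc w ^ p * T * (w ^ p)⁻¹ = w ^ p * (T * (w ^ p)⁻¹ * T⁻¹) * T := by group
      _ = w ^ (2 * p) * T := by rw [h, ← pow_add, ← two_mul]
  have hrot' : ∀ p : ℕ, (w ^ p * T) * J * (w ^ p * T)⁻¹ = w ^ (2 * p + 1) * T := fun p => by
    calc (w ^ p * T) * J * (w ^ p * T)⁻¹ = w ^ p * (T * J * T⁻¹) * (w ^ p)⁻¹ := by group
      _ = w ^ p * (w * T) * (w ^ p)⁻¹ := by rw [hTi, hTwT]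
      _ = w * (w ^ p * T * (w ^ p)⁻¹) := by
          rw [← mul_assoc (w ^ p) w T, ← pow_succ, pow_succ']; group
      _ = w ^ (2 * p + 1) * T := by rw [hrot, ← mul_assoc, ← pow_succ']
  have hjY : j ∈ gY im := by
    rcases Nat.even_or_odd' (orderOf w) with ⟨n, he | he⟩
    · -- a central involution
      have hpos : 0 < n := by have := orderOf_pos w; omega
      set Z := w ^ n with hZ
      have hZ2 : Z * Z = 1 := by
        rw [hZ, ← pow_add, ← two_mul, ← he]; exact pow_orderOf_eq_one _
      have hZ1 : Z ≠ 1 := fun e => by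
        have := Nat.le_of_dvd hpos (orderOf_dvd_of_pow_eq_one e)
        omega
      have hZi : Z⁻¹ = Z := inv_eq_of_mul_eq_one_left hZ2
      have hTZ : Commute T Z := by
        have h : T * Z * T⁻¹ = Z := by rw [hZ, ← conj_pow, hTw, inv_pow, ← hZ, hZi]
        exact mul_inv_eq_iff_eq_mul.1 h
      have hJZ : Commute J Z := by
        have h : Commute w Z := (Commute.refl w).pow_right n
        have e : J = T * w := by rw [hw, ← mul_assoc, hT2, one_mul]
        rw [e]; exact hTZ.mul_left h
      have hZχ : χ Z = 1 := by rw [hZ, map_pow, hw, map_mul, hTχ, hJχ, one_mul, one_pow]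
      have hZY : (Z : G) ∈ gY im := F.cent_le (congrArg Subtype.val hTZ.eq.symm)
      by_cases hZu : (Z : G) = uv im
      · -- the product of `t` and the second involution is not in the first class
        exfalso
        obtain ⟨i, hi, hiT⟩ := List.any_eq_true.1 fusion_facts.1
        simp only [Bool.and_eq_true, beq_iff_eq] at hiT
        have hel : el im i = uv im * tv' im := by
          rw [(F.el_word i (app11 t11 uW11)).2 ((isT_iff (p0_lt hi)
            (fun a ha => ((app11 t11 uW11) a ha).trans (by norm_num))).1 hiT.1), wvx_append]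
          exact mem_centralizer_singleton_iff.1 htK
        have hno : ∀ g : G, g * ((Z : G) * (T : G)) * g⁻¹ ≠ tv' im := fun g => by
          rw [hZu, show (T : G) = tv' im from rfl, ← hel]
          exact F.type_false (p0_lt hi) hiT.2 g
        rcases Nat.even_or_odd' n with ⟨p, hp | hp⟩
        · have e := congrArg Subtype.val (hrot p)
          rw [← hp, ← hZ] at e
          simp only [Subgroup.coe_mul, Subgroup.coe_inv] at e
          refine hno (((w ^ p : K) : G))⁻¹ ?_
          rw [← e, show (T : G) = tv' im from rfl]; group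
        · have e := congrArg Subtype.val (hrot' p)
          rw [← hp, ← hZ] at e
          simp only [Subgroup.coe_mul, Subgroup.coe_inv] at e
          refine hno (yb * k⁻¹ * (((w ^ p : K) : G) * (T : G))⁻¹) ?_
          rw [← e, ← hybt, show (J : G) = k * bv im * k⁻¹ from rfl]; group
      · exact hcz Z hZY hZ2 hZ1 hZu hZχ ⟨mem_centralizer_singleton_iff.2 (congrArg Subtype.val hJZ.eq), hjK⟩
    · -- conjugate involutions
      exfalso
      have hpow : w ^ (2 * (n + 1)) = w := by
        rw [show 2 * (n + 1) = (2 * n + 1) + 1 by ring, ← he, pow_succ, pow_orderOf_eq_one, one_mul]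
      have h := hrot (n + 1)
      rw [hpow, hTwT] at h
      have e : (T * w ^ (n + 1)) * T * (T * w ^ (n + 1))⁻¹ = J := by
        calc (T * w ^ (n + 1)) * T * (T * w ^ (n + 1))⁻¹
            = T * (w ^ (n + 1) * T * (w ^ (n + 1))⁻¹) * T⁻¹ := by group
          _ = (T * T) * J * (T * T⁻¹) := by rw [h]; group
          _ = J := by rw [hT2]; group
      have e' := congrArg Subtype.val e
      simp only [Subgroup.coe_mul, Subgroup.coe_inv] at e'
      refine hnot (k⁻¹ * ((T * w ^ (n + 1) : K) : G)) (mul_mem (inv_mem hk) (T * w ^ (n + 1)).2) ?_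
      have e3 : (J : G) = k * bv im * k⁻¹ := rfl
      calc k⁻¹ * ((T * w ^ (n + 1) : K) : G) * tv' im * (k⁻¹ * ((T * w ^ (n + 1) : K) : G))⁻¹
          = k⁻¹ * (((T * w ^ (n + 1) : K) : G) * tv' im * (((T * w ^ (n + 1) : K) : G))⁻¹) * k := by group
        _ = k⁻¹ * (J : G) * k := by rw [← e']; simp [T]
        _ = bv im := by rw [e3]; group
  -- back to the element
  obtain ⟨l, hl, hlP⟩ := conj_into (P := P) (L := K ⊓ gY im) (le_inf inf_le_right hPY) hP2
    (fun Q hQ hPQ h2 => F.pair_max Q (hQ.trans inf_le_left) hPQ h2) (x := j) ⟨hjK, hjY⟩ hj2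
  have hb1 : bv im ≠ 1 := fun e => F.t_ne (by rw [← hybt, e]; group)
  let J' : K := ⟨l, hl.1⟩ * J * ⟨l, hl.1⟩⁻¹
  have hJ'1 : J' ≠ 1 := fun e => by
    have h : j = 1 := congrArg Subtype.val (conj_eq_one_iff.1 e)
    exact hb1 (conj_eq_one_iff.1 (hj ▸ h))
  have hJ'2 : J' * J' = 1 := by
    show (⟨l, hl.1⟩ : K) * J * ⟨l, hl.1⟩⁻¹ * (⟨l, hl.1⟩ * J * ⟨l, hl.1⟩⁻¹) = 1
    calc (⟨l, hl.1⟩ : K) * J * ⟨l, hl.1⟩⁻¹ * (⟨l, hl.1⟩ * J * ⟨l, hl.1⟩⁻¹)
        = ⟨l, hl.1⟩ * (J * J) * ⟨l, hl.1⟩⁻¹ := by group
      _ = 1 := by rw [hJ2]; group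
  have hJ'χ : χ J' = 1 := by
    show χ ((⟨l, hl.1⟩ : K) * J * ⟨l, hl.1⟩⁻¹) = 1
    rw [map_mul, map_mul, hJχ, mul_one, map_inv, mul_inv_cancel]
  obtain ⟨p, hp, hpj⟩ := hclass (J' : G) (hkerP J' hlP hJ'2 hJ'1 hJ'χ) (congrArg Subtype.val hJ'2)
    ⟨yb * (l * k)⁻¹, by
      show yb * (l * k)⁻¹ * (l * (k * bv im * k⁻¹) * l⁻¹) * (yb * (l * k)⁻¹)⁻¹ = tv' im
      rw [← hybt]; group⟩
  obtain ⟨l2, hl2, hle⟩ := hentry p hp
  rw [← hpj, show (J' : G) = l * (k * bv im * k⁻¹) * l⁻¹ from rfl] at hle
  cases hq : p.2.1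
  · rw [hq] at hle
    simp only [Bool.false_eq_true, if_false] at hle
    have hg : l2 * l * k * bv im = bv im * (l2 * l * k) := by
      nth_rw 2 [← hle]
      group
    have hgY := F.cent_conj hyb hybt hg
    have hlY : l2 * l ∈ gY im := mul_mem (hl2.2 : l2 ∈ gY im) (hl.2 : l ∈ gY im)
    have := mul_mem (inv_mem hlY) hgY
    simpa [mul_assoc] using this
  · rw [hq] at hle
    simp only [if_true] at hle
    exfalso
    refine hnot (l2 * l * k)⁻¹ (inv_mem (mul_mem (mul_mem hl2.1 hl.1) hk)) ?_
    rw [← hle]; group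

/-- Every element lies in the group of the letters. -/
theorem top_le : ∀ g : G, g ∈ gY im := by
  intro g
  set u := uv im with hu
  set t := tv' im with ht
  set j := g * u * g⁻¹ with hj
  have hj2 : j * j = 1 := by
    rw [hj]
    calc g * u * g⁻¹ * (g * u * g⁻¹) = g * (u * u) * g⁻¹ := by group
      _ = 1 := by rw [hu, F.u_sq]; group
  have hTi : t⁻¹ = t := inv_eq_of_mul_eq_one_left F.t_sq
  have hJi : j⁻¹ = j := inv_eq_of_mul_eq_one_left hj2
  set w := t * j with hw
  have hTw : t * w * t⁻¹ = w⁻¹ := by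
    rw [hw, mul_inv_rev, hJi, hTi, ← mul_assoc t t j, show t * t = 1 from F.t_sq, one_mul]
  have hjY : j ∈ gY im := by
    rcases Nat.even_or_odd' (orderOf w) with ⟨n, he | he⟩
    · have hpos : 0 < n := by have := orderOf_pos w; omega
      set z := w ^ n with hz
      have hz2 : z * z = 1 := by rw [hz, ← pow_add, ← two_mul, ← he]; exact pow_orderOf_eq_one _
      have hz1 : z ≠ 1 := fun e => by
        have := Nat.le_of_dvd hpos (orderOf_dvd_of_pow_eq_one e)
        omega
      have htz : Commute t z := by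
        have h : t * z * t⁻¹ = z := by rw [hz, ← conj_pow, hTw, inv_pow, ← hz, inv_eq_of_mul_eq_one_left hz2]
        exact mul_inv_eq_iff_eq_mul.1 h
      have hjz : Commute j z := by
        have h : Commute w z := (Commute.refl w).pow_right n
        have e : j = t * w := by rw [hw, ← mul_assoc, show t * t = 1 from F.t_sq, one_mul]
        rw [e]; exact htz.mul_left h
      have hzY : z ∈ gY im := F.cent_le htz.eq.symm
      obtain ⟨y, hy, hyz | hyz⟩ := F.invol_Y hzY hz2 hz1
      · exact F.cent_conj hy hyz hjz.eq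
      · have h : y * j * y⁻¹ ∈ gY im := F.cent_u_le (mem_centralizer_singleton_iff.2 (by
          rw [← hyz]
          calc y * j * y⁻¹ * (y * z * y⁻¹) = y * (j * z) * y⁻¹ := by group
            _ = _ := by rw [hjz.eq]; group))
        have := mul_mem (mul_mem (inv_mem hy) h) hy
        simpa [mul_assoc] using this
    · exfalso
      have h1 : w ^ (2 * n + 1) = 1 := by rw [← he]; exact pow_orderOf_eq_one w
      have h : t * (w ^ (n + 1))⁻¹ * t⁻¹ = w ^ (n + 1) := by
        rw [← inv_pow, ← conj_pow, show t * w⁻¹ * t⁻¹ = (t * w * t⁻¹)⁻¹ by group, hTw, inv_inv]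
      have e : t * w ^ (n + 1) * t * (t * w ^ (n + 1))⁻¹ = j := by
        calc t * w ^ (n + 1) * t * (t * w ^ (n + 1))⁻¹
            = t * w ^ (n + 1) * (t * (w ^ (n + 1))⁻¹ * t⁻¹) := by group
          _ = t * w ^ (2 * n + 1) * w := by
              rw [h, mul_assoc t, ← pow_add, mul_assoc t, ← pow_succ]
              congr 2
              ring
          _ = j := by rw [h1, mul_one, hw, ← mul_assoc, show t * t = 1 from F.t_sq, one_mul]
      refine F.not_fused ((t * w ^ (n + 1))⁻¹ * g) ?_
      calc (t * w ^ (n + 1))⁻¹ * g * u * ((t * w ^ (n + 1))⁻¹ * g)⁻¹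
          = (t * w ^ (n + 1))⁻¹ * (g * u * g⁻¹) * (t * w ^ (n + 1)) := by group
        _ = t := by rw [← hj, ← e]; group
  obtain ⟨y, hy, hyj | hyj⟩ := F.invol_Y hjY hj2 (fun e => F.u_ne (conj_eq_one_iff.1 e))
  · refine absurd ?_ (F.not_fused (y * g))
    rw [← hyj, hj, hu]; group
  · have hyg : y * g ∈ gY im := F.cent_u_le (mem_centralizer_singleton_iff.2 (by
      nth_rw 2 [show uv im = y * j * y⁻¹ from hyj.symm]
      rw [hj, hu]; group))
    have := mul_mem (inv_mem hy) hyg
    simpa using this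

end Faith

end Cfsg.Lib.HSLocal
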