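import Cfsg.Agent.HSLocal.Frame

/-!
Coordinates on the abelian normal subgroup and the matrices of its normalizer.
-/

set_option autoImplicit false
set_option maxRecDepth 20000
set_option synthInstance.maxSize 1024

namespace Cfsg.Lib.HSLocal

open Subgroup

variable {G : Type*} [Group G] {L : Loc G} (C : Coord L)

namespace Coord

/-- The conjugate of the generator. -/
def b : G := C.x * C.a * C.x⁻¹

theorem b_A : C.b ∈ L.A := L.A_norm C.x C.x_M C.a C.a_A

theorem x3 : C.x * C.x * C.x = 1 := by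
  rw [← pow_two, ← pow_succ, show (2 + 1) = orderOf C.x from C.x_ord.symm]; exact pow_orderOf_eq_one C.x

theorem x_b : C.x * C.b * C.x⁻¹ = C.a⁻¹ * C.b⁻¹ := by
  have h : C.x * C.b * C.x⁻¹ * C.b * C.a = 1 := C.norm
  calc C.x * C.b * C.x⁻¹ = (C.x * C.b * C.x⁻¹ * C.b * C.a) * C.a⁻¹ * C.b⁻¹ := by group
    _ = C.a⁻¹ * C.b⁻¹ := by rw [h, one_mul]

/-- The element of given coordinates. -/
def P (v : E4) : G := L.c ^ v.1.val * C.a ^ v.2.1.val * C.b ^ v.2.2.val

theorem P_mem (v : E4) : C.P v ∈ L.A :=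
  mul_mem (mul_mem (pow_mem L.c_A _) (pow_mem C.a_A _)) (pow_mem C.b_A _)

theorem pow_val {g : G} (hg : g ^ 4 = 1) (i j : ZMod 4) : g ^ (i + j).val = g ^ i.val * g ^ j.val := by
  rw [← pow_add, ZMod.val_add, ← pow_eq_pow_mod _ hg]

theorem P_add (v w : E4) : C.P (v + w) = C.P v * C.P w := by
  have hc := L.c_four
  have ha := L.A_exp C.a C.a_A
  have hb := L.A_exp C.b C.b_A
  rw [P, P, P, Prod.fst_add, Prod.snd_add, Prod.fst_add, Prod.snd_add, pow_val hc, pow_val ha, pow_val hb]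
  have key : ∀ {p q r p' q' r' : G}, p ∈ L.A → q ∈ L.A → r ∈ L.A → p' ∈ L.A → q' ∈ L.A → r' ∈ L.A →
      p * p' * (q * q') * (r * r') = p * q * r * (p' * q' * r') := by
    intro p q r p' q' r' hp hq hr hp' hq' hr'
    have h1 : Commute p' q := L.A_comm _ hp' _ hq
    have h2 : Commute p' r := L.A_comm _ hp' _ hr
    have h3 : Commute q' r := L.A_comm _ hq' _ hr
    calc p * p' * (q * q') * (r * r') = p * (p' * q) * q' * r * r' := by group
      _ = p * q * p' * (q' * r) * r' := by rw [h1.eq]; group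
      _ = p * q * (p' * r) * q' * r' := by rw [h3.eq]; group
      _ = _ := by rw [h2.eq]; group
  exact key (pow_mem L.c_A _) (pow_mem C.a_A _) (pow_mem C.b_A _) (pow_mem L.c_A _) (pow_mem C.a_A _)
    (pow_mem C.b_A _)

theorem P_zero : C.P 0 = 1 := by simp [P]

theorem P_neg (v : E4) : C.P (-v) = (C.P v)⁻¹ :=
  eq_inv_of_mul_eq_one_left (by rw [← C.P_add, neg_add_cancel, C.P_zero])

theorem P_c : C.P (1, 0, 0) = L.c := by simp [P, show (1 : ZMod 4).val = 1 from rfl]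
theorem P_a : C.P (0, 1, 0) = C.a := by simp [P, show (1 : ZMod 4).val = 1 from rfl]
theorem P_b : C.P (0, 0, 1) = C.b := by simp [P, show (1 : ZMod 4).val = 1 from rfl]

theorem P_t : C.P (2, 0, 0) = L.t := by
  rw [show ((2, 0, 0) : E4) = (1, 0, 0) + (1, 0, 0) by decide, C.P_add, C.P_c, L.c_sq]

theorem conj_P (v : E4) : C.x * C.P v * C.x⁻¹ = C.P (app mX v) := by
  have hc : C.x * L.c * C.x⁻¹ = L.c := by rw [C.x_c]; group
  have h : ∀ (n : ℕ) (g : G), C.x * g ^ n * C.x⁻¹ = (C.x * g * C.x⁻¹) ^ n := fun n g => conj_pow.symm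
  have e : app mX v = sm v.1 (1, 0, 0) + sm v.2.1 (0, 0, 1) + sm v.2.2 (0, 3, 3) := rfl
  have hb : C.P (0, 3, 3) = C.x * C.b * C.x⁻¹ := by
    rw [show ((0, 3, 3) : E4) = -(0, 1, 0) + -(0, 0, 1) by decide, C.P_add, C.P_neg, C.P_neg, C.P_a, C.P_b, C.x_b]
  have hsm : ∀ (k : ZMod 4) (w : E4), C.P (sm k w) = C.P w ^ k.val := by
    intro k w
    obtain ⟨n, hn, rfl⟩ : ∃ n : ℕ, n < 4 ∧ (n : ZMod 4) = k := ⟨k.val, k.val_lt, ZMod.natCast_zmod_val k⟩
    rw [ZMod.val_natCast_of_lt hn]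
    clear hn
    induction n with
    | zero => simp [sm, P]
    | succ n ih =>
      rw [pow_succ, ← ih, ← C.P_add]
      congr 1
      ext <;> simp [sm, add_mul]
  rw [e, C.P_add, C.P_add, hsm, hsm, hsm, C.P_c, C.P_b, hb]
  calc C.x * C.P v * C.x⁻¹ = (C.x * L.c ^ v.1.val * C.x⁻¹) * (C.x * C.a ^ v.2.1.val * C.x⁻¹) *
        (C.x * C.b ^ v.2.2.val * C.x⁻¹) := by rw [P]; group
    _ = _ := by rw [h, h, h, hc]; rfl

theorem orbit_ne (p : G) (hp : p ∈ L.A) (hp2 : p * p = 1) (h1 : p ≠ 1) (ht : p ≠ L.t)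
    (hnorm : C.x * (C.x * p * C.x⁻¹) * C.x⁻¹ * (C.x * p * C.x⁻¹) * p = 1) :
    C.x * p * C.x⁻¹ ≠ 1 ∧ C.x * p * C.x⁻¹ ≠ L.t ∧ C.x * p * C.x⁻¹ ≠ p ∧ C.x * p * C.x⁻¹ ≠ L.t * p := by
  have hxt : C.x * L.t * C.x⁻¹ = L.t := by rw [← (L.t_comm C.x_H).eq]; group
  refine ⟨fun e => h1 (conj_eq_one_iff.1 e), fun e => ht ?_, fun e => h1 ?_, fun e => h1 ?_⟩
  · calc p = C.x⁻¹ * (C.x * p * C.x⁻¹) * C.x := by group
      _ = C.x⁻¹ * (C.x * L.t * C.x⁻¹) * C.x := by rw [e, hxt]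
      _ = L.t := by group
  · rw [e, e] at hnorm
    rwa [hp2, one_mul] at hnorm
  · have e2 : C.x * (C.x * p * C.x⁻¹) * C.x⁻¹ = p := by
      calc C.x * (C.x * p * C.x⁻¹) * C.x⁻¹ = C.x * (L.t * p) * C.x⁻¹ := by rw [e]
        _ = (C.x * L.t * C.x⁻¹) * (C.x * p * C.x⁻¹) := by group
        _ = L.t * (L.t * p) := by rw [hxt, e]
        _ = p := by rw [← mul_assoc, L.t_sq, one_mul]
    have e3 : C.x * p * C.x⁻¹ = p := by
      calc C.x * p * C.x⁻¹ = C.x * (C.x * (C.x * p * C.x⁻¹) * C.x⁻¹) * C.x⁻¹ := by rw [e2]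
        _ = C.x * C.x * C.x * p * (C.x * C.x * C.x)⁻¹ := by group
        _ = p := by rw [C.x3]; group
    rw [e3, e3] at hnorm
    rwa [hp2, one_mul] at hnorm

theorem P_inj : Function.Injective C.P := by
  have hsqa : C.a * C.a * (C.a * C.a) = 1 := by rw [← L.A_exp C.a C.a_A]; simp [pow_succ, mul_assoc]
  have ht := L.t_sq
  have hp2V : C.a * C.a ∈ L.A := mul_mem C.a_A C.a_A
  have hnorm : C.x * (C.x * (C.a * C.a) * C.x⁻¹) * C.x⁻¹ * (C.x * (C.a * C.a) * C.x⁻¹) * (C.a * C.a) = 1 := by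
    have e : C.x * C.b * C.x⁻¹ * C.b * C.a = 1 := C.norm
    have hbb : C.x * (C.a * C.a) * C.x⁻¹ = C.b * C.b := by rw [b]; group
    have hbb' : C.x * (C.b * C.b) * C.x⁻¹ = (C.x * C.b * C.x⁻¹) * (C.x * C.b * C.x⁻¹) := by group
    rw [hbb, hbb']
    set g := C.x * C.b * C.x⁻¹
    have hg : g ∈ L.A := L.A_norm C.x C.x_M _ C.b_A
    have h1 : Commute g C.b := L.A_comm _ hg _ C.b_A
    have h2 : Commute g C.a := L.A_comm _ hg _ C.a_A
    have h3 : Commute C.b C.a := L.A_comm _ C.b_A _ C.a_A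
    calc g * g * (C.b * C.b) * (C.a * C.a) = g * (g * C.b) * C.b * C.a * C.a := by group
      _ = g * C.b * g * (C.b * C.a) * C.a := by rw [h1.eq]; simp only [mul_assoc]; rw [← mul_assoc g C.b, h1.eq]; group
      _ = g * C.b * (g * C.a) * C.b * C.a := by rw [h3.eq]; group
      _ = (g * C.b * C.a) * (g * C.b * C.a) := by rw [h2.eq]; group
      _ = 1 := by rw [e, one_mul]
  obtain ⟨q1, qt, qp, qtp⟩ := C.orbit_ne _ hp2V hsqa C.a_one C.a_t hnorm
  have hq : C.x * (C.a * C.a) * C.x⁻¹ = C.b * C.b := by rw [b]; group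
  rw [hq] at q1 qt qp qtp
  have ha2 : C.P (0, 2, 0) = C.a * C.a := by
    rw [show ((0, 2, 0) : E4) = (0, 1, 0) + (0, 1, 0) by decide, C.P_add, C.P_a]
  have hb2 : C.P (0, 0, 2) = C.b * C.b := by
    rw [show ((0, 0, 2) : E4) = (0, 0, 1) + (0, 0, 1) by decide, C.P_add, C.P_b]
  have hb4 : C.b * C.b * (C.b * C.b) = 1 := by rw [← L.A_exp C.b C.b_A]; simp [pow_succ, mul_assoc]
  have hcases : ∀ v : E4, v + v = 0 → v = 0 ∨ v = (2, 0, 0) ∨ v = (0, 2, 0) ∨ v = (2, 2, 0) ∨ v = (0, 0, 2) ∨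
      v = (2, 0, 2) ∨ v = (0, 2, 2) ∨ v = (2, 2, 2) := by decide +kernel
  have hne : ∀ v : E4, v + v = 0 → C.P v = 1 → v = 0 := by
    intro v hv h
    rcases hcases v hv with rfl | rfl | rfl | rfl | rfl | rfl | rfl | rfl
    · rfl
    · exact absurd (C.P_t.symm.trans h) L.t_ne
    · exact absurd (ha2.symm.trans h) C.a_one
    · rw [show ((2, 2, 0) : E4) = (2, 0, 0) + (0, 2, 0) by decide, C.P_add, C.P_t, ha2] at h
      exact absurd (by rw [← inv_eq_of_mul_eq_one_right h, inv_eq_of_mul_eq_one_right ht]) C.a_t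
    · exact absurd (hb2.symm.trans h) q1
    · rw [show ((2, 0, 2) : E4) = (2, 0, 0) + (0, 0, 2) by decide, C.P_add, C.P_t, hb2] at h
      exact absurd (by rw [← inv_eq_of_mul_eq_one_right h, inv_eq_of_mul_eq_one_right ht]) qt
    · rw [show ((0, 2, 2) : E4) = (0, 2, 0) + (0, 0, 2) by decide, C.P_add, ha2, hb2] at h
      exact absurd (by rw [← inv_eq_of_mul_eq_one_right h, inv_eq_of_mul_eq_one_right hsqa]) qp
    · rw [show ((2, 2, 2) : E4) = (2, 0, 0) + (0, 2, 0) + (0, 0, 2) by decide, C.P_add, C.P_add, C.P_t, ha2, hb2] at h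
      refine absurd ?_ qtp
      rw [← inv_eq_of_mul_eq_one_right h, mul_inv_rev, inv_eq_of_mul_eq_one_right hsqa,
        inv_eq_of_mul_eq_one_right ht]
      exact L.A_comm _ hp2V _ (L.V_A L.t_V)
  have hker : ∀ v : E4, C.P v = 1 → v = 0 := fun v h => by
    have h2 : v + v = 0 := by
      refine hne (v + v) ?_ (by rw [C.P_add, h, one_mul])
      have : ∀ v : E4, v + v + (v + v) = 0 := by decide +kernel
      exact this v
    exact hne v h2 h
  intro v w e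
  refine sub_eq_zero.1 (hker _ ?_)
  rw [sub_eq_add_neg, C.P_add, C.P_neg, e, mul_inv_cancel]

theorem card_E4 : Nat.card E4 = 64 := by
  rw [Nat.card_eq_fintype_card]; rfl

variable [Finite G]

theorem P_surj {g : G} (hg : g ∈ L.A) : ∃ v : E4, C.P v = g := by
  have hb : Function.Bijective (fun v : E4 => (⟨C.P v, C.P_mem v⟩ : L.A)) :=
    (Nat.bijective_iff_injective_and_card _).2
      ⟨fun v w e => C.P_inj (congrArg Subtype.val e), by rw [card_E4, L.card_A]⟩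
  obtain ⟨v, hv⟩ := hb.2 ⟨g, hg⟩
  exact ⟨v, congrArg Subtype.val hv⟩

/-- The action of an element of the normalizer. -/
noncomputable def act (g : G) (v : E4) : E4 :=
  _root_.Classical.epsilon fun w => C.P w = g * C.P v * g⁻¹

theorem act_spec {g : G} (hg : g ∈ L.M) (v : E4) : C.P (C.act g v) = g * C.P v * g⁻¹ := by
  have h : g * C.P v * g⁻¹ ∈ L.A := L.A_norm g hg _ (C.P_mem v)
  exact _root_.Classical.epsilon_spec (p := fun w => C.P w = g * C.P v * g⁻¹) (C.P_surj h)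

/-- The matrix of an element of the normalizer. -/
noncomputable def mat (g : G) : Mat := (C.act g (1, 0, 0), C.act g (0, 1, 0), C.act g (0, 0, 1))

theorem act_add {g : G} (hg : g ∈ L.M) (v w : E4) : C.act g (v + w) = C.act g v + C.act g w := by
  apply C.P_inj
  rw [C.act_spec hg, C.P_add, C.P_add, C.act_spec hg, C.act_spec hg]
  group

theorem conj_app {g : G} (hg : g ∈ L.M) (v : E4) : g * C.P v * g⁻¹ = C.P (app (C.mat g) v) := by
  rw [← C.act_spec hg]
  congr 1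
  let f : E4 →+ E4 := AddMonoidHom.mk' (C.act g) (C.act_add hg)
  have hsm : ∀ (k : ZMod 4) (w : E4), f (sm k w) = sm k (f w) := by
    intro k w
    obtain ⟨n, rfl⟩ : ∃ n : ℕ, (n : ZMod 4) = k := ⟨k.val, ZMod.natCast_zmod_val k⟩
    have : ∀ z : E4, sm (n : ZMod 4) z = n • z := fun z => by ext <;> simp [sm]
    rw [this, this, map_nsmul]
  have hv : v = sm v.1 (1, 0, 0) + sm v.2.1 (0, 1, 0) + sm v.2.2 (0, 0, 1) := by
    simp [sm]
  show f v = _
  conv_lhs => rw [hv]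
  rw [map_add, map_add, hsm, hsm, hsm]
  rfl

theorem mat_eq {g : G} (hg : g ∈ L.M) {m : Mat} (h : ∀ v, g * C.P v * g⁻¹ = C.P (app m v)) : C.mat g = m := by
  have e : ∀ v, C.act g v = app m v := fun v => C.P_inj (by rw [C.act_spec hg, h v])
  rw [mat, e, e, e]
  obtain ⟨⟨a, b, c⟩, ⟨d, e', f⟩, g', h', i⟩ := m
  simp [app, sm]

theorem mat_mul {g h : G} (hg : g ∈ L.M) (hh : h ∈ L.M) : C.mat (g * h) = mm (C.mat g) (C.mat h) := by
  refine C.mat_eq (mul_mem hg hh) fun v => ?_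
  rw [app_mm, ← C.conj_app hg, ← C.conj_app hh]
  group

theorem mat_A {g : G} (hg : g ∈ L.A) : C.mat g = idM := by
  refine C.mat_eq (L.A_le hg) fun v => ?_
  rw [app_id, L.A_comm g hg _ (C.P_mem v)]
  group

theorem mat_one : C.mat 1 = idM := C.mat_A (one_mem _)

theorem mat_x : C.mat C.x = mX := C.mat_eq C.x_M C.conj_P

theorem det_mul {g h : G} (hg : g ∈ L.M) (hh : h ∈ L.M) :
    det3 (C.mat (g * h)) = det3 (C.mat g) * det3 (C.mat h) := by
  rw [C.mat_mul hg hh, det3_mm]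

theorem det_one {g : G} (hg : g ∈ L.M) : det3 (C.mat g) = 1 := by
  have key : ∀ (D : Mat → ZMod 4), (D idM = 1) → (∀ {g h : G}, g ∈ L.M → h ∈ L.M →
      D (C.mat (g * h)) = D (C.mat g) * D (C.mat h)) → D (C.mat g) = 1 := by
    intro D h1 h2
    let d : L.M →* ZMod 4 :=
      { toFun := fun a => D (C.mat (a : G))
        map_one' := by rw [Subgroup.coe_one, C.mat_one, h1]
        map_mul' := fun a b => by rw [Subgroup.coe_mul]; exact h2 a.2 b.2 }
    have h := L.perfect d.toHomUnits fun a ha => Units.ext (by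
      rw [MonoidHom.coe_toHomUnits, Units.val_one]
      show D (C.mat (a : G)) = 1
      rw [C.mat_A ha, h1])
    have e := congrArg Units.val (DFunLike.congr_fun h ⟨g, hg⟩)
    rw [MonoidHom.coe_toHomUnits] at e
    exact e
  exact key det3 det3_id C.det_mul

theorem halve1 : ∀ q : ZMod 4, q + q = 0 → ∃ w, w + w = q := by decide

theorem halve (u : E4) (h : u + u = 0) : ∃ w, w + w = u := by
  obtain ⟨q, r, z⟩ := u
  simp only [Prod.mk_add_mk, Prod.mk_eq_zero] at h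
  obtain ⟨a, rfl⟩ := halve1 q h.1
  obtain ⟨b, rfl⟩ := halve1 r h.2.1
  obtain ⟨d, rfl⟩ := halve1 z h.2.2
  exact ⟨(a, b, d), rfl⟩

theorem V_double {v : G} (hv : v ∈ L.V) : ∃ w : E4, C.P (w + w) = v := by
  obtain ⟨u, rfl⟩ := C.P_surj (L.V_A hv)
  have hh : C.P (u + u) = C.P 0 := by
    rw [C.P_add, L.V_sq _ hv, C.P_zero]
  have h : u + u = 0 := C.P_inj hh
  obtain ⟨w, hw⟩ := halve u h
  exact ⟨w, congrArg C.P hw⟩

theorem double_V (w : E4) : C.P (w + w) ∈ L.V := by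
  refine L.A_sq _ (C.P_mem _) ?_
  rw [← C.P_add, ← C.P_zero]
  congr 1
  have : ∀ w : E4, w + w + (w + w) = 0 := by decide +kernel
  exact this w

theorem app_double {m n : Mat} (h : r2 m = r2 n) (w : E4) : app m (w + w) = app n (w + w) := by
  obtain ⟨⟨a, b, c⟩, ⟨d, e, f⟩, g, k, i⟩ := m
  obtain ⟨⟨a', b', c'⟩, ⟨d', e', f'⟩, g', k', i'⟩ := n
  obtain ⟨u, v, z⟩ := w
  simp only [r2, sm, Prod.mk.injEq] at h
  obtain ⟨⟨h1, h2, h3⟩, ⟨h4, h5, h6⟩, h7, h8, h9⟩ := h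
  simp only [app, sm, Prod.mk_add_mk, Prod.mk.injEq]
  refine ⟨?_, ?_, ?_⟩
  · linear_combination u * h1 + v * h4 + z * h7
  · linear_combination u * h2 + v * h5 + z * h8
  · linear_combination u * h3 + v * h6 + z * h9

/-- The action modulo two is faithful on the quotient. -/
theorem mem_A_of_r2 {g h : G} (hg : g ∈ L.M) (hh : h ∈ L.M) (e : r2 (C.mat g) = r2 (C.mat h)) : h⁻¹ * g ∈ L.A := by
  rw [L.mem_A]
  intro v hv
  obtain ⟨w, rfl⟩ := C.V_double hv
  have e1 : g * C.P (w + w) * g⁻¹ = h * C.P (w + w) * h⁻¹ := by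
    rw [C.conj_app hg, C.conj_app hh, app_double e]
  calc h⁻¹ * g * C.P (w + w) = h⁻¹ * (g * C.P (w + w) * g⁻¹) * g := by group
    _ = _ := by rw [e1]; group

theorem r2_unit {g : G} (hg : g ∈ L.M) : 2 * det3 (C.mat g) ≠ 0 := by
  rw [C.det_one hg]; decide

/-- Two-bit matrices. -/
abbrev Bits : Type := (Bool × Bool × Bool) × (Bool × Bool × Bool) × (Bool × Bool × Bool)

/-- The matrix of bits. -/
def ofBits (k : Bits) : Mat :=
  let z : Bool → ZMod 4 := fun q => bif q then 1 else 0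
  ((z k.1.1, z k.1.2.1, z k.1.2.2), (z k.2.1.1, z k.2.1.2.1, z k.2.1.2.2), (z k.2.2.1, z k.2.2.2.1, z k.2.2.2.2))

/-- The bits of a matrix. -/
def toBits (m : Mat) : Bits :=
  let z : ZMod 4 → Bool := fun q => decide (2 * q = 2)
  ((z m.1.1, z m.1.2.1, z m.1.2.2), (z m.2.1.1, z m.2.1.2.1, z m.2.1.2.2), (z m.2.2.1, z m.2.2.2.1, z m.2.2.2.2))

theorem bits_facts : (∀ q : ZMod 4, 2 * (bif decide (2 * q = 2) then 1 else 0 : ZMod 4) = 2 * q) ∧
    Nat.card {k : Bits // 2 * det3 (ofBits k) ≠ 0} = 168 := by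
  refine ⟨by decide, ?_⟩
  rw [Nat.card_eq_fintype_card]
  decide +kernel

theorem r2_bits (m : Mat) : r2 (ofBits (toBits m)) = r2 m := by
  simp only [r2, ofBits, toBits, sm, Prod.mk.injEq]
  exact ⟨⟨bits_facts.1 _, bits_facts.1 _, bits_facts.1 _⟩, ⟨bits_facts.1 _, bits_facts.1 _, bits_facts.1 _⟩,
    bits_facts.1 _, bits_facts.1 _, bits_facts.1 _⟩

theorem det_r2 {m n : Mat} (h : r2 m = r2 n) : 2 * det3 m = 2 * det3 n := by
  obtain ⟨⟨a, b, c⟩, ⟨d, e, f⟩, g, k, i⟩ := m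
  obtain ⟨⟨a', b', c'⟩, ⟨d', e', f'⟩, g', k', i'⟩ := n
  simp only [r2, sm, Prod.mk.injEq] at h
  obtain ⟨⟨h1, h2, h3⟩, ⟨h4, h5, h6⟩, h7, h8, h9⟩ := h
  simp only [det3]
  linear_combination (e * i - f * k) * h1 - (d * i - f * g) * h2 + (d * k - e * g) * h3
    + (-(b' * i) + c' * k) * h4 + (a' * i - c' * g) * h5 + (-(a' * k) + b' * g) * h6
    + (b' * f' - c' * e') * h7 + (-(a' * f') + c' * d') * h8 + (a' * e' - b' * d') * h9

/-- Every action on the elementary subgroup occurs. -/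
theorem realise (m : Mat) (hm : 2 * det3 m ≠ 0) : ∃ g ∈ L.M, r2 (C.mat g) = r2 m := by
  classical
  let T := {k : Bits // 2 * det3 (ofBits k) ≠ 0}
  let f : L.M → T := fun g => ⟨toBits (C.mat g), by rw [det_r2 (r2_bits _)]; exact C.r2_unit g.2⟩
  let rep : Set.range f → L.M := fun y => y.2.choose
  let F : L.M → Set.range f × L.A := fun g =>
    (⟨f g, g, rfl⟩, ⟨((rep ⟨f g, g, rfl⟩ : L.M) : G)⁻¹ * g, C.mem_A_of_r2 g.2 (rep _).2 (by
      have e : f (rep ⟨f g, g, rfl⟩) = f g := (⟨f g, g, rfl⟩ : Set.range f).2.choose_spec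
      have e' := congrArg (fun z : T => r2 (ofBits z.1)) e
      simp only [f, r2_bits] at e'
      exact e'.symm)⟩)
  have hF : Function.Injective F := fun g g' e => by
    simp only [F, Prod.mk.injEq] at e
    have h1 := congrArg Subtype.val e.2
    change ((rep ⟨f g, g, rfl⟩ : L.M) : G)⁻¹ * g = ((rep ⟨f g', g', rfl⟩ : L.M) : G)⁻¹ * g' at h1
    rw [e.1] at h1
    exact Subtype.ext (mul_left_cancel h1)
  have h := Nat.card_le_card_of_injective F hF
  rw [L.card_M, Nat.card_prod, L.card_A] at h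
  have hb : Function.Surjective f := by
    have hle : Nat.card T ≤ Nat.card (Set.range f) := by rw [bits_facts.2]; omega
    intro k
    have := Function.Injective.bijective_of_nat_card_le (f := fun y : Set.range f => y.1) Subtype.val_injective hle
    obtain ⟨⟨_, g, rfl⟩, hy⟩ := this.2 k
    exact ⟨g, hy⟩
  obtain ⟨g, hg⟩ := hb ⟨toBits m, by rw [det_r2 (r2_bits _)]; exact hm⟩
  refine ⟨g, g.2, ?_⟩
  have e := congrArg (fun z : T => r2 (ofBits z.1)) hg
  simp only [f, r2_bits] at e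
  exact e

end Coord

end Cfsg.Lib.HSLocal
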