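import Cfsg.Agent.Components.Cores
import Cfsg.Agent.SolvStruct.AltEight.GLFour
import Cfsg.Prelude.Def_Transfer

/-!
The local data of the Higman-Sims recognition: the centralizer of an involution and the normalizer of an
elementary abelian subgroup of order eight.
-/

set_option autoImplicit false

namespace Cfsg.Lib.HSLocal

open Subgroup
open scoped commutatorElement

variable {G : Type*} [Group G]

/-- The data. -/
structure Loc (G : Type*) [Group G] where
  t : G
  c : G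
  H : Subgroup G
  R : Subgroup G
  V : Subgroup G
  M : Subgroup G
  A : Subgroup G
  t_ne : t ≠ 1
  t_sq : t * t = 1
  c_sq : c * c = t
  mem_H : ∀ g, g ∈ H ↔ g * t = t * g
  card_H : Nat.card H = 7680
  R_le : R ≤ H
  R_norm : ∀ h ∈ H, ∀ r ∈ R, h * r * h⁻¹ ∈ R
  card_R : Nat.card R = 64
  R_comm : ∀ a ∈ R, ∀ b ∈ R, a * b = b * a ∨ a * b = b * a * t
  R_sq : ∀ a ∈ R, a * a = 1 ∨ a * a = t
  R_cent : ∀ z ∈ R, (∀ r ∈ R, z * r = r * z) → z ∈ zpowers c
  c_R : c ∈ R
  c_comm : ∀ r ∈ R, c * r = r * c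
  φ : H →* Equiv.Perm (Fin 5)
  φ_surj : Function.Surjective φ
  φ_ker : ∀ h : H, φ h = 1 ↔ (h : G) ∈ R
  card_V : Nat.card V = 8
  V_sq : ∀ v ∈ V, v * v = 1
  V_le : V ≤ R
  t_V : t ∈ V
  mem_M : ∀ g, g ∈ M ↔ ∀ v ∈ V, g * v * g⁻¹ ∈ V
  A_le : A ≤ M
  A_norm : ∀ g ∈ M, ∀ a ∈ A, g * a * g⁻¹ ∈ A
  card_A : Nat.card A = 64
  A_comm : ∀ a ∈ A, ∀ b ∈ A, a * b = b * a
  A_exp : ∀ a ∈ A, a ^ 4 = 1
  A_sq : ∀ a ∈ A, a * a = 1 → a ∈ V
  V_A : V ≤ A
  mem_A : ∀ g, g ∈ A ↔ ∀ v ∈ V, g * v = v * g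
  card_M : Nat.card M = 10752
  perfect : ∀ f : M →* (ZMod 4)ˣ, (∀ a : M, (a : G) ∈ A → f a = 1) → f = 1

/-- An abelian subgroup of the data is not of index two. -/
theorem abelian_bound [Finite G] {t c : G} {R : Subgroup G} (hR : Nat.card R = 64) (hc : c ^ 4 = 1)
    (hcomm : ∀ a ∈ R, ∀ b ∈ R, a * b = b * a ∨ a * b = b * a * t) (htt : t * t = 1)
    (hcen : ∀ z ∈ R, (∀ r ∈ R, z * r = r * z) → z ∈ zpowers c) (ht : ∀ r ∈ R, t * r = r * t)
    (K : Subgroup G) (hK : K ≤ R) (hab : ∀ a ∈ K, ∀ b ∈ K, a * b = b * a) : Nat.card K ≤ 16 := by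
  classical
  by_contra hlt
  have hZ : Nat.card (zpowers c) ≤ 4 := by
    rw [Nat.card_zpowers]; exact Nat.le_of_dvd (by norm_num) (orderOf_dvd_of_pow_eq_one hc)
  obtain hKR | ⟨g, hg, hgK⟩ : R ≤ K ∨ ∃ g, g ∈ R ∧ g ∉ K := by
    by_cases h : R ≤ K
    · exact Or.inl h
    · exact Or.inr (SetLike.not_le_iff_exists.1 h)
  · have : R ≤ zpowers c := fun z hz => hcen z hz fun r hr => hab z (hKR hz) r (hKR hr)
    have := Subgroup.card_le_of_le this
    omega
  have hd : Nat.card K ∣ 64 := hR ▸ Subgroup.card_dvd_of_le hK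
  have hne : Nat.card K ≠ 64 := fun e =>
    hgK ((Subgroup.eq_of_le_of_card_ge hK (by rw [e, hR])).symm ▸ hg)
  have h32 : Nat.card K = 32 := by
    obtain ⟨k, hk, e⟩ := (Nat.dvd_prime_pow Nat.prime_two).1 (show Nat.card K ∣ 2 ^ 6 from hd)
    interval_cases k <;> omega
  have hidx : (K.subgroupOf R).index = 2 := by
    have h := Subgroup.card_mul_index (K.subgroupOf R)
    rw [Nat.card_congr (Subgroup.subgroupOfEquivOfLe hK).toEquiv, h32, hR] at h
    omega
  let K0 : Set K := {k | g * k.1 = k.1 * g}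
  have hK0 : ∀ k : K0, (k.1.1 : G) ∈ zpowers c := by
    rintro ⟨⟨k, hk⟩, hkg⟩
    refine hcen k (hK hk) fun r hr => ?_
    by_cases hrK : r ∈ K
    · exact hab k hk r hrK
    · have h := (Subgroup.mul_mem_iff_of_index_two hidx (a := ⟨g, hg⟩⁻¹) (b := ⟨r, hr⟩)).2
        (iff_of_false (by simpa [Subgroup.mem_subgroupOf] using hgK) (by simpa [Subgroup.mem_subgroupOf] using hrK))
      rw [Subgroup.mem_subgroupOf] at h
      obtain ⟨k', hk', e⟩ : ∃ k' ∈ K, r = g * k' := ⟨g⁻¹ * r, by simpa using h, by group⟩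
      have hkg' : g * k = k * g := hkg
      rw [e, ← mul_assoc, ← hkg', mul_assoc, hab k hk k' hk', ← mul_assoc]
  have hle0 : Nat.card K0 ≤ 4 :=
    (Nat.card_le_card_of_injective (fun k : K0 => (⟨k.1.1, hK0 k⟩ : zpowers c)) fun a b e =>
      Subtype.ext (Subtype.ext (congrArg Subtype.val e :))).trans hZ
  obtain hall | ⟨k1, hk1⟩ : (∀ k : K, k ∈ K0) ∨ ∃ k1 : K, k1 ∉ K0 := by
    by_cases h : ∀ k : K, k ∈ K0
    · exact Or.inl h
    · exact Or.inr (not_forall.1 h)
  · have : Nat.card K ≤ Nat.card K0 :=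
      Nat.card_le_card_of_injective (fun k => ⟨k, hall k⟩) fun a b e => congrArg Subtype.val e
    omega
  have hmul : ∀ k : K, k ∉ K0 → k1⁻¹ * k ∈ K0 := fun k hk => by
    have e1 := (hcomm g hg k1.1 (hK k1.2)).resolve_left hk1
    have e2 := (hcomm g hg k.1 (hK k.2)).resolve_left hk
    show g * ((k1.1)⁻¹ * k.1) = (k1.1)⁻¹ * k.1 * g
    have e3 : (k1.1)⁻¹ * g = g * t * (k1.1)⁻¹ := by
      have hk1t := ht k1.1 (hK k1.2)
      calc (k1.1)⁻¹ * g = (k1.1)⁻¹ * (g * k1.1) * (k1.1)⁻¹ := by group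
        _ = g * t * (k1.1)⁻¹ := by rw [e1]; group
    calc g * ((k1.1)⁻¹ * k.1) = g * t * (k1.1)⁻¹ * (k.1 * t) := by
          rw [← ht k.1 (hK k.2)]
          have : t * (k1.1)⁻¹ * t = (k1.1)⁻¹ := by
            rw [← (show Commute (k1.1)⁻¹ t from (Commute.symm (ht k1.1 (hK k1.2))).inv_left).eq, mul_assoc, htt,
              mul_one]
          calc g * ((k1.1)⁻¹ * k.1) = g * (k1.1)⁻¹ * k.1 := by group
            _ = g * (t * (k1.1)⁻¹ * t) * k.1 := by rw [this]
            _ = _ := by group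
      _ = (k1.1)⁻¹ * g * (k.1 * t) := by rw [e3]
      _ = (k1.1)⁻¹ * (g * k.1) * t := by group
      _ = (k1.1)⁻¹ * k.1 * g := by rw [e2, mul_assoc, mul_assoc, htt, mul_one, mul_assoc]
  let f : K → K0 ⊕ K0 := fun k => if h : k ∈ K0 then Sum.inl ⟨k, h⟩ else Sum.inr ⟨k1⁻¹ * k, hmul k h⟩
  have hf : Function.Injective f := fun a b e => by
    simp only [f] at e
    split at e <;> split at e <;> simp_all
  have h2 := Nat.card_le_card_of_injective f hf
  rw [Nat.card_sum] at h2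
  omega

/-- The square roots of the unit in the model of the abelian normal subgroup. -/
theorem omega_model : Nat.card {z : Multiplicative (ZMod 4 × ZMod 4 × ZMod 4) // z * z = 1} = 8 := by
  rw [Nat.card_eq_fintype_card]; decide +kernel

/-- The data exist under the hypotheses of the recognition. -/
theorem exists_loc [Finite G]
    (t : G) (ht : orderOf t = 2) (H : Subgroup G) (hH : H = Subgroup.centralizer ({t} : Set G))
    (R : Subgroup G) (hR : R = (Cfsg.pCore 2 H).map H.subtype)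
    (Cy E : Subgroup G) (hCy : IsCyclic Cy) (hCycard : Nat.card Cy = 4)
    (hCyle : Cy ≤ R ⊓ Subgroup.centralizer (R : Set G))
    (hEle : E ≤ R) (hEex : Cfsg.IsExtraspecial 2 E) (hEcard : Nat.card E = 32)
    (hprod : Cy ⊔ E = R) (hmeet : Cy ⊓ E = E ⊓ Subgroup.centralizer (E : Set G))
    (eH : H ⧸ Cfsg.pCore 2 H ≃* Equiv.Perm (Fin 5))
    (V : Subgroup G) (hVcomm : IsMulCommutative V) (hVexp : ∀ v ∈ V, v ^ 2 = 1) (hVcard : Nat.card V = 8)
    (hVR : V ≤ R) (M : Subgroup G) (hM : M = Subgroup.normalizer (V : Set G))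
    (eOM : Cfsg.pCore 2 M ≃* Multiplicative (ZMod 4 × ZMod 4 × ZMod 4))
    (eM : M ⧸ Cfsg.pCore 2 M ≃* GL (Fin 3) (ZMod 2)) :
    ∃ L : Loc G, L.t = t := by
  classical
  haveI : Fact (Nat.Prime 2) := ⟨Nat.prime_two⟩
  haveI := hCy
  have htt : t * t = 1 := by rw [← pow_two, ← ht]; exact pow_orderOf_eq_one t
  have tne : t ≠ 1 := fun h => by rw [h, orderOf_one] at ht; exact absurd ht (by norm_num)
  have memH : ∀ g, g ∈ H ↔ g * t = t * g := fun g => by
    rw [hH, mem_centralizer_singleton_iff]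
  have hRmem : ∀ g, g ∈ R ↔ ∃ h : H, h ∈ Cfsg.pCore 2 H ∧ (h : G) = g := fun g => by
    rw [hR, Subgroup.mem_map]; rfl
  have hRH : R ≤ H := fun g hg => by obtain ⟨h, -, rfl⟩ := (hRmem g).1 hg; exact h.2
  -- the centre
  obtain ⟨c0, hc0⟩ := IsCyclic.exists_generator (α := Cy)
  set c : G := (c0 : G) with hcdef
  have hCyc : ∀ g, g ∈ Cy ↔ g ∈ zpowers c := fun g => by
    refine ⟨fun hg => ?_, fun hg => ?_⟩
    · obtain ⟨k, hk⟩ := mem_zpowers_iff.1 (hc0 ⟨g, hg⟩)
      exact mem_zpowers_iff.2 ⟨k, (congrArg Subtype.val hk :)⟩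
    · exact (zpowers_le.2 c0.2) hg
  have hc4 : orderOf c = 4 := by
    rw [hcdef, Subgroup.orderOf_coe, ← hCycard]
    exact orderOf_eq_card_of_forall_mem_zpowers hc0
  have hcR : c ∈ R := (hCyle c0.2).1
  have hcc : ∀ r ∈ R, c * r = r * c := fun r hr => ((mem_centralizer_iff.1 (hCyle c0.2).2) r hr).symm
  have hform : ∀ g ∈ R, ∃ k : ℤ, ∃ e ∈ E, g = c ^ k * e := fun g hg => by
    rw [← hprod] at hg
    rw [Subgroup.sup_eq_closure] at hg
    induction hg using closure_induction with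
    | mem x hx =>
      rcases hx with hx | hx
      · obtain ⟨k, rfl⟩ := mem_zpowers_iff.1 ((hCyc x).1 hx); exact ⟨k, 1, one_mem _, by simp⟩
      · exact ⟨0, x, hx, by simp⟩
    | one => exact ⟨0, 1, one_mem _, by simp⟩
    | mul x y _ _ hx hy =>
      obtain ⟨k, e, he, rfl⟩ := hx
      obtain ⟨m, f, hf, rfl⟩ := hy
      refine ⟨k + m, e * f, mul_mem he hf, ?_⟩
      have h1 : Commute (c ^ m) e := (show Commute c e from hcc e (hEle he)).zpow_left m
      rw [zpow_add, ← mul_assoc, mul_assoc (c ^ k) e, ← h1.eq]; group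
    | inv x _ hx =>
      obtain ⟨k, e, he, rfl⟩ := hx
      refine ⟨-k, e⁻¹, inv_mem he, ?_⟩
      have h1 : Commute (c ^ k) e := (show Commute c e from hcc e (hEle he)).zpow_left k
      rw [h1.eq, mul_inv_rev, zpow_neg]
  have hcenE : E ⊓ Subgroup.centralizer (E : Set G) = (Subgroup.center E).map E.subtype := by
    ext g
    simp only [mem_inf, mem_map, Subgroup.mem_center_iff, mem_centralizer_iff, SetLike.mem_coe]
    constructor
    · rintro ⟨hg, hc⟩; exact ⟨⟨g, hg⟩, fun e => Subtype.ext (hc e e.2), rfl⟩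
    · rintro ⟨z, hz, rfl⟩; exact ⟨z.2, fun e he => congrArg Subtype.val (hz ⟨e, he⟩)⟩
  have hcardZ : Nat.card ↥(Cy ⊓ E) = 2 := by
    rw [hmeet, hcenE, Subgroup.card_map_of_injective E.subtype_injective, hEex.2]
  have htR : t ∈ R := by
    rw [hRmem]
    have htH : t ∈ H := (memH t).2 rfl
    refine ⟨⟨t, htH⟩, ?_, rfl⟩
    haveI : (zpowers (⟨t, htH⟩ : H)).Normal := ⟨fun n hn g => by
      obtain ⟨k, rfl⟩ := mem_zpowers_iff.1 hn
      have e : g * (⟨t, htH⟩ : H) * g⁻¹ = ⟨t, htH⟩ := Subtype.ext (by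
        show (g : G) * t * (g : G)⁻¹ = t
        rw [(memH g).1 g.2]; group)
      rw [← conj_zpow, e]
      exact mem_zpowers_iff.2 ⟨k, rfl⟩⟩
    refine Cfsg.Lib.Components.le_pCore ?_ (mem_zpowers _)
    refine IsPGroup.of_card (n := 1) ?_
    rw [Nat.card_zpowers, Subgroup.orderOf_mk, ht, pow_one]
  have hct : c * c = t := by
    obtain ⟨k, e, he, hte⟩ := hform t htR
    have hek : e ∈ Cy := by
      have : e ∈ E ⊓ Subgroup.centralizer (E : Set G) := ⟨he, mem_centralizer_iff.2 fun f hf => by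
        have h1 : Commute (c ^ k) f := (show Commute c f from hcc f (hEle hf)).zpow_left k
        have h2 : Commute t f := ((memH f).1 (hRH (hEle hf))).symm
        have e' : e = (c ^ k)⁻¹ * t := by rw [hte]; group
        rw [e']
        exact (Commute.mul_left h1.inv_left h2).symm.eq⟩
      rw [← hmeet] at this
      exact this.1
    have htC : t ∈ Cy := hte ▸ mul_mem ((hCyc _).2 (mem_zpowers_iff.2 ⟨k, rfl⟩)) hek
    obtain ⟨j, hj, hjt⟩ : ∃ j < 4, c ^ j = t := by
      have h := (hCyc t).1 htC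
      rw [mem_zpowers_iff_mem_range_orderOf, Finset.mem_image] at h
      obtain ⟨n, -, rfl⟩ := h
      exact ⟨n % 4, Nat.mod_lt _ (by norm_num), by rw [← hc4, pow_mod_orderOf]⟩
    have h4 : c ^ 4 = 1 := hc4 ▸ pow_orderOf_eq_one c
    interval_cases j
    · exact absurd hjt.symm (by rw [pow_zero]; exact tne)
    · exfalso
      have : orderOf c = 2 := by rw [← pow_one c, hjt, ht]
      omega
    · rw [← hjt, pow_two]
    · exfalso
      have e : orderOf (c ^ 3) = 4 := by rw [Nat.Coprime.orderOf_pow (by rw [hc4]; norm_num), hc4]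
      rw [hjt, ht] at e; omega
  have hZE : ∀ z, z ∈ Cy ⊓ E → z = 1 ∨ z = t := by
    intro z hz
    by_contra hcon
    push Not at hcon
    haveI : Fact (Nat.Prime 2) := ⟨Nat.prime_two⟩
    have hz2 : orderOf (⟨z, hz⟩ : ↥(Cy ⊓ E)) ∣ 2 := hcardZ ▸ orderOf_dvd_natCard _
    have hz2' : z * z = 1 := by
      have := congrArg Subtype.val (orderOf_dvd_iff_pow_eq_one.1 hz2)
      simpa [pow_two] using this
    obtain ⟨k, rfl⟩ := mem_zpowers_iff.1 ((hCyc z).1 hz.1)
    rw [← zpow_add, ← orderOf_dvd_iff_zpow_eq_one, hc4] at hz2'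
    push_cast at hz2'
    obtain ⟨m, hm⟩ : (2 : ℤ) ∣ k := by omega
    rcases Int.even_or_odd m with ⟨i, hi⟩ | ⟨i, hi⟩
    · refine hcon.1 ?_
      rw [← orderOf_dvd_iff_zpow_eq_one, hc4]
      exact ⟨i, by push_cast; omega⟩
    · refine hcon.2 ?_
      rw [← hct, ← pow_two, ← zpow_natCast, ← mul_inv_eq_one, ← zpow_neg, ← zpow_add, ← orderOf_dvd_iff_zpow_eq_one,
        hc4]
      exact ⟨i, by push_cast; omega⟩
  have hcomE : ∀ a ∈ E, ∀ b ∈ E, a * b * a⁻¹ * b⁻¹ = 1 ∨ a * b * a⁻¹ * b⁻¹ = t := fun a ha b hb => by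
    have h1 : (⁅(⟨a, ha⟩ : E), (⟨b, hb⟩ : E)⁆ : E) ∈ commutator E :=
      Subgroup.commutator_mem_commutator (mem_top _) (mem_top _)
    rw [hEex.1.2.2] at h1
    have h2 : (⁅(⟨a, ha⟩ : E), (⟨b, hb⟩ : E)⁆ : E).1 ∈ E ⊓ Subgroup.centralizer (E : Set G) := by
      rw [hcenE]; exact mem_map_of_mem _ h1
    rw [← hmeet] at h2
    exact hZE _ h2
  have htc : ∀ r ∈ R, t * r = r * t := fun r hr => ((memH r).1 (hRH hr)).symm
  have hcomm : ∀ a ∈ R, ∀ b ∈ R, a * b = b * a ∨ a * b = b * a * t := fun a ha b hb => by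
    obtain ⟨k, e, he, rfl⟩ := hform a ha
    obtain ⟨m, f, hf, rfl⟩ := hform b hb
    have h1 : Commute (c ^ k) f := (show Commute c f from hcc f (hEle hf)).zpow_left k
    have h2 : Commute (c ^ m) e := (show Commute c e from hcc e (hEle he)).zpow_left m
    have h3 : Commute (c ^ k) (c ^ m) := Commute.zpow_zpow_self c k m
    have hmix : c ^ k * e * (c ^ m * f) = c ^ k * c ^ m * (e * f) := by
      rw [mul_assoc (c ^ k) e, ← mul_assoc e, ← h2.eq]; group
    have hmix' : c ^ m * f * (c ^ k * e) = c ^ k * c ^ m * (f * e) := by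
      rw [mul_assoc (c ^ m) f, ← mul_assoc f, ← h1.eq, h3.eq]; group
    rw [hmix, hmix', mul_assoc (c ^ k * c ^ m) (f * e), mul_right_inj, mul_right_inj]
    rcases hcomE e he f hf with q | q
    · left; calc e * f = e * f * e⁻¹ * f⁻¹ * (f * e) := by group
        _ = f * e := by rw [q, one_mul]
    · right; calc e * f = e * f * e⁻¹ * f⁻¹ * (f * e) := by group
        _ = f * e * t := by rw [q, htc (f * e) (mul_mem (hEle hf) (hEle he))]
  have hsqE : ∀ e ∈ E, e * e = 1 ∨ e * e = t := fun e he => by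
    refine hZE _ ?_
    rw [hmeet]
    refine ⟨mul_mem he he, mem_centralizer_iff.2 fun f hf => ?_⟩
    rcases hcomm e (hEle he) f (hEle hf) with q | q
    · calc f * (e * e) = (f * e) * e := by group
        _ = e * f * e := by rw [q]
        _ = e * (f * e) := mul_assoc _ _ _
        _ = e * (e * f) := by rw [q]
        _ = e * e * f := (mul_assoc _ _ _).symm
    · calc f * (e * e) = (f * e) * e := by group
        _ = f * e * t * (t * e) := by
          rw [mul_assoc (f * e) t, ← mul_assoc t t, htt, one_mul]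
        _ = e * f * (e * t) := by rw [← q, ← htc e (hEle he)]
        _ = e * (f * e * t) := by group
        _ = e * e * f := by rw [← q, mul_assoc]
  have hsq : ∀ a ∈ R, a * a = 1 ∨ a * a = t := fun a ha => by
    obtain ⟨k, e, he, rfl⟩ := hform a ha
    have h1 : Commute (c ^ k) e := (show Commute c e from hcc e (hEle he)).zpow_left k
    have hk : c ^ k * c ^ k = 1 ∨ c ^ k * c ^ k = t := by
      rw [← zpow_add, ← two_mul, zpow_mul, show c ^ (2 : ℤ) = t by rw [zpow_two, hct]]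
      rcases Int.even_or_odd k with ⟨i, rfl⟩ | ⟨i, rfl⟩
      · left; rw [← two_mul, zpow_mul, zpow_two, htt, one_zpow]
      · right; rw [zpow_add_one, zpow_mul, zpow_two, htt, one_zpow, one_mul]
    have e2 : c ^ k * e * (c ^ k * e) = c ^ k * c ^ k * (e * e) := by
      rw [mul_assoc (c ^ k) e, ← mul_assoc e, ← h1.eq]; group
    rw [e2]
    rcases hk with q | q <;> rcases hsqE e he with q' | q' <;> rw [q, q'] <;> simp [htt]
  have hcent : ∀ z ∈ R, (∀ r ∈ R, z * r = r * z) → z ∈ zpowers c := fun z hz hzc => by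
    obtain ⟨k, e, he, rfl⟩ := hform z hz
    refine mul_mem (zpow_mem (mem_zpowers c) k) ((hCyc e).1 ?_)
    have : e ∈ E ⊓ Subgroup.centralizer (E : Set G) := ⟨he, mem_centralizer_iff.2 fun f hf => by
      have h1 : Commute (c ^ k) f := (show Commute c f from hcc f (hEle hf)).zpow_left k
      have h2 : Commute (c ^ k * e) f := hzc f (hEle hf)
      have e' : e = (c ^ k)⁻¹ * (c ^ k * e) := by group
      rw [e']
      exact (Commute.mul_left h1.inv_left h2).symm.eq⟩
    rw [← hmeet] at this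
    exact this.1
  -- orders
  have hcardR : Nat.card R = 64 := by
    let f : Cy × E →* G := MonoidHom.noncommCoprod Cy.subtype E.subtype fun a b =>
      (mem_centralizer_iff.1 (hCyle a.2).2 _ (hEle b.2)).symm
    have hr : f.range = R := by
      rw [show f.range = Cy.subtype.range ⊔ E.subtype.range from MonoidHom.noncommCoprod_range _ _ _,
        Subgroup.range_subtype, Subgroup.range_subtype, hprod]
    have hk : Nat.card f.ker = 2 := by
      rw [← hcardZ]
      refine Nat.card_congr ⟨fun p => ⟨p.1.1.1, p.1.1.2, ?_⟩, fun z => ⟨(⟨z.1, z.2.1⟩, ⟨z.1⁻¹, E.inv_mem z.2.2⟩), ?_⟩, ?_, ?_⟩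
      · have h : (p.1.1 : G) * p.1.2 = 1 := p.2
        rw [eq_inv_of_mul_eq_one_left h]
        exact E.inv_mem p.1.2.2
      · show z.1 * z.1⁻¹ = 1
        exact mul_inv_cancel _
      · intro p
        have h : (p.1.1 : G) * p.1.2 = 1 := p.2
        refine Subtype.ext (Prod.ext rfl (Subtype.ext ?_))
        exact (eq_inv_of_mul_eq_one_right h).symm
      · intro z; rfl
    have h := f.ker.card_mul_index
    rw [Subgroup.index_ker, hr, hk, Nat.card_prod, hCycard, hEcard] at h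
    omega
  have hpH : Nat.card (Cfsg.pCore 2 H) = 64 := by
    rw [← hcardR, hR, Subgroup.card_map_of_injective H.subtype_injective]
  have hcardH : Nat.card H = 7680 := by
    rw [Subgroup.card_eq_card_quotient_mul_card_subgroup (Cfsg.pCore 2 H), hpH, Nat.card_congr eH.toEquiv,
      Nat.card_perm, Nat.card_fin]
    rfl
  have hRnorm : ∀ h ∈ H, ∀ r ∈ R, h * r * h⁻¹ ∈ R := fun h hh r hr => by
    obtain ⟨r', hr', rfl⟩ := (hRmem r).1 hr
    exact (hRmem _).2 ⟨⟨h, hh⟩ * r' * ⟨h, hh⟩⁻¹, (inferInstance : (Cfsg.pCore 2 H).Normal).conj_mem _ hr' _, rfl⟩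
  let φ : H →* Equiv.Perm (Fin 5) := eH.toMonoidHom.comp (QuotientGroup.mk' _)
  have hφs : Function.Surjective φ := eH.surjective.comp (QuotientGroup.mk'_surjective _)
  have hφk : ∀ h : H, φ h = 1 ↔ (h : G) ∈ R := fun h => by
    show eH (QuotientGroup.mk h) = 1 ↔ _
    rw [MulEquiv.map_eq_one_iff, QuotientGroup.eq_one_iff]
    refine ⟨fun hh => (hRmem _).2 ⟨h, hh, rfl⟩, fun hh => ?_⟩
    obtain ⟨h', hh', e⟩ := (hRmem _).1 hh
    rwa [Subtype.ext e] at hh'
  -- the elementary subgroup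
  have hV2 : ∀ v ∈ V, v * v = 1 := fun v hv => by rw [← pow_two]; exact hVexp v hv
  have hVab : ∀ a ∈ V, ∀ b ∈ V, a * b = b * a := fun a ha b hb =>
    congrArg Subtype.val (hVcomm.is_comm.comm (⟨a, ha⟩ : V) ⟨b, hb⟩)
  have hc4' : c ^ 4 = 1 := hc4 ▸ pow_orderOf_eq_one c
  have htV : t ∈ V := by
    by_contra htV
    have hcom : ∀ (a : Cy) (b : V), Commute (a : G) (b : G) := fun a b =>
      ((mem_centralizer_iff.1 (hCyle a.2).2) _ (hVR b.2)).symm
    let f : Cy × V →* G := MonoidHom.noncommCoprod Cy.subtype V.subtype hcom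
    have hinj : Function.Injective f := by
      rw [injective_iff_map_eq_one]
      rintro ⟨⟨a, ha⟩, ⟨v, hv⟩⟩ he
      have he' : a * v = 1 := he
      have hav : a = v := by
        rw [eq_inv_of_mul_eq_one_left he', inv_eq_of_mul_eq_one_right (hV2 v hv)]
      subst hav
      obtain ⟨k, hk⟩ := mem_zpowers_iff.1 ((hCyc a).1 ha)
      have h2 : c ^ (k + k) = 1 := by rw [zpow_add, hk, hV2 a hv]
      rw [← orderOf_dvd_iff_zpow_eq_one, hc4] at h2
      push_cast at h2
      obtain ⟨m, rfl⟩ : (2 : ℤ) ∣ k := by omega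
      have hka : a = t ^ m := by rw [← hk, zpow_mul, zpow_two, hct]
      rcases Int.even_or_odd m with ⟨i, rfl⟩ | ⟨i, rfl⟩
      · have : a = 1 := by rw [hka, ← two_mul, zpow_mul, zpow_two, htt, one_zpow]
        subst this; rfl
      · exfalso; apply htV
        rw [zpow_add_one, zpow_mul, zpow_two, htt, one_zpow, one_mul] at hka
        exact hka ▸ hv
    have h := abelian_bound hcardR hc4' hcomm htt hcent htc f.range
      (by
        rintro _ ⟨⟨a, v⟩, rfl⟩
        exact mul_mem (hCyle a.2).1 (hVR v.2))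
      (by
        rintro _ ⟨p, rfl⟩ _ ⟨q, rfl⟩
        rw [← map_mul, ← map_mul]
        congr 1
        exact Prod.ext (Subtype.ext (congrArg Subtype.val ((IsCyclic.commGroup (α := Cy)).mul_comm p.1 q.1)))
          (Subtype.ext (hVab _ p.2.2 _ q.2.2)))
    rw [← Nat.card_congr (MonoidHom.ofInjective hinj).toEquiv, Nat.card_prod, hCycard, hVcard] at h
    omega
  have memM : ∀ g, g ∈ M ↔ ∀ v ∈ V, g * v * g⁻¹ ∈ V := fun g => by
    rw [hM]
    refine ⟨fun hg v hv => (mem_normalizer_iff.1 hg v).1 hv, fun hg => ?_⟩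
    have heq : V.map (MulAut.conj g).toMonoidHom = V := eq_of_le_of_card_ge
      (by rintro _ ⟨v, hv, rfl⟩; exact hg v hv)
      (Subgroup.card_map_of_injective (MulAut.conj g).injective).ge
    refine mem_normalizer_iff.2 fun x => ⟨hg x, fun hx => ?_⟩
    obtain ⟨v, hv, hve⟩ := (heq.symm ▸ hx : g * x * g⁻¹ ∈ V.map (MulAut.conj g).toMonoidHom)
    have hve' : g * v * g⁻¹ = g * x * g⁻¹ := hve
    exact mul_left_cancel (mul_right_cancel hve') ▸ hv
  set A := (Cfsg.pCore 2 M).map M.subtype with hAdef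
  have hAM : A ≤ M := map_subtype_le _
  have hAnorm : ∀ g ∈ M, ∀ a ∈ A, g * a * g⁻¹ ∈ A := fun g hg a ha => by
    obtain ⟨a', ha', rfl⟩ := mem_map.1 ha
    exact mem_map.2 ⟨⟨g, hg⟩ * a' * ⟨g, hg⟩⁻¹, (inferInstance : (Cfsg.pCore 2 M).Normal).conj_mem _ ha' _, rfl⟩
  let eA : A ≃* Multiplicative (ZMod 4 × ZMod 4 × ZMod 4) :=
    ((Cfsg.pCore 2 M).equivMapOfInjective _ M.subtype_injective).symm.trans eOM
  have hcardA : Nat.card A = 64 := by
    rw [Nat.card_congr eA.toEquiv, Nat.card_eq_fintype_card]; rfl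
  have hAcomm : ∀ a ∈ A, ∀ b ∈ A, a * b = b * a := fun a ha b hb => by
    have := eA.injective (show eA (⟨a, ha⟩ * ⟨b, hb⟩) = eA (⟨b, hb⟩ * ⟨a, ha⟩) by rw [map_mul, map_mul, mul_comm])
    exact congrArg Subtype.val this
  have exp4 : ∀ z : Multiplicative (ZMod 4 × ZMod 4 × ZMod 4), z ^ 4 = 1 := by decide +kernel
  have hAexp : ∀ a ∈ A, a ^ 4 = 1 := fun a ha => by
    have := eA.injective (show eA ((⟨a, ha⟩ : A) ^ 4) = eA 1 by rw [map_pow, exp4, map_one])
    simpa using congrArg Subtype.val this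
  have hVM : V ≤ M := fun v hv => (memM v).2 fun w hw => by rw [hVab v hv w hw]; simpa using hw
  have hVA : V ≤ A := by
    intro v hv
    haveI : (V.subgroupOf M).Normal := ⟨fun n hn g => by
      rw [mem_subgroupOf] at hn ⊢
      exact (memM g).1 g.2 _ hn⟩
    have hle : V.subgroupOf M ≤ Cfsg.pCore 2 M := Cfsg.Lib.Components.le_pCore (IsPGroup.of_card (n := 3) (by
      rw [Nat.card_congr (Subgroup.subgroupOfEquivOfLe hVM).toEquiv, hVcard]; rfl))
    exact mem_map.2 ⟨⟨v, hVM hv⟩, hle (mem_subgroupOf.2 hv), rfl⟩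
  have hAsq : ∀ a ∈ A, a * a = 1 → a ∈ V := fun a ha h1 => by
    let f : V → {z : Multiplicative (ZMod 4 × ZMod 4 × ZMod 4) // z * z = 1} := fun v =>
      ⟨eA ⟨v, hVA v.2⟩, by rw [← map_mul, ← map_one eA]; exact congrArg eA (Subtype.ext (hV2 v v.2))⟩
    have hf : Function.Bijective f := (Nat.bijective_iff_injective_and_card f).2 ⟨fun v w e =>
      Subtype.ext (congrArg Subtype.val (eA.injective (congrArg Subtype.val e)) :), by rw [omega_model, hVcard]⟩
    obtain ⟨v, hv⟩ := hf.2 ⟨eA ⟨a, ha⟩, by rw [← map_mul, ← map_one eA]; exact congrArg eA (Subtype.ext h1)⟩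
    have := congrArg Subtype.val (eA.injective (congrArg Subtype.val hv))
    simp only at this
    rw [← this]; exact v.2
  haveI : IsSimpleGroup (GL (Fin 3) (ZMod 2)) := by
    obtain ⟨e⟩ := Cfsg.Lib.SolvStruct.AltEight.gl_equiv_psl 3
    haveI := Cfsg.Lib.Classical.isSimpleGroup_PSL_fin (F := ZMod 2) (n := 3) (by norm_num) (by omega)
    exact e.isSimpleGroup
  have hcardGL : Nat.card (GL (Fin 3) (ZMod 2)) = 168 := by
    rw [Matrix.card_GL_field, ZMod.card, Fin.prod_univ_three]; norm_num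
  let π : M →* GL (Fin 3) (ZMod 2) := eM.toMonoidHom.comp (QuotientGroup.mk' _)
  have hπs : Function.Surjective π := eM.surjective.comp (QuotientGroup.mk'_surjective _)
  have hπk : ∀ g : M, π g = 1 ↔ (g : G) ∈ A := fun g => by
    show eM (QuotientGroup.mk g) = 1 ↔ _
    rw [MulEquiv.map_eq_one_iff, QuotientGroup.eq_one_iff]
    refine ⟨fun hh => mem_map.2 ⟨g, hh, rfl⟩, fun hh => ?_⟩
    obtain ⟨g', hg', e⟩ := mem_map.1 hh
    rwa [Subtype.ext e] at hg'
  have hcardM : Nat.card M = 10752 := by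
    rw [Subgroup.card_eq_card_quotient_mul_card_subgroup (Cfsg.pCore 2 M), Nat.card_congr eM.toEquiv, hcardGL,
      ← Subgroup.card_map_of_injective M.subtype_injective, ← hAdef, hcardA]
  have memA : ∀ g, g ∈ A ↔ ∀ v ∈ V, g * v = v * g := fun g => by
    refine ⟨fun hg v hv => hAcomm g hg v (hVA hv), fun hg => ?_⟩
    have hgM : g ∈ M := (memM g).2 fun v hv => by rw [hg v hv]; simpa using hv
    let K : Subgroup M :=
      { carrier := {k | ∀ v ∈ V, (k : G) * v = v * k}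
        one_mem' := fun v _ => by simp
        mul_mem' := fun {a b} ha hb v hv => by
          show (a : G) * b * v = v * ((a : G) * b)
          rw [mul_assoc, hb v hv, ← mul_assoc, ha v hv, mul_assoc]
        inv_mem' := fun {a} ha v hv => by
          show (a : G)⁻¹ * v = v * (a : G)⁻¹
          calc (a : G)⁻¹ * v = (a : G)⁻¹ * (v * a) * (a : G)⁻¹ := by group
            _ = v * (a : G)⁻¹ := by rw [← ha v hv]; group }
    haveI : K.Normal := ⟨fun k hk q v hv => by
      have h1 : (q : G)⁻¹ * v * ((q : G)⁻¹)⁻¹ ∈ V := (memM _).1 (inv_mem q.2) v hv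
      rw [inv_inv] at h1
      show (q : G) * k * (q : G)⁻¹ * v = v * ((q : G) * k * (q : G)⁻¹)
      calc (q : G) * k * (q : G)⁻¹ * v = (q : G) * (k * ((q : G)⁻¹ * v * q)) * (q : G)⁻¹ := by group
        _ = _ := by rw [hk _ h1]; group⟩
    haveI : (K.map π).Normal := Subgroup.Normal.map inferInstance _ hπs
    rcases (inferInstance : (K.map π).Normal).eq_bot_or_eq_top with hb | htp
    · have h1 : π ⟨g, hgM⟩ ∈ K.map π := mem_map_of_mem π (show (⟨g, hgM⟩ : M) ∈ K from hg)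
      rw [hb, mem_bot] at h1
      exact (hπk _).1 h1
    · exfalso
      have hMH : M ≤ H := fun q hq => by
        obtain ⟨k, hk, hke⟩ := mem_map.1 (htp ▸ mem_top (π ⟨q, hq⟩) : π ⟨q, hq⟩ ∈ K.map π)
        have hd : ((k⁻¹ * ⟨q, hq⟩ : M) : G) ∈ A :=
          (hπk _).1 (by rw [map_mul, map_inv, hke, inv_mul_cancel])
        rw [memH]
        have h2 : Commute ((k : M) : G) t := hk t htV
        have h3 : Commute ((k⁻¹ * ⟨q, hq⟩ : M) : G) t := hAcomm _ hd t (hVA htV)
        have e : q = (k : G) * ((k⁻¹ * ⟨q, hq⟩ : M) : G) := by simp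
        rw [e]
        exact (h2.mul_left h3).eq
      have := Subgroup.card_dvd_of_le hMH
      rw [hcardM, hcardH] at this
      norm_num at this
  have hperf : ∀ f : M →* (ZMod 4)ˣ, (∀ a : M, (a : G) ∈ A → f a = 1) → f = 1 := fun f hf => by
    have hker : π.ker ≤ f.ker := fun a ha => hf a ((hπk a).1 ha)
    let f' : GL (Fin 3) (ZMod 2) →* (ZMod 4)ˣ := π.liftOfSurjective hπs ⟨f, hker⟩
    have hf' : ∀ a, f' (π a) = f a := fun a => by simp [f']
    rcases (inferInstance : f'.ker.Normal).eq_bot_or_eq_top with hb | htp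
    · exfalso
      have := Nat.card_le_card_of_injective _ ((MonoidHom.ker_eq_bot_iff _).1 hb)
      rw [hcardGL, Nat.card_eq_fintype_card, ZMod.card_units_eq_totient] at this
      exact absurd this (by decide)
    · refine MonoidHom.ext fun a => ?_
      rw [← hf', MonoidHom.one_apply]
      exact MonoidHom.mem_ker.1 (htp ▸ mem_top (π a))
  exact ⟨⟨t, c, H, R, V, M, A, tne, htt, hct, memH, hcardH, hRH, hRnorm, hcardR, hcomm, hsq, hcent, hcR, hcc, φ,
    hφs, hφk, hVcard, hV2, hVR, htV, memM, hAM, hAnorm, hcardA, hAcomm, hAexp, hAsq, hVA, memA, hcardM, hperf⟩, rfl⟩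

end Cfsg.Lib.HSLocal
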