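import Cfsg.Agent.HSLocal.Tables

/-!
The relators of the two local subgroups imply the amalgamating relator.
-/

set_option autoImplicit false
set_option maxRecDepth 40000

namespace Cfsg.Lib.HSLocal

open Subgroup
open Cfsg.Lib.M12Cent (Log)

theorem step_facts : eqW [9, 6, 6, 10] [0, 4, 4, 1] = true ∧ eqW [8, 0, 4, 4, 1, 8] [0, 3, 1] = true ∧
    eqW [10, 0, 3, 1, 9] qW = true ∧ eqW (eW ++ qW) (qW ++ eW) = true ∧ eqW ([6, 6] ++ [6, 6]) [] = true ∧
    winv gW = gW := by decide +kernel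

theorem step_low : ([9, 6, 6, 10] ++ [0, 4, 4, 1] ++ [10, 0, 3, 1, 9] ++ gW ++ qW).all
      (fun l => Nat.blt l 11) = true ∧
    ([8, 0, 4, 4, 1, 8] ++ [0, 3, 1] ++ eW ++ qW ++ [6, 6]).all (fun l => Nat.blt l 9) = true ∧
    ([9, 6, 6, 10] ++ [0, 4, 4, 1] ++ [10, 0, 3, 1, 9] ++ qW).all (fun l => !(l == 8)) = true := by decide +kernel

theorem cand_facts : (List.finRange 8).all (fun j => ((candW j).all fun l => Nat.blt l 9) &&
      relsL.all (fun r => (relsL ++ [cyc j]).contains r)) = true ∧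
    fits CertC1.log (relsL ++ [cyc 1]) = true ∧ fits CertC2.log (relsL ++ [cyc 2]) = true ∧
    fits CertC3.log (relsL ++ [cyc 3]) = true ∧ fits CertC4.log (relsL ++ [cyc 4]) = true ∧
    fits CertC5.log (relsL ++ [cyc 5]) = true ∧ fits CertC6.log (relsL ++ [cyc 6]) = true ∧
    fits CertC7.log (relsL ++ [cyc 7]) = true ∧
    relsL.all (fun r => relsG.contains r) = true ∧
    relsH.all (fun r => relsL.contains r) = true ∧
    (relsB ++ relsU (alW 0)).all (fun r => relsL.contains r) = true := by decide +kernel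

theorem subs_C : (CertC1.log.subs.all (fun l => Nat.blt l 9) = true ∧ Nat.blt 9 CertC1.log.ng = true) ∧
    (CertC2.log.subs.all (fun l => Nat.blt l 9) = true ∧ Nat.blt 9 CertC2.log.ng = true) ∧
    (CertC3.log.subs.all (fun l => Nat.blt l 9) = true ∧ Nat.blt 9 CertC3.log.ng = true) ∧
    (CertC4.log.subs.all (fun l => Nat.blt l 9) = true ∧ Nat.blt 9 CertC4.log.ng = true) ∧
    (CertC5.log.subs.all (fun l => Nat.blt l 9) = true ∧ Nat.blt 9 CertC5.log.ng = true) ∧
    (CertC6.log.subs.all (fun l => Nat.blt l 9) = true ∧ Nat.blt 9 CertC6.log.ng = true) ∧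
    (CertC7.log.subs.all (fun l => Nat.blt l 9) = true ∧ Nat.blt 9 CertC7.log.ng = true) := by decide +kernel

variable {X : Type*} [Group X] {im : ℕ → X}

/-- An equation of words of the centralizer holds. -/
theorem h_eq (h : Sat im relsH) {v w : List ℕ} (hv : ∀ l ∈ v, l < 9) (hw : ∀ l ∈ w, l < 9)
    (he : wvx imG v = wvx imG w) : wvx im v = wvx im w := by
  have hv' : ∀ l ∈ v, l < 11 := fun l hl => (hv l hl).trans (by norm_num)
  have hw' : ∀ l ∈ w, l < 11 := fun l hl => (hw l hl).trans (by norm_num)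
  have hlt : ∀ l ∈ v ++ winv w, l < 9 := fun l hl => by
    rcases List.mem_append.1 hl with hl | hl
    · exact hv l hl
    · obtain ⟨a, ha, rfl⟩ := List.mem_map.1 hl
      have ha9 := hw a (List.mem_reverse.1 ha)
      exact (iv_nine ⟨a, by omega⟩).1.1 ha9
  have e := h_identity h hlt (by rw [wvx_append, sat_hG.winv_val w hw', he, mul_inv_cancel])
  rw [wvx_append, h.winv_val w hw'] at e
  exact mul_inv_eq_one.1 e

/-- An equation of words of the normalizer holds. -/
theorem m_eq (h : Sat im (relsB ++ relsU (alW 0))) {v w : List ℕ} (hv : ∀ l ∈ v, l < 11 ∧ l ≠ 8)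
    (hw : ∀ l ∈ w, l < 11 ∧ l ≠ 8) (he : wvx imG v = wvx imG w) : wvx im v = wvx im w := by
  have hw' : ∀ l ∈ w, l < 11 := fun l hl => (hw l hl).1
  have hlt : ∀ l ∈ v ++ winv w, l < 11 ∧ l ≠ 8 := fun l hl => by
    rcases List.mem_append.1 hl with hl | hl
    · exact hv l hl
    · obtain ⟨a, ha, rfl⟩ := List.mem_map.1 hl
      obtain ⟨ha11, ha8⟩ := hw a (List.mem_reverse.1 ha)
      refine ⟨ivL_lt ⟨a, ha11⟩, fun e => ha8 ((iv_nine ⟨a, ha11⟩).2.2 e)⟩
  have hG : Sat imG (relsB ++ relsU (alW 0)) := sat_imG.mono parts.2.1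
  have e := m_identity h hlt (by rw [wvx_append, hG.winv_val w hw', he, mul_inv_cancel])
  rw [wvx_append, h.winv_val w hw'] at e
  exact mul_inv_eq_one.1 e

/-- The amalgamating relator follows. -/
theorem exists_global (h : Sat im relsL) {H : Subgroup X} (hgen : closure (im '' Set.Iio 9) = H)
    (hcent : ∀ g, g ∈ H ↔ g * wvx im [6, 6] = wvx im [6, 6] * g) (hcard : Nat.card H = 7680) (hu : im 9 ∉ H) :
    Sat im relsG := by
  classical
  obtain ⟨hc, f1, f2, f3, f4, f5, f6, f7, -, hH, hM⟩ := cand_facts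
  have hsH : Sat im relsH := h.mono hH
  have hsM : Sat im (relsB ++ relsU (alW 0)) := h.mono hM
  obtain ⟨k1, k2, k3, k4, k5, k6⟩ := step_facts
  obtain ⟨l1, l2, l3⟩ := step_low
  simp only [List.all_append, Bool.and_eq_true] at l1 l2 l3
  obtain ⟨⟨⟨⟨a1, a2⟩, a3⟩, a4⟩, a5⟩ := l1
  obtain ⟨⟨⟨⟨b1, b2⟩, b3⟩, b4⟩, b5⟩ := l2
  obtain ⟨⟨⟨c1, c2⟩, c3⟩, c4⟩ := l3
  have m8 : ∀ {w : List ℕ}, (w.all fun l => Nat.blt l 11) = true → (w.all fun l => !(l == 8)) = true →
      ∀ l ∈ w, l < 11 ∧ l ≠ 8 := fun h1 h2 l hl => ⟨all_lt h1 l hl, by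
    have := List.all_eq_true.1 h2 l hl
    simpa using this⟩
  have e1 : wvx im [9, 6, 6, 10] = wvx im [0, 4, 4, 1] := m_eq hsM (m8 a1 c1) (m8 a2 c2) (eqW_sound k1)
  have e2 : wvx im [8, 0, 4, 4, 1, 8] = wvx im [0, 3, 1] := h_eq hsH (all_lt b1) (all_lt b2) (eqW_sound k2)
  have e3 : wvx im [10, 0, 3, 1, 9] = wvx im qW := m_eq hsM (m8 a3 c3) (m8 a5 c4) (eqW_sound k3)
  have e4 : wvx im (eW ++ qW) = wvx im (qW ++ eW) :=
    h_eq hsH (fun l hl => by rcases List.mem_append.1 hl with q | q; exacts [all_lt b3 l q, all_lt b4 l q])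
      (fun l hl => by rcases List.mem_append.1 hl with q | q; exacts [all_lt b4 l q, all_lt b3 l q]) (eqW_sound k4)
  set t := wvx im [6, 6] with ht
  set q := wvx im qW with hq
  set g := wvx im gW with hg
  set e := wvx im eW with he
  have hgi : g⁻¹ = g := by
    rw [hg, ← h.winv_val gW (all_lt a4), k6]
  have hs : im 8 = (im 8)⁻¹ := h.iv 8 (by norm_num)
  have h10 : im 10 = (im 9)⁻¹ := h.iv 9 (by norm_num)
  have hconj : g * t * g⁻¹ = q := by
    rw [← e3]
    have e2' : im 8 * wvx im [0, 4, 4, 1] * im 8 = wvx im [0, 3, 1] := by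
      rw [← e2]; simp [wvx, mul_assoc]
    calc g * t * g⁻¹ = im 10 * (im 8 * (im 9 * t * (im 9)⁻¹) * (im 8)⁻¹) * (im 10)⁻¹ := by
          rw [hg]; simp [wvx, gW, mul_assoc]
      _ = im 10 * (im 8 * wvx im [9, 6, 6, 10] * im 8) * im 9 := by
          rw [← hs, h10, inv_inv, ht]; simp [wvx, h10, mul_assoc]
      _ = _ := by
          rw [e1, e2']; simp [wvx, mul_assoc]
  have hmemH : ∀ {w : List ℕ}, (∀ l ∈ w, l < 9) → wvx im w ∈ H := fun {w} hw => by
    rw [← hgen]
    exact (closure (im '' Set.Iio 9)).list_prod_mem fun x hx => by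
      obtain ⟨l, hl, rfl⟩ := List.mem_map.1 hx
      exact subset_closure ⟨l, hw l hl, rfl⟩
  have heH : e ∈ H := hmemH (all_lt b3)
  have het : e * t = t * e := (hcent e).1 heH
  have heq : e * q = q * e := by rw [he, hq, ← wvx_append, e4, wvx_append]
  have hcq : ∀ {z : X}, Commute z q → Commute (g⁻¹ * z * g) t := fun {z} hz => by
    show g⁻¹ * z * g * t = t * (g⁻¹ * z * g)
    calc g⁻¹ * z * g * t = g⁻¹ * (z * (g * t * g⁻¹)) * g := by group
      _ = g⁻¹ * ((g * t * g⁻¹) * z) * g := by rw [hconj, hz.eq]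
      _ = t * (g⁻¹ * z * g) := by group
  set e' := g⁻¹ * e * g with he'
  have he'H : e' ∈ H := (hcent _).2 (hcq heq).eq
  obtain ⟨i, hi, hiw⟩ := form_H hsH (show e' ∈ closure (im '' Set.Iio 9) by rw [hgen]; exact he'H)
  have hcard' : Nat.card (closure (im '' Set.Iio 9)) = 7680 := by rw [hgen, hcard]
  have hconv : ∀ {v w : List ℕ}, (∀ l ∈ v, l < 9) → (∀ l ∈ w, l < 9) → wvx im v = wvx im w →
      wvx imG v = wvx imG w := by
    intro v w hv hw hvw
    have hw' : ∀ l ∈ w, l < 11 := fun l hl => (hw l hl).trans (by norm_num)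
    have hlt : ∀ l ∈ v ++ winv w, l < 9 := fun l hl => by
      rcases List.mem_append.1 hl with hl | hl
      · exact hv l hl
      · obtain ⟨a, ha, rfl⟩ := List.mem_map.1 hl
        have ha9 := hw a (List.mem_reverse.1 ha)
        exact (iv_nine ⟨a, by omega⟩).1.1 ha9
    have e := h_converse hsH hcard' hlt (by rw [wvx_append, hsH.winv_val w hw', hvw, mul_inv_cancel])
    rw [wvx_append, sat_hG.winv_val w hw'] at e
    exact mul_inv_eq_one.1 e
  have hwi := hW_lt i
  have hwq : ∀ l ∈ qW, l < 9 := all_lt b4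
  have hwe : ∀ l ∈ eW, l < 9 := all_lt b3
  have happ : ∀ {v w : List ℕ}, (∀ l ∈ v, l < 9) → (∀ l ∈ w, l < 9) → ∀ l ∈ v ++ w, l < 9 := fun hv hw l hl => by
    rcases List.mem_append.1 hl with q | q; exacts [hv l q, hw l q]
  have e'q : e' * q = q * e' := by
    have hgg : g * g = 1 := by
      nth_rw 1 [← hgi]
      exact inv_mul_cancel g
    rw [he', ← hconj, hgi]
    calc g * e * g * (g * t * g) = g * (e * (g * g) * t) * g := by group
      _ = g * (t * (g * g) * e) * g := by rw [hgg, mul_one, mul_one, het]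
      _ = _ := by group
  have hcyc : ∃ j : Fin 8, wvx im (hW i) = wvx im (candW j) := by
    have hcom : Commute (hP i) (wvx imG qW) := by
      show wvx imG (hW i) * wvx imG qW = wvx imG qW * wvx imG (hW i)
      rw [← wvx_append, ← wvx_append]
      exact hconv (happ hwi hwq) (happ hwq hwi) (by rw [wvx_append, wvx_append, ← hiw]; exact e'q)
    have he3G : wvx imG (eW ++ eW ++ eW) = wvx imG [] := eqW_sound cycle_facts.2.2.2.1
    have he3 : e * e * e = 1 := by
      have := h_eq hsH (happ (happ hwe hwe) hwe) (by simp) he3G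
      rw [wvx_append, wvx_append, wvx_nil] at this
      exact this
    have h3 : hP i ^ 3 = 1 := by
      have := hconv (v := hW i ++ hW i ++ hW i) (w := []) (happ (happ hwi hwi) hwi) (by simp) (by
        rw [wvx_append, wvx_append, ← hiw, wvx_nil, he']
        calc g⁻¹ * e * g * (g⁻¹ * e * g) * (g⁻¹ * e * g) = g⁻¹ * (e * e * e) * g := by group
          _ = 1 := by rw [he3]; group)
      rw [wvx_append, wvx_append, wvx_nil] at this
      rw [pow_succ, pow_two]
      exact this
    have h1 : hP i ≠ 1 := fun h1 => by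
      have := h_eq hsH hwi (w := []) (by simp) h1
      rw [← hiw, wvx_nil, he'] at this
      have he1 : e = 1 := by
        calc e = g * (g⁻¹ * e * g) * g⁻¹ := by group
          _ = 1 := by rw [this]; group
      have hG := hconv (w := []) hwe (by simp) (by rw [← he, he1, wvx_nil])
      exact eqW_false (fun l hl => (hwe l hl).trans (by norm_num)) (by simp) cycle_facts.2.2.2.2.1 hG
    have hok := List.all_eq_true.1 three_all i (List.mem_range.2 hi)
    rw [threeOK, (commT_iff hi (fun l hl => (hwq l hl).trans (by norm_num)) qT_eq).2 hcom, (expT_iff hi).2 h3,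
      Bool.eq_false_iff.2 (fun h => h1 ((oneT_iff hi).1 h))] at hok
    simp only [Bool.not_true, Bool.false_or, List.any_eq_true] at hok
    obtain ⟨j, -, hj⟩ := hok
    have hlj := List.all_eq_true.1 hc j (List.mem_finRange j)
    simp only [Bool.and_eq_true] at hlj
    exact ⟨j, h_eq hsH hwi (all_lt hlj.1) (eqW_sound hj)⟩
  obtain ⟨j, hj⟩ := hcyc
  have hlj := List.all_eq_true.1 hc j (List.mem_finRange j)
  simp only [Bool.and_eq_true] at hlj
  have hsat : Sat im (relsL ++ [cyc j]) := by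
    refine ⟨h.iv, fun r hr => ?_⟩
    rcases List.mem_append.1 hr with hr | hr
    · exact h.rel r hr
    · simp only [List.mem_cons, List.not_mem_nil, or_false] at hr
      subst hr
      rw [cyc, wvx_append, wvx_append, wvx_append, h.winv_val gW (all_lt a4),
        h.winv_val (candW j) (fun l hl => (all_lt hlj.1 l hl).trans (by norm_num)), ← hj, ← hiw]
      rw [← hg, ← he, ← he']
      exact mul_inv_cancel e'
  obtain ⟨⟨s1, n1⟩, ⟨s2, n2⟩, ⟨s3, n3⟩, ⟨s4, n4⟩, ⟨s5, n5⟩, ⟨s6, n6⟩, s7, n7⟩ := subs_C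
  have kill : ∀ {C : Log}, fits C (relsL ++ [cyc j]) = true → C.lettersOK = true → C.factsOK 0 C.m = true →
      ∀ {p : List ℕ}, C.follow C.m p 0 = some (0, [9]) → C.subs.all (fun l => Nat.blt l 9) = true →
      Nat.blt 9 C.ng = true → False := by
    intro C hf hl hok p hp hs hn
    refine hu ?_
    have := hsat.close_mem hf hl hok hp (K := H) (fun l hl _ => by
      rw [← hgen]; exact subset_closure ⟨l, all_lt hs l hl, rfl⟩)
      (fun l hl => by
        simp only [List.mem_cons, List.not_mem_nil, or_false] at hl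
        subst hl
        exact Nat.le_of_ble_eq_true hn)
    simpa [wvx] using this
  fin_cases j
  · exact hsat
  · exact (kill f1 CertC1.letters CertC1.ok CertC1.close s1 n1).elim
  · exact (kill f2 CertC2.letters CertC2.ok CertC2.close s2 n2).elim
  · exact (kill f3 CertC3.letters CertC3.ok CertC3.close s3 n3).elim
  · exact (kill f4 CertC4.letters CertC4.ok CertC4.close s4 n4).elim
  · exact (kill f5 CertC5.letters CertC5.ok CertC5.close s5 n5).elim
  · exact (kill f6 CertC6.letters CertC6.ok CertC6.close s6 n6).elim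
  · exact (kill f7 CertC7.letters CertC7.ok CertC7.close s7 n7).elim

/-- A group with all relators, in which the further letter is not trivial, contains the Higman-Sims group. -/
theorem exists_embedding (h : Sat im relsG) (hu : im 9 ≠ 1) :
    ∃ ψ : grpG →* X, Function.Injective ψ ∧ ∀ l (hl : l < 11), ψ ⟨imG l, imG_mem hl⟩ = im l := by
  obtain ⟨ψ, hψ⟩ := exists_hom h
  haveI := simple_grpG
  refine ⟨ψ, ?_, hψ⟩
  rcases (inferInstance : ψ.ker.Normal).eq_bot_or_eq_top with hk | hk
  · exact (MonoidHom.ker_eq_bot_iff ψ).1 hk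
  · refine absurd ?_ hu
    rw [← hψ 9 (by norm_num)]
    exact MonoidHom.mem_ker.1 (hk ▸ Subgroup.mem_top _)

end Cfsg.Lib.HSLocal
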