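import Cfsg.Agent.M12Cent.Table

/-!
Words for the two local subgroups of the Higman-Sims group and their amalgam.

Letters: `0 x, 1 x⁻¹, 2 y, 3 r, 4 a, 5 a⁻¹, 6 c, 7 c⁻¹, 8 s, 9 u, 10 u⁻¹`.
-/

set_option autoImplicit false

namespace Cfsg.Lib.HSLocal

/-- The inverses of the letters. -/
def ivL : List ℕ := [1, 0, 2, 3, 5, 4, 7, 6, 8, 10, 9]

/-- The inverse of a word. -/
def winv (w : List ℕ) : List ℕ := w.reverse.map fun l => ivL.getD l 0

/-- A power of a letter, modulo four. -/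
def cw (k : Fin 4) : List ℕ := match k with
  | 0 => []
  | 1 => [6]
  | 2 => [6, 6]
  | 3 => [7]

/-- The relators of the common part. -/
def relsB : List (List ℕ) := [
  [0, 0, 0],
  [2, 2],
  [3, 3],
  [4, 4, 4, 4],
  [6, 6, 6, 6],
  [4, 6, 5, 7],
  [4, 0, 4, 1, 5, 0, 5, 1],
  [2, 0, 2, 0],
  [0, 6, 1, 7],
  [2, 6, 2, 6],
  [2, 4, 2, 5],
  [2, 3, 2, 3],
  [3, 6, 3, 7],
  [0, 0, 4, 1, 1, 0, 4, 1, 4],
  [3, 0, 3, 1, 3, 0, 3, 1],
  [0, 0, 3, 1, 1, 0, 3, 1, 3],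
  [3, 4, 3, 4],
  [3, 0, 4, 1, 3, 0, 4, 1, 5, 5, 7]]

/-- The relators of the further element of the centralizer of the involution. -/
def relsS (k : Fin 4) : List (List ℕ) :=
  [[8, 8], [8, 0, 8, 1], [8, 6, 8, 6], [2, 8, 2] ++ winv (8 :: cw k), [8, 4, 4, 8, 3], [8, 0, 4, 1, 2, 0, 5, 1, 8, 0, 4, 1, 2, 0, 5, 1, 8, 0, 4, 1, 2, 0, 5, 1]]

/-- The fixed relators of the element of order seven. -/
def relsU0 : List (List ℕ) := [
  [9, 9, 9, 9, 9, 9, 9],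
  [0, 9, 1, 10, 10],
  [9, 6, 10, 0, 4, 1, 7, 7],
  [9, 4, 10, 4, 7],
  [9, 0, 4, 1, 10, 0, 5, 1, 4, 7, 7]]

/-- The last two relators of the element of order seven. -/
def relsU (al : List ℕ) : List (List ℕ) :=
  relsU0 ++ [[2, 9, 2, 9, 2, 9] ++ winv al, [2, 0, 3, 9, 9, 2, 0, 3, 9, 9]]

/-- The four possible values of a cube. -/
def alW : Fin 4 → List ℕ

  | 0 => []
  | 1 => [0, 4, 4, 1]
  | 2 => [6, 6, 0, 4, 1]
  | 3 => [6, 6, 0, 5, 1]

/-- The connecting word. -/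
def gW : List ℕ := [10, 8, 9]

/-- A word for the image of the involution. -/
def qW : List ℕ := [1, 2, 3, 0]

/-- A word of order three. -/
def eW : List ℕ := [1, 5, 1, 3, 8, 2]

/-- The elements of order three commuting with the image. -/
def candW : Fin 8 → List ℕ
  | 0 => [0, 2, 8, 3, 1, 5, 0]
  | 1 => [0, 8, 2, 3, 1, 4, 0]
  | 2 => [1, 2, 3, 4, 0, 3, 8]
  | 3 => [1, 2, 4, 0, 3, 8]
  | 4 => [1, 3, 5, 1, 3, 8, 2]
  | 5 => [1, 5, 1, 3, 8, 2]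
  | 6 => [2, 8, 3, 0, 4, 0]
  | 7 => [8, 2, 3, 0, 5, 0]

/-- The cycle relator. -/
def cyc (i : Fin 8) : List ℕ := winv gW ++ eW ++ gW ++ winv (candW i)

/-- All relators of the local data. -/
def relsL : List (List ℕ) := relsB ++ relsS 2 ++ relsU (alW 0)

/-- All relators. -/
def relsG : List (List ℕ) := relsL ++ [cyc 0]

end Cfsg.Lib.HSLocal
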