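import Cfsg.Agent.CosetCert.Lower
import Cfsg.Agent.HSLocal.ModelData
import Cfsg.Agent.HSLocal.FastData
import Cfsg.Agent.HSLocal.Rels

/-!
Evaluation of the words of the elements of the centralizer through stored tables.
-/

set_option autoImplicit false
set_option maxRecDepth 100000
set_option Elab.async false

namespace Cfsg.Lib.HSLocal

open Cfsg.Lib.CosetCert Cfsg.Lib.PermCert

/-- Two words act in the same way. -/
def eqW (v w : List ℕ) : Bool :=
  (v.all fun l => Nat.blt l 15) && (w.all fun l => Nat.blt l 15) &&
    (List.range 100).all fun x => evalW tabX v x == evalW tabX w x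

/-- A conjugation of words. -/
def cjW (g z : List ℕ) : List ℕ := g ++ z ++ winv g

/-- A power of `a`. -/
def aW (i : ℕ) : List ℕ := [[], [4], [4, 4], [5]].getD i []
/-- A power of `c`. -/
def cW (i : ℕ) : List ℕ := [[], [6], [6, 6], [7]].getD i []

/-- The words of the elements of the centralizer. -/
def hW (i : ℕ) : List ℕ :=
  aW (i % 4) ++ cW (i / 4 % 4) ++ repB.getD (i / 16 % 96) [] ++ repH.getD (i / 1536) []

/-- The inverse action of an element of the centralizer. -/
def hEv (i x : ℕ) : ℕ :=
  ap (hT.getD (i / 1536) 0)
    (ap ((bT.getD (i / 16 % 96 / 12) []).getD (i / 16 % 96 % 12) 0)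
      (ap (cT.getD (i / 4 % 4) 0) (ap (aT.getD (i % 4) 0) x)))

theorem tables_a : ((List.range 4).all fun i => (List.range 100).all fun x =>
    ap (aT.getD i 0) x == evalW tabX (aW i) x && ap (cT.getD i 0) x == evalW tabX (cW i) x) = true := by decide +kernel

theorem tables_h : ((List.range 5).all fun i => (List.range 100).all fun x =>
    ap (hT.getD i 0) x == evalW tabX (repH.getD i []) x) = true := by decide +kernel

theorem tables_b0 : ((List.range' 0 48).all fun i => (List.range 100).all fun x =>
    ap ((bT.getD (i / 12) []).getD (i % 12) 0) x == evalW tabX (repB.getD i []) x) = true := by decide +kernel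

theorem tables_b1 : ((List.range' 48 48).all fun i => (List.range 100).all fun x =>
    ap ((bT.getD (i / 12) []).getD (i % 12) 0) x == evalW tabX (repB.getD i []) x) = true := by decide +kernel

theorem tables_w : ((List.range 100).all fun x => ap qT x == evalW tabX qW x && ap uT x == evalW tabX uW x &&
    ap ubT x == evalW tabX (cjW hbW uW) x) = true := by decide +kernel

theorem tables_lt : ((List.range 4).all fun i => (List.range 100).all fun x =>
    Nat.blt (ap (aT.getD i 0) x) 100 && Nat.blt (ap (cT.getD i 0) x) 100) = true ∧
    ((List.range 96).all fun i => (List.range 100).all fun x =>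
      Nat.blt (ap ((bT.getD (i / 12) []).getD (i % 12) 0) x) 100) = true := by decide +kernel

/-- An element of the centralizer commutes with a table. -/
def commT (i T : ℕ) : Bool := (List.range 100).all fun x => hEv i (ap T x) == ap T (hEv i x)

/-- An element of the centralizer is killed by a power. -/
def killT : ℕ → ℕ → ℕ → ℕ
  | 0, _, x => x
  | k + 1, i, x => killT k i (hEv i x)

/-- An element of the centralizer has exponent dividing the number. -/
def expT (k i : ℕ) : Bool := (List.range 100).all fun x => killT k i x == x

/-- An element of the centralizer is trivial. -/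
def oneT (i : ℕ) : Bool := (List.range 100).all fun x => hEv i x == x

end Cfsg.Lib.HSLocal
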