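import Cfsg.Agent.HSLocal.Present

/-!
Normal forms of the elements generated by the letters of the centralizer, and the converse transfer.
-/

set_option autoImplicit false
set_option maxRecDepth 40000

namespace Cfsg.Lib.HSLocal

open Subgroup
open Cfsg.Lib.M12Cent (Log fld)

variable {X : Type*} [Group X] {im : ℕ → X}

/-- The word of a representative. -/
def repW (C : Log) : ℕ → ℕ → List ℕ
  | 0, _ => []
  | k + 1, v =>
    if fld C.par C.depth 20 v % 2 ^ 16 < v then
      repW C k (fld C.par C.depth 20 v % 2 ^ 16) ++ [fld C.par C.depth 20 v / 2 ^ 16]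
    else []

theorem rep_eq (C : Log) (im : ℕ → X) : ∀ (k v : ℕ), v < k → (∀ l ∈ repW C k v, l < C.ng) →
    C.rep im v = wvx im (repW C k v)
  | 0, v, h, _ => absurd h (Nat.not_lt_zero v)
  | k + 1, v, h, hl => by
    rw [Log.rep, repW]
    rw [repW] at hl
    by_cases hv : fld C.par C.depth 20 v % 2 ^ 16 < v
    · rw [if_pos hv] at hl
      rw [dif_pos hv, if_pos hv, wvx_append, wvx_cons, wvx_nil, mul_one,
        rep_eq C im k _ (by omega) (fun l hl' => hl l (List.mem_append_left _ hl')),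
        Log.val, if_pos (hl _ (List.mem_append_right _ List.mem_cons_self))]
    · rw [dif_neg hv, if_neg hv, wvx_nil]

theorem reps_B : (CertB.rows.map fun r => repW CertB.log 128 r.1) = repB ∧
    CertB.rows.all (fun r => Nat.blt r.1 128 && (repW CertB.log 128 r.1).all fun l => Nat.blt l 8) = true := by
  decide +kernel

theorem reps_H : (CertH.rows.map fun r => repW CertH.log 16 r.1) = repH ∧
    CertH.rows.all (fun r => Nat.blt r.1 16 && (repW CertH.log 16 r.1).all fun l => Nat.blt l 9) = true := by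
  decide +kernel

theorem reps_len : repB.length = 96 ∧ repH.length = 5 := ⟨rfl, rfl⟩

theorem form_ac (h : Sat im relsB) {g : X} (hg : g ∈ closure ({im 4, im 5, im 6, im 7} : Set X)) :
    ∃ i j : Fin 4, g = wvx im (aW i.val ++ cW j.val) := by
  have h5 : im 5 = (im 4)⁻¹ := h.iv 4 (by norm_num)
  have h7 : im 7 = (im 6)⁻¹ := h.iv 6 (by norm_num)
  have ha : im 4 ^ 4 = 1 := by
    rw [← h.rel [4, 4, 4, 4] (by decide)]; simp [wvx, pow_succ, mul_assoc]
  have hc : im 6 ^ 4 = 1 := by
    rw [← h.rel [6, 6, 6, 6] (by decide)]; simp [wvx, pow_succ, mul_assoc]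
  have hcomm : Commute (im 6) (im 4) := by
    have e := h.rel [4, 6, 5, 7] (by decide)
    simp [wvx, h5, h7] at e
    rw [commute_iff_eq, eq_comm, ← mul_inv_eq_one, ← e]
    group
  suffices h1 : ∃ i j : Fin 4, g = im 4 ^ (i : ℕ) * im 6 ^ (j : ℕ) by
    obtain ⟨i, j, rfl⟩ := h1
    refine ⟨i, j, ?_⟩
    have hA : ∀ i : Fin 4, wvx im (aW i.val) = im 4 ^ (i : ℕ) := fun i => by
      fin_cases i <;> simp [aW, wvx, pow_two]
      rw [h5]; exact inv_eq_of_mul_eq_one_left (by rw [← pow_succ, ha])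
    have hC : ∀ i : Fin 4, wvx im (cW i.val) = im 6 ^ (i : ℕ) := fun i => by
      fin_cases i <;> simp [cW, wvx, pow_two]
      rw [h7]; exact inv_eq_of_mul_eq_one_left (by rw [← pow_succ, hc])
    rw [wvx_append, hA, hC]
  have hmul : ∀ i j i' j' : ℕ, ∃ p q : Fin 4,
      im 4 ^ i * im 6 ^ j * (im 4 ^ i' * im 6 ^ j') = im 4 ^ (p : ℕ) * im 6 ^ (q : ℕ) := fun i j i' j' => by
    refine ⟨⟨(i + i') % 4, Nat.mod_lt _ (by norm_num)⟩, ⟨(j + j') % 4, Nat.mod_lt _ (by norm_num)⟩, ?_⟩
    simp only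
    rw [← pow_eq_pow_mod _ ha, ← pow_eq_pow_mod _ hc, pow_add, pow_add,
      Commute.mul_mul_mul_comm (hcomm.pow_pow _ _)]
  induction hg using closure_induction with
  | mem x hx =>
    simp only [Set.mem_insert_iff, Set.mem_singleton_iff] at hx
    rcases hx with rfl | rfl | rfl | rfl
    · exact ⟨1, 0, by simp⟩
    · exact ⟨3, 0, by
        rw [h5]; simp only [Fin.val_zero, pow_zero, mul_one]
        exact inv_eq_of_mul_eq_one_left (by rw [show ((3 : Fin 4) : ℕ) = 3 from rfl, ← pow_succ, ha])⟩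
    · exact ⟨0, 1, by simp⟩
    · exact ⟨0, 3, by
        rw [h7]; simp only [Fin.val_zero, pow_zero, one_mul]
        exact inv_eq_of_mul_eq_one_left (by rw [show ((3 : Fin 4) : ℕ) = 3 from rfl, ← pow_succ, hc])⟩
  | one => exact ⟨0, 0, by simp⟩
  | mul x y _ _ hx hy =>
    obtain ⟨i, j, rfl⟩ := hx
    obtain ⟨i', j', rfl⟩ := hy
    exact hmul _ _ _ _
  | inv x _ hx =>
    obtain ⟨i, j, rfl⟩ := hx
    refine ⟨-i, -j, inv_eq_of_mul_eq_one_left ?_⟩
    rw [Commute.mul_mul_mul_comm (hcomm.pow_pow _ _), ← pow_add, ← pow_add, pow_eq_pow_mod _ ha,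
      pow_eq_pow_mod _ hc, ← Fin.val_add, ← Fin.val_add, neg_add_cancel, neg_add_cancel]
    simp

theorem form_H (h : Sat im relsH) {g : X} (hg : g ∈ closure (im '' Set.Iio 9)) :
    ∃ i < 7680, g = wvx im (hW i) := by
  have hB : Sat im relsB := h.mono (by decide +kernel)
  have hS := h.sound (K := closure (im '' Set.Iio 8)) fits_all.2.1 CertH.letters (fun l hl _ => by
    rw [shapes.2.1.2] at hl
    simp only [List.mem_cons, List.not_mem_nil, or_false] at hl
    exact subset_closure ⟨l, by simp only [Set.mem_Iio]; omega, rfl⟩)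
  obtain ⟨c, hc, hk⟩ := cover hS CertH.ok CertH.table (g := g) (by rw [shapes.2.1.1]; exact hg)
  obtain ⟨r, hr, rfl⟩ := List.mem_map.1 hc
  have hS' := hB.sound (K := closure ({im 4, im 5, im 6, im 7} : Set X)) fits_all.1 CertB.letters (fun l hl _ => by
    rw [shapes.1.2] at hl
    simp only [List.mem_cons, List.not_mem_nil, or_false] at hl
    refine subset_closure ?_
    rcases hl with rfl | rfl | rfl | rfl <;> simp)
  obtain ⟨c', hc', hk'⟩ := cover hS' CertB.ok CertB.table (g := g * (CertH.log.rep im r.1)⁻¹)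
    (by rw [shapes.1.1]; exact hk)
  obtain ⟨r', hr', rfl⟩ := List.mem_map.1 hc'
  obtain ⟨i, j, hij⟩ := form_ac hB hk'
  have h1 := List.all_eq_true.1 reps_H.2 r hr
  have h2 := List.all_eq_true.1 reps_B.2 r' hr'
  simp only [Bool.and_eq_true] at h1 h2
  have e1 := rep_eq CertH.log im 16 r.1 (Nat.le_of_ble_eq_true h1.1)
    (by rw [shapes.2.1.1]; exact all_lt h1.2)
  have e2 := rep_eq CertB.log im 128 r'.1 (Nat.le_of_ble_eq_true h2.1)
    (by rw [shapes.1.1]; exact all_lt h2.2)
  obtain ⟨m, hm, hme⟩ := List.getElem_of_mem (show repW CertH.log 16 r.1 ∈ repH by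
    rw [← reps_H.1]; exact List.mem_map.2 ⟨r, hr, rfl⟩)
  obtain ⟨n, hn, hne⟩ := List.getElem_of_mem (show repW CertB.log 128 r'.1 ∈ repB by
    rw [← reps_B.1]; exact List.mem_map.2 ⟨r', hr', rfl⟩)
  rw [reps_len.2] at hm
  rw [reps_len.1] at hn
  have hi := i.isLt
  have hj := j.isLt
  refine ⟨i.val + 4 * j.val + 16 * n + 1536 * m, by omega, ?_⟩
  have q1 : (i.val + 4 * j.val + 16 * n + 1536 * m) % 4 = i.val := by omega
  have q2 : (i.val + 4 * j.val + 16 * n + 1536 * m) / 4 % 4 = j.val := by omega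
  have q3 : (i.val + 4 * j.val + 16 * n + 1536 * m) / 16 % 96 = n := by omega
  have q4 : (i.val + 4 * j.val + 16 * n + 1536 * m) / 1536 = m := by omega
  rw [hW, q1, q2, q3, q4, List.getD_eq_getElem _ _ (by rw [reps_len.1]; exact hn),
    List.getD_eq_getElem _ _ (by rw [reps_len.2]; exact hm), hne, hme, wvx_append, wvx_append, ← e1, ← e2, ← hij]
  group

theorem hW_lt (i : ℕ) : ∀ l ∈ hW i, l < 9 := by
  intro l hl
  simp only [hW, List.mem_append] at hl
  have hcase : ∀ k : Fin 4, (∀ l ∈ aW k.val, l < 9) ∧ ∀ l ∈ cW k.val, l < 9 := by decide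
  rcases hl with ((hl | hl) | hl) | hl
  · exact (hcase ⟨i % 4, Nat.mod_lt _ (by norm_num)⟩).1 l hl
  · exact (hcase ⟨i / 4 % 4, Nat.mod_lt _ (by norm_num)⟩).2 l hl
  · have h := List.all_eq_true.1 hW_low.1 (i / 16 % 96) (List.mem_range.2 (Nat.mod_lt _ (by norm_num)))
    exact (all_lt h l hl).trans (by norm_num)
  · by_cases h5 : i / 1536 < 5
    · exact all_lt (List.all_eq_true.1 hW_low.2 _ (List.mem_range.2 h5)) l hl
    · rw [List.getD_eq_default _ _ (by rw [reps_len.2]; omega)] at hl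
      simp at hl

/-- If the centralizer relators generate a group of the full order, identities hold in the permutations. -/
theorem h_converse (h : Sat im relsH) (hcard : Nat.card (closure (im '' Set.Iio 9)) = 7680) {w : List ℕ}
    (hw : ∀ l ∈ w, l < 9) (he : wvx im w = 1) : wvx imG w = 1 := by
  have hw11 : ∀ l ∈ w, l < 11 := fun l hl => (hw l hl).trans (by norm_num)
  let φ := (sat_H9 h).hom relsH9_lt
  have hgen : ∀ l ∈ ({9, 10} : Set ℕ), gen (relsH ++ [[9], [10]]) l = 1 := by
    intro l hl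
    simp only [Set.mem_insert_iff, Set.mem_singleton_iff] at hl
    have := (sat_gen (relsH ++ [[9], [10]])).rel [l] (by rcases hl with rfl | rfl <;> simp)
    simpa [wvx] using this
  have htop : closure (gen (relsH ++ [[9], [10]]) '' Set.Iio 9) = ⊤ := closure_of_trivial fun l hl hs => by
    simp only [Set.mem_Iio] at hs
    exact hgen l (by simp only [Set.mem_insert_iff, Set.mem_singleton_iff]; omega)
  obtain ⟨hfin, hle⟩ := card_H ((sat_gen (relsH ++ [[9], [10]])).mono (R' := relsH) (by decide +kernel))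
  rw [htop] at hfin hle
  rw [Subgroup.card_top] at hle
  haveI : Finite (Pres (relsH ++ [[9], [10]])) := Finite.of_equiv _ Subgroup.topEquiv.toEquiv
  have hrange : closure (im '' Set.Iio 9) ≤ φ.range := by
    rw [closure_le]
    rintro _ ⟨l, hl, rfl⟩
    simp only [Set.mem_Iio] at hl
    exact ⟨gen _ l, by rw [(sat_H9 h).hom_gen relsH9_lt (by omega), imH9, if_pos hl]⟩
  have hinj : Function.Injective φ := by
    refine (MonoidHom.ker_eq_bot_iff φ).1 (Subgroup.eq_bot_of_card_le _ ?_)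
    have h1 := φ.ker.card_mul_index
    rw [Subgroup.index_ker] at h1
    haveI hfr : Finite φ.range := Finite.of_surjective _ φ.rangeRestrict_surjective
    have h2 := Subgroup.card_le_of_le hrange
    rw [hcard] at h2
    nlinarith
  have h1 : wvx (gen (relsH ++ [[9], [10]])) w = 1 := hinj (by
    rw [map_one, (sat_H9 h).hom_wvx relsH9_lt hw11, ← he]
    exact wvx_congr fun l hl => by rw [imH9, if_pos (hw l hl)])
  rw [← wvx_congr (im := imH9 imG) (im' := imG) fun l hl => by rw [imH9, if_pos (hw l hl)],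
    ← (sat_H9 sat_hG).hom_wvx relsH9_lt hw11, h1, map_one]

end Cfsg.Lib.HSLocal
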