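import Cfsg.Agent.HSLocal.Core
import Cfsg.Agent.HSLocal.Arith

/-!
An element of order three in the common part and coordinates on the abelian normal subgroup.
-/

set_option autoImplicit false
set_option maxRecDepth 20000
set_option synthInstance.maxSize 1024

namespace Cfsg.Lib.HSLocal

open Subgroup

variable {G : Type*} [Group G]

namespace Loc

variable (L : Loc G)

theorem c_four : L.c ^ 4 = 1 := by
  rw [show (4 : ℕ) = 2 * 2 from rfl, pow_mul, pow_two, pow_two, L.c_sq, L.t_sq]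

theorem t_comm {h : G} (hh : h ∈ L.H) : Commute L.t h := ((L.mem_H h).1 hh).symm

theorem t_R : L.t ∈ L.R := L.c_sq ▸ mul_mem L.c_R L.c_R

theorem c_H : L.c ∈ L.H := L.R_le L.c_R

theorem cen_c {z : G} (hz : z ∈ zpowers L.c) : z = 1 ∨ z = L.c ∨ z = L.t ∨ z = L.c⁻¹ := by
  obtain ⟨k, rfl⟩ := mem_zpowers_iff.1 hz
  have h4 : L.c ^ (4 : ℤ) = 1 := by exact_mod_cast L.c_four
  have e : L.c ^ k = L.c ^ (k % 4) := by
    conv_lhs => rw [← Int.emod_add_mul_ediv k 4, zpow_add, zpow_mul, h4, one_zpow, mul_one]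
  rw [e]
  have h1 := Int.emod_nonneg k (show (4 : ℤ) ≠ 0 by norm_num)
  have h2 := Int.emod_lt_of_pos k (show (0 : ℤ) < 4 by norm_num)
  rcases (show k % 4 = 0 ∨ k % 4 = 1 ∨ k % 4 = 2 ∨ k % 4 = 3 by omega) with h | h | h | h <;> rw [h]
  · exact Or.inl (zpow_zero _)
  · exact Or.inr (Or.inl (zpow_one _))
  · exact Or.inr (Or.inr (Or.inl (by rw [zpow_two, L.c_sq])))
  · refine Or.inr (Or.inr (Or.inr (eq_inv_of_mul_eq_one_left ?_)))
    rw [← h4, show (4 : ℤ) = 3 + 1 from rfl, zpow_add_one]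

theorem c_ne_inv : L.c ≠ L.c⁻¹ := fun e => L.t_ne (by
  rw [← L.c_sq]
  exact mul_eq_one_iff_eq_inv.2 e)

/-- The centre of the two-radical is inverted or centralised. -/
theorem conj_c {h : G} (hh : h ∈ L.H) : h * L.c * h⁻¹ = L.c ∨ h * L.c * h⁻¹ = L.c⁻¹ := by
  have hz : h * L.c * h⁻¹ ∈ zpowers L.c := by
    refine L.R_cent _ (L.R_norm h hh _ L.c_R) fun r hr => ?_
    have h1 : h⁻¹ * r * h ∈ L.R := by simpa using L.R_norm h⁻¹ (inv_mem hh) r hr
    calc h * L.c * h⁻¹ * r = h * (L.c * (h⁻¹ * r * h)) * h⁻¹ := by group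
      _ = h * ((h⁻¹ * r * h) * L.c) * h⁻¹ := by rw [L.c_comm _ h1]
      _ = r * (h * L.c * h⁻¹) := by group
  have hsq : (h * L.c * h⁻¹) * (h * L.c * h⁻¹) = L.t := by
    calc (h * L.c * h⁻¹) * (h * L.c * h⁻¹) = h * (L.c * L.c) * h⁻¹ := by group
      _ = L.t := by rw [L.c_sq, ← (L.t_comm hh).eq]; group
  rcases L.cen_c hz with e | e | e | e
  · rw [e, one_mul] at hsq; exact absurd hsq.symm L.t_ne
  · exact Or.inl e
  · rw [e, L.t_sq] at hsq; exact absurd hsq.symm L.t_ne
  · exact Or.inr e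

theorem c_A : L.c ∈ L.A := (L.mem_A _).2 fun v hv => L.c_comm v (L.V_le hv)

theorem R_M : L.R ≤ L.M := fun r hr => (L.mem_M r).2 fun v hv => by
  rcases L.R_comm r hr v (L.V_le hv) with e | e
  · rw [e]; simpa using hv
  · rw [e, mul_assoc v r, ← ((L.t_comm (L.R_le hr))).eq]
    have : v * (L.t * r) * r⁻¹ = v * L.t := by group
    rw [this]; exact mul_mem hv L.t_V

theorem A_H : L.A ≤ L.H := fun _ ha => (L.mem_H _).2 (L.A_comm _ ha _ (L.V_A L.t_V))

theorem V_comm {v w : G} (hv : v ∈ L.V) (hw : w ∈ L.V) : Commute v w := L.A_comm _ (L.V_A hv) _ (L.V_A hw)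

variable [Finite G]

theorem card_B : Nat.card (L.H ⊓ L.M : Subgroup G) = 1536 := by
  classical
  set B := L.H ⊓ L.M
  refine Nat.le_antisymm ?_ ?_
  · have h1 := Subgroup.card_dvd_of_le (inf_le_left : B ≤ L.H)
    have h2 := Subgroup.card_dvd_of_le (inf_le_right : B ≤ L.M)
    rw [L.card_H] at h1
    rw [L.card_M] at h2
    have h := Nat.dvd_gcd h1 h2
    rw [show Nat.gcd 7680 10752 = 1536 by norm_num] at h
    exact Nat.le_of_dvd (by norm_num) h
  · let f : L.M → {v : L.V // v ≠ 1} := fun g => ⟨⟨g * L.t * (g : G)⁻¹, (L.mem_M _).1 g.2 _ L.t_V⟩, fun e => by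
      have e' : (g : G) * L.t * (g : G)⁻¹ = 1 := congrArg Subtype.val e
      exact L.t_ne (conj_eq_one_iff.1 e')⟩
    let rep : Set.range f → L.M := fun y => y.2.choose
    have hrep : ∀ y, f (rep y) = y := fun y => y.2.choose_spec
    let F : L.M → Set.range f × B := fun g =>
      (⟨f g, g, rfl⟩, ⟨((rep ⟨f g, g, rfl⟩ : L.M) : G)⁻¹ * g, by
        refine ⟨(L.mem_H _).2 ?_, L.M.mul_mem (L.M.inv_mem (rep _).2) g.2⟩
        have e : ((rep ⟨f g, g, rfl⟩ : L.M) : G) * L.t * ((rep ⟨f g, g, rfl⟩ : L.M) : G)⁻¹ = g * L.t * (g : G)⁻¹ :=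
          congrArg (fun z : {v : L.V // v ≠ 1} => (z.1 : G)) (hrep ⟨f g, g, rfl⟩)
        calc _ = ((rep ⟨f g, g, rfl⟩ : L.M) : G)⁻¹ * ((g : G) * L.t * (g : G)⁻¹) * g := by group
          _ = _ := by rw [← e]; group⟩)
    have hF : Function.Injective F := fun g g' e => by
      simp only [F, Prod.mk.injEq] at e
      have h1 := congrArg Subtype.val e.2
      change ((rep ⟨f g, g, rfl⟩ : L.M) : G)⁻¹ * g = ((rep ⟨f g', g', rfl⟩ : L.M) : G)⁻¹ * g' at h1
      rw [e.1] at h1
      exact Subtype.ext (mul_left_cancel h1)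
    have h := Nat.card_le_card_of_injective F hF
    have hr : Nat.card (Set.range f) ≤ 7 := by
      refine (Nat.card_le_card_of_injective (fun y : Set.range f => y.1) Subtype.val_injective).trans ?_
      haveI := Fintype.ofFinite L.V
      rw [Nat.card_eq_fintype_card, Fintype.card_subtype_compl, Fintype.card_subtype_eq, ← Nat.card_eq_fintype_card,
        L.card_V]
    rw [L.card_M, Nat.card_prod] at h
    nlinarith

theorem exists_x : ∃ x : G, x ∈ L.H ∧ x ∈ L.M ∧ orderOf x = 3 ∧ x ∉ L.A := by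
  haveI : Fact (Nat.Prime 3) := ⟨Nat.prime_three⟩
  obtain ⟨x, hx⟩ := exists_prime_orderOf_dvd_card' 3 (by rw [L.card_B]; norm_num : 3 ∣ Nat.card (L.H ⊓ L.M : Subgroup G))
  refine ⟨x, x.2.1, x.2.2, by rw [Subgroup.orderOf_coe, hx], fun hA => ?_⟩
  have h := orderOf_dvd_of_pow_eq_one (L.A_exp _ hA)
  rw [Subgroup.orderOf_coe, hx] at h
  norm_num at h

end Loc

/-- An element of order three and a generator of its commutator in the abelian normal subgroup. -/
structure Coord (L : Loc G) where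
  x : G
  a : G
  x_H : x ∈ L.H
  x_M : x ∈ L.M
  x_ord : orderOf x = 3
  x_c : x * L.c = L.c * x
  a_A : a ∈ L.A
  norm : x * (x * a * x⁻¹) * x⁻¹ * (x * a * x⁻¹) * a = 1
  a_one : a * a ≠ 1
  a_t : a * a ≠ L.t

theorem exists_coord [Finite G] (L : Loc G) : Nonempty (Coord L) := by
  classical
  obtain ⟨x, hxH, hxM, hx, hxA⟩ := L.exists_x
  have hx3 : x * x * x = 1 := by
    rw [← pow_two, ← pow_succ, show (2 + 1) = orderOf x from hx.symm]; exact pow_orderOf_eq_one x
  have hxc : x * L.c = L.c * x := by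
    rcases L.conj_c hxH with e | e
    · conv_rhs => rw [← e]
      group
    · exfalso
      have e2 : x * x * L.c * (x * x)⁻¹ = L.c := by
        calc x * x * L.c * (x * x)⁻¹ = x * (x * L.c * x⁻¹) * x⁻¹ := by group
          _ = x * L.c⁻¹ * x⁻¹ := by rw [e]
          _ = (x * L.c * x⁻¹)⁻¹ := by group
          _ = L.c := by rw [e, inv_inv]
      have e3 : x * x * x * L.c * (x * x * x)⁻¹ = L.c⁻¹ := by
        calc x * x * x * L.c * (x * x * x)⁻¹ = x * (x * x * L.c * (x * x)⁻¹) * x⁻¹ := by group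
          _ = _ := by rw [e2, e]
      rw [hx3] at e3
      simp at e3
      exact L.c_ne_inv e3
  have hfix : ∀ v ∈ L.V, x * v = v * x → v = 1 ∨ v = L.t := by
    intro v hv hxv
    by_contra hcon
    push Not at hcon
    apply hxA
    rw [L.mem_A]
    intro w hw
    let S : Subgroup G :=
      { carrier := {z | z ∈ L.V ∧ x * z = z * x}
        one_mem' := ⟨one_mem _, by simp⟩
        mul_mem' := fun {p q} hp hq => ⟨mul_mem hp.1 hq.1, by
          rw [← mul_assoc, hp.2, mul_assoc, hq.2, mul_assoc]⟩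
        inv_mem' := fun {p} hp => ⟨inv_mem hp.1, by
          calc x * p⁻¹ = p⁻¹ * (p * x) * p⁻¹ := by group
            _ = p⁻¹ * x := by rw [← hp.2]; group⟩ }
    have hS4 : 4 ≤ Nat.card S := by
      let g : Fin 4 → S := ![1, ⟨L.t, L.t_V, ((L.mem_H x).1 hxH)⟩, ⟨v, hv, hxv⟩,
        ⟨L.t, L.t_V, ((L.mem_H x).1 hxH)⟩ * ⟨v, hv, hxv⟩]
      have hg : Function.Injective g := by
        intro i j e
        have e' := congrArg Subtype.val e
        fin_cases i <;> fin_cases j <;> simp [g] at e' ⊢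
        all_goals first
          | exact absurd e'.symm L.t_ne
          | exact absurd e' L.t_ne
          | exact absurd e'.symm hcon.1
          | exact absurd e' hcon.1
          | exact absurd e'.symm hcon.2
          | exact absurd e' hcon.2
          | exact hcon.2 (by rw [← mul_one v, ← L.t_sq, ← mul_assoc, ← (L.V_comm L.t_V hv).eq, ← e', one_mul])
          | exact hcon.2 (by rw [← mul_one v, ← L.t_sq, ← mul_assoc, ← (L.V_comm L.t_V hv).eq, e', one_mul])
      simpa using Nat.card_le_card_of_injective g hg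
    by_cases hwS : w ∈ S
    · exact hwS.2
    · exfalso
      have hSV : S ≤ L.V := fun z hz => hz.1
      have hne : Nat.card S ≠ 8 := fun e =>
        hwS ((Subgroup.eq_of_le_of_card_ge hSV (by rw [e, L.card_V])).symm ▸ hw)
      have hd := Subgroup.card_dvd_of_le hSV
      rw [L.card_V] at hd
      have hS : Nat.card S = 4 := by
        obtain ⟨k, hk, e⟩ := (Nat.dvd_prime_pow Nat.prime_two).1 (show Nat.card S ∣ 2 ^ 3 from hd)
        interval_cases k <;> omega
      have hu := (L.mem_M x).1 hxM w hw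
      have hidx : (S.subgroupOf L.V).index = 2 := by
        have h := Subgroup.card_mul_index (S.subgroupOf L.V)
        rw [Nat.card_congr (Subgroup.subgroupOfEquivOfLe hSV).toEquiv, hS, L.card_V] at h
        omega
      by_cases hxw : x * w * x⁻¹ ∈ S
      · apply hwS
        refine ⟨hw, ?_⟩
        have e := hxw.2
        calc x * w = x⁻¹ * (x * (x * w * x⁻¹)) * x := by group
          _ = w * x := by rw [e]; group
      · have hu' := (Subgroup.mul_mem_iff_of_index_two hidx (a := ⟨w, hw⟩⁻¹) (b := ⟨_, hu⟩)).2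
          (iff_of_false (by simpa [Subgroup.mem_subgroupOf] using hwS) (by simpa [Subgroup.mem_subgroupOf] using hxw))
        rw [Subgroup.mem_subgroupOf] at hu'
        obtain ⟨u, huS, e⟩ : ∃ u ∈ S, x * w * x⁻¹ = w * u := ⟨w⁻¹ * (x * w * x⁻¹), by simpa using hu', by group⟩
        have hxu : x * u * x⁻¹ = u := by rw [huS.2]; group
        have e2 : x * x * w * (x * x)⁻¹ = w := by
          calc x * x * w * (x * x)⁻¹ = x * (x * w * x⁻¹) * x⁻¹ := by group
            _ = x * (w * u) * x⁻¹ := by rw [e]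
            _ = (x * w * x⁻¹) * (x * u * x⁻¹) := by group
            _ = w * (u * u) := by rw [e, hxu, mul_assoc]
            _ = w := by rw [L.V_sq u huS.1, mul_one]
        apply hwS
        refine ⟨hw, ?_⟩
        have hinv : x * x = x⁻¹ := eq_inv_of_mul_eq_one_left hx3
        rw [hinv] at e2
        calc x * w = x * (x⁻¹ * w * (x⁻¹)⁻¹) := by rw [e2]
          _ = w * x := by group
  have hCA : ∀ z ∈ L.A, x * z = z * x → z ∈ zpowers L.c := by
    intro z hz hxz
    have hz2 : x * (z * z) = z * z * x := by rw [← mul_assoc, hxz, mul_assoc, hxz, mul_assoc]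
    have hzzV : z * z ∈ L.V := L.A_sq _ (mul_mem hz hz) (by rw [← L.A_exp z hz]; simp [pow_succ, mul_assoc])
    rcases hfix _ hzzV hz2 with e | e
    · rcases hfix _ (L.A_sq z hz e) hxz with q | q
      · rw [q]; exact one_mem _
      · rw [q, ← L.c_sq]; exact mul_mem (mem_zpowers _) (mem_zpowers _)
    · have hzc : Commute z L.c := L.A_comm z hz L.c L.c_A
      have e1 : z * L.c⁻¹ * (z * L.c⁻¹) = 1 := by
        calc z * L.c⁻¹ * (z * L.c⁻¹) = z * z * (L.c * L.c)⁻¹ := by
              rw [mul_assoc z, ← mul_assoc L.c⁻¹, ← (hzc.inv_right).eq]; group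
          _ = 1 := by rw [e, L.c_sq, mul_inv_cancel]
      have hmem := mul_mem hz (inv_mem L.c_A)
      have hcom : x * (z * L.c⁻¹) = z * L.c⁻¹ * x := by
        have h2 : Commute x L.c⁻¹ := Commute.inv_right hxc
        rw [← mul_assoc, hxz, mul_assoc, h2.eq, ← mul_assoc]
      have hz' : z = z * L.c⁻¹ * L.c := by group
      rw [hz']
      refine mul_mem ?_ (mem_zpowers _)
      rcases hfix _ (L.A_sq _ hmem e1) hcom with q | q
      · rw [q]; exact one_mem _
      · rw [q, ← L.c_sq]; exact mul_mem (mem_zpowers _) (mem_zpowers _)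
  obtain ⟨α, hα, hα1, hαt⟩ : ∃ α ∈ L.A, α * α ≠ 1 ∧ α * α ≠ L.t := by
    by_contra hcon
    push Not at hcon
    let f : L.A → L.V ⊕ L.V := fun z => if h : (z : G) * z = 1 then Sum.inl ⟨z, L.A_sq _ z.2 h⟩ else
      Sum.inr ⟨z * L.c⁻¹, L.A_sq _ (mul_mem z.2 (inv_mem L.c_A)) (by
        have hzc : Commute (z : G) L.c := L.A_comm _ z.2 L.c L.c_A
        calc (z : G) * L.c⁻¹ * (z * L.c⁻¹) = z * z * (L.c * L.c)⁻¹ := by
              rw [mul_assoc (z : G), ← mul_assoc L.c⁻¹, ← (hzc.inv_right).eq]; group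
          _ = 1 := by rw [hcon z z.2 h, L.c_sq, mul_inv_cancel])⟩
    have hf : Function.Injective f := fun p q e => by
      simp only [f] at e
      split at e <;> split at e <;> simp at e
      · exact e
      · exact e
    have h := Nat.card_le_card_of_injective f hf
    rw [L.card_A, Nat.card_sum, L.card_V] at h
    omega
  set β := x * α * x⁻¹ with hβ
  set γ := x * β * x⁻¹ with hγ
  have hβA : β ∈ L.A := L.A_norm x hxM α hα
  have hγA : γ ∈ L.A := L.A_norm x hxM β hβA
  have hxγ : x * γ * x⁻¹ = α := by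
    calc x * γ * x⁻¹ = x * x * x * α * (x * x * x)⁻¹ := by rw [hγ, hβ]; group
      _ = α := by rw [hx3]; group
  have hN : x * (γ * β * α) = γ * β * α * x := by
    have e : x * (γ * β * α) * x⁻¹ = γ * β * α := by
      calc x * (γ * β * α) * x⁻¹ = (x * γ * x⁻¹) * (x * β * x⁻¹) * (x * α * x⁻¹) := by group
        _ = α * γ * β := by rw [hxγ, ← hγ, ← hβ]
        _ = γ * β * α := by rw [mul_assoc α, L.A_comm α hα _ (mul_mem hγA hβA)]
    calc x * (γ * β * α) = x * (γ * β * α) * x⁻¹ * x := by group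
      _ = _ := by rw [e]
  set n := γ * β * α with hn
  have hnA : n ∈ L.A := mul_mem (mul_mem hγA hβA) hα
  have hnc : n ∈ zpowers L.c := hCA n hnA hN
  have hn4 : n ^ 4 = 1 := L.A_exp n hnA
  have hcn : Commute x n := hN
  refine ⟨⟨x, α * n, hxH, hxM, hx, hxc, mul_mem hα hnA, ?_, ?_, ?_⟩⟩
  · have e1 : x * (α * n) * x⁻¹ = β * n := by
      calc x * (α * n) * x⁻¹ = (x * α * x⁻¹) * (x * n * x⁻¹) := by group
        _ = β * n := by rw [← hβ, hcn.eq]; group
    have e2 : x * (β * n) * x⁻¹ = γ * n := by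
      calc x * (β * n) * x⁻¹ = (x * β * x⁻¹) * (x * n * x⁻¹) := by group
        _ = γ * n := by rw [← hγ, hcn.eq]; group
    rw [e1, e2]
    have c1 : Commute n β := L.A_comm n hnA β hβA
    have c2 : Commute n α := L.A_comm n hnA α hα
    calc γ * n * (β * n) * (α * n) = γ * (n * β) * (n * α) * n := by group
      _ = γ * β * n * (α * n) * n := by rw [c1.eq, c2.eq]; group
      _ = γ * β * (n * α) * n * n := by group
      _ = n * n * n * n := by rw [c2.eq]; rw [hn]; group
      _ = 1 := by rw [← hn4]; simp [pow_succ, mul_assoc]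
  all_goals
    have c2 : Commute α n := L.A_comm α hα n hnA
    have e : α * n * (α * n) = α * α * (n * n) := by
      rw [mul_assoc α, ← mul_assoc n, ← c2.eq]; group
    rw [e]
    rcases L.cen_c hnc with q | q | q | q <;> rw [q]
  · simpa using hα1
  · rw [L.c_sq]; intro h
    exact hαt (by rw [← mul_one (α * α), ← L.t_sq, ← mul_assoc, h, one_mul])
  · rw [L.t_sq]; simpa using hα1
  · rw [show L.c⁻¹ * L.c⁻¹ = L.t by
      rw [← mul_inv_rev, L.c_sq]; exact inv_eq_of_mul_eq_one_right L.t_sq]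
    intro h
    exact hαt (by rw [← mul_one (α * α), ← L.t_sq, ← mul_assoc, h, one_mul])
  · simpa using hαt
  · rw [L.c_sq]; intro h
    exact hα1 (mul_right_cancel (h.trans (one_mul _).symm))
  · rw [L.t_sq]; simpa using hαt
  · rw [show L.c⁻¹ * L.c⁻¹ = L.t by
      rw [← mul_inv_rev, L.c_sq]; exact inv_eq_of_mul_eq_one_right L.t_sq]
    intro h
    exact hα1 (mul_right_cancel (h.trans (one_mul _).symm))

end Cfsg.Lib.HSLocal
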