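import Cfsg.Agent.HSLocal.Cycle

/-!
Elements with all relators inside a group in which they contain the centralizer of the first involution: the two
classes of involutions and their centralizers.
-/

set_option autoImplicit false
set_option maxRecDepth 100000

namespace Cfsg.Lib.HSLocal

open Subgroup

theorem fusion_facts : p0Idx.any (fun i => isT i ([6, 6] ++ uW) && (typeI i == some false)) = true ∧
    pIdx.all (fun i => Nat.blt i 7680) = true ∧ p0Idx.Nodup ∧ pIdx.Nodup ∧
    p0Idx.any (fun i => isT i []) = true ∧ eqW bW [] = false ∧ eqW (bW ++ bW) [] = true ∧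
    eqW ([6, 6] ++ [6, 6]) [] = true := by decide +kernel

theorem p0_sub {i : ℕ} (hi : i ∈ p0Idx) : i ∈ pIdx :=
  List.contains_iff_mem.1 (List.all_eq_true.1 sub_closed.2.1 i hi)

theorem p_lt {i : ℕ} (hi : i ∈ pIdx) : i < 7680 :=
  Nat.le_of_ble_eq_true (List.all_eq_true.1 fusion_facts.2.1 i hi)

theorem p0_lt {i : ℕ} (hi : i ∈ p0Idx) : i < 7680 := p_lt (p0_sub hi)

theorem p_iff {i : ℕ} : i ∈ pIdx ↔ i < 7680 ∧ commT i uT = true := by
  rw [← cent_u, List.mem_filter, List.mem_range]

theorem p_mem {i : ℕ} (hi : i < 7680) : i ∈ pIdx ↔ Commute (hP i) (wvx imG uW) := by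
  rw [← commT_iff hi (fun l hl => (all_lt small_facts.2.2.2.1 l hl).trans (by norm_num)) uT_eq, p_iff]
  exact ⟨fun h => h.2, fun h => ⟨hi, h⟩⟩

variable {G : Type*} [Group G] {im : ℕ → G}

/-- An element of the centralizer, by its index. -/
def el (im : ℕ → G) (i : ℕ) : G := wvx im (hW i)

/-- Faithful elements with all relators containing the centralizer of the first involution. -/
structure Faith (im : ℕ → G) : Prop where
  sat : Sat im relsG
  faithful : ∀ v w : List ℕ, (∀ l ∈ v, l < 11) → (∀ l ∈ w, l < 11) →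
    (wvx im v = wvx im w ↔ wvx imG v = wvx imG w)
  cent : ∀ g : G, g * wvx im [6, 6] = wvx im [6, 6] * g → ∃ i < 7680, g = el im i
  card_t : Nat.card (centralizer ({wvx im [6, 6]} : Set G)) = 7680
  card_Y : Nat.card (closure (im '' Set.Iio 11)) = 44352000

/-- The first involution. -/
def tv' (im : ℕ → G) : G := wvx im [6, 6]

/-- The second involution. -/
def uv (im : ℕ → G) : G := wvx im uW

/-- A conjugate of the first involution commuting with the second. -/
def bv (im : ℕ → G) : G := wvx im bW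

/-- The group of the letters. -/
def gY (im : ℕ → G) : Subgroup G := closure (im '' Set.Iio 11)

theorem gY_word {w : List ℕ} (hw : ∀ l ∈ w, l < 11) : wvx im w ∈ gY im :=
  (gY im).list_prod_mem fun g hg => by
    obtain ⟨l, hl, rfl⟩ := List.mem_map.1 hg
    exact subset_closure ⟨l, hw l hl, rfl⟩

theorem h11 (i : ℕ) : ∀ l ∈ hW i, l < 11 := fun l hl => (hW_lt i l hl).trans (by norm_num)

theorem el_Y (i : ℕ) : el im i ∈ gY im := gY_word (h11 i)

namespace Faith

theorem uW11 : ∀ l ∈ uW, l < 11 := fun l hl => (all_lt small_facts.2.2.2.1 l hl).trans (by norm_num)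

theorem bW11 : ∀ l ∈ bW, l < 11 := fun l hl => (all_lt small_facts.2.2.2.2.1 l hl).trans (by norm_num)

theorem t11 : ∀ l ∈ ([6, 6] : List ℕ), l < 11 := by decide

theorem app11 {v w : List ℕ} (hv : ∀ l ∈ v, l < 11) (hw : ∀ l ∈ w, l < 11) : ∀ l ∈ v ++ w, l < 11 := fun l hl => by
  rcases List.mem_append.1 hl with h | h; exacts [hv l h, hw l h]

variable (F : Faith im)

theorem t_Y : tv' im ∈ gY im := gY_word t11
theorem u_Y : uv im ∈ gY im := gY_word uW11
theorem b_Y : bv im ∈ gY im := gY_word bW11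

include F

theorem app {v w : List ℕ} (hv : ∀ l ∈ v, l < 11) (hw : ∀ l ∈ w, l < 11)
    (h : eqW v w = true) : wvx im v = wvx im w := (F.faithful v w hv hw).2 (eqW_sound h)

theorem comm_word {v w : List ℕ} (hv : ∀ l ∈ v, l < 11) (hw : ∀ l ∈ w, l < 11) :
    Commute (wvx im v) (wvx im w) ↔ Commute (wvx imG v) (wvx imG w) := by
  have h := F.faithful (v ++ w) (w ++ v) (app11 hv hw) (app11 hw hv)
  rw [wvx_append, wvx_append, wvx_append, wvx_append] at h
  exact h

theorem el_one (i : ℕ) : el im i = 1 ↔ hP i = 1 := by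
  have h := F.faithful (hW i) [] (h11 i) (by simp)
  rwa [wvx_nil, wvx_nil] at h

theorem el_eq (i j : ℕ) : el im i = el im j ↔ hP i = hP j := F.faithful _ _ (h11 i) (h11 j)

theorem el_word (i : ℕ) {w : List ℕ} (hw : ∀ l ∈ w, l < 11) : el im i = wvx im w ↔ hP i = wvx imG w :=
  F.faithful _ _ (h11 i) hw

theorem el_mul (i j k : ℕ) : el im i * el im j = el im k ↔ hP i * hP j = hP k := by
  have h := F.faithful (hW i ++ hW j) (hW k) (app11 (h11 i) (h11 j)) (h11 k)
  rw [wvx_append, wvx_append] at h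
  exact h

theorem el_sq (i : ℕ) : el im i * el im i = 1 ↔ hP i ^ 2 = 1 := by
  have h := F.faithful (hW i ++ hW i) [] (app11 (h11 i) (h11 i)) (by simp)
  rw [wvx_append, wvx_append, wvx_nil, wvx_nil] at h
  rw [pow_two]
  exact h

theorem t_sq : tv' im * tv' im = 1 := by
  have := F.app (app11 t11 t11) (by simp) fusion_facts.2.2.2.2.2.2.2
  rwa [wvx_append, wvx_nil] at this

theorem u_sq : uv im * uv im = 1 := by
  have := F.app (app11 uW11 uW11) (by simp) small_facts.1
  rwa [wvx_append, wvx_nil] at this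

theorem b_sq : bv im * bv im = 1 := by
  have := F.app (app11 bW11 bW11) (by simp) fusion_facts.2.2.2.2.2.2.1
  rwa [wvx_append, wvx_nil] at this

theorem t_ne : tv' im ≠ 1 := fun e => by
  have h := (F.faithful [6, 6] [] t11 (by simp)).1 e
  exact eqW_false (by decide) (by simp) u_facts.2.2.1 h

theorem u_ne : uv im ≠ 1 := fun e => by
  have h := (F.faithful uW [] uW11 (by simp)).1 e
  exact eqW_false (fun l hl => (uW11 l hl).trans (by norm_num)) (by simp) small_facts.2.1 h

/-- The centralizer of the first involution lies in the group of the letters. -/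
theorem cent_le {g : G} (hg : g * tv' im = tv' im * g) : g ∈ gY im := by
  obtain ⟨i, -, rfl⟩ := F.cent g hg
  exact el_Y i

theorem el_cent [Finite G] {i : ℕ} (hi : i < 7680) : el im i * tv' im = tv' im * el im i := by
  classical
  haveI : Fintype (centralizer ({tv' im} : Set G)) := Fintype.ofFinite _
  have hc : Nat.card (centralizer ({tv' im} : Set G)) = 7680 := F.card_t
  let f : centralizer ({tv' im} : Set G) → Fin 7680 := fun g =>
    ⟨(F.cent g (mem_centralizer_singleton_iff.1 g.2)).choose, (F.cent g (mem_centralizer_singleton_iff.1 g.2)).choose_spec.1⟩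
  have hf : ∀ g : centralizer ({tv' im} : Set G), (g : G) = el im (f g) := fun g => (F.cent g (mem_centralizer_singleton_iff.1 g.2)).choose_spec.2
  have hbij := (Nat.bijective_iff_injective_and_card f).2
    ⟨fun a b e => Subtype.ext (by rw [hf a, hf b, e]), by rw [hc, Nat.card_fin]⟩
  obtain ⟨g, hg⟩ := hbij.2 ⟨i, hi⟩
  have := mem_centralizer_singleton_iff.1 g.2
  rwa [hf g, hg] at this

theorem el_inj [Finite G] {i j : ℕ} (hi : i < 7680) (hj : j < 7680) (e : el im i = el im j) : i = j := by
  classical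
  let f : Fin 7680 → centralizer ({tv' im} : Set G) := fun k =>
    ⟨el im k, mem_centralizer_singleton_iff.2 (F.el_cent k.isLt)⟩
  have hs : Function.Surjective f := fun g => by
    obtain ⟨k, hk, e⟩ := F.cent g (mem_centralizer_singleton_iff.1 g.2)
    exact ⟨⟨k, hk⟩, Subtype.ext e.symm⟩
  have hbij := (Nat.bijective_iff_surjective_and_card f).2
    ⟨hs, by rw [Nat.card_fin]; exact F.card_t.symm⟩
  exact congrArg Fin.val (hbij.1 (a₁ := ⟨i, hi⟩) (a₂ := ⟨j, hj⟩) (Subtype.ext e))

/-- The elements of the centralizer commuting with the second involution. -/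
theorem cent_pair {g : G} (ht : g * tv' im = tv' im * g) (hu : g * uv im = uv im * g) :
    ∃ i ∈ pIdx, g = el im i := by
  obtain ⟨i, hi, rfl⟩ := F.cent g ht
  exact ⟨i, (p_mem hi).2 ((F.comm_word (h11 i) uW11).1 hu), rfl⟩

theorem el_pair [Finite G] {i : ℕ} (hi : i ∈ pIdx) :
    el im i * tv' im = tv' im * el im i ∧ el im i * uv im = uv im * el im i :=
  ⟨F.el_cent (p_lt hi), (F.comm_word (h11 i) uW11).2 ((p_mem (p_lt hi)).1 hi)⟩

/-- An involution of the centralizer is conjugate to one of the two involutions. -/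
theorem invol_type {i : ℕ} (hi : i < 7680) (h2 : el im i * el im i = 1) (h1 : el im i ≠ 1) :
    ∃ q : Bool, typeI i = some q ∧
      ∃ y ∈ gY im, y * el im i * y⁻¹ = if q then tv' im else uv im := by
  have h := List.all_eq_true.1 invol_all i (List.mem_range.2 hi)
  rw [involOK, (expT_iff hi).2 ((F.el_sq i).1 h2),
    Bool.eq_false_iff.2 (fun h => h1 ((F.el_one i).2 ((oneT_iff hi).1 h)))] at h
  simp only [Bool.not_true, Bool.false_or] at h
  obtain ⟨p, hp⟩ : ∃ p, invol.find? (fun p => p.1 == i) = some p :=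
    Option.isSome_iff_exists.1 (List.find?_isSome.2 (List.any_eq_true.1 h))
  have hmem := List.mem_of_find?_eq_some hp
  have hpi : p.1 = i := by simpa using List.find?_some hp
  refine ⟨p.2.1, by rw [typeI, hp]; rfl, ?_⟩
  have hc := List.all_eq_true.1 invol_conj p hmem
  rw [conjOK] at hc
  simp only [Bool.and_eq_true] at hc
  obtain ⟨⟨hy, he⟩, -⟩ := hc
  refine ⟨wvx im p.2.2, gY_word (all_lt hy), ?_⟩
  have hG : Sat imG relsG := sat_imG
  have e := (F.faithful (cjW p.2.2 (hW p.1)) (if p.2.1 then [6, 6] else uW)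
    (app11 (app11 (all_lt hy) (h11 _)) (winv_lt (all_lt hy))) (by split; exacts [t11, uW11])).2 (eqW_sound he)
  rw [cjW, wvx_append, wvx_append, F.sat.winv_val _ (all_lt hy)] at e
  rw [el, ← hpi, e]
  cases p.2.1 <;> rfl

/-- The two involutions are not conjugate. -/
theorem not_fused [Finite G] (g : G) : g * uv im * g⁻¹ ≠ tv' im := by
  classical
  intro hg
  obtain ⟨-, -, -, -, -, -, -, -, h1, h2, c1, c2, c12, o1, o2, n1, n2⟩ := small_facts
  set a := wvx im f1W with ha
  set b := wvx im f2W with hb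
  have ha1 : ∀ l ∈ f1W, l < 11 := all_lt h1
  have hb1 : ∀ l ∈ f2W, l < 11 := all_lt h2
  have hau : Commute a (uv im) := by
    refine (F.comm_word ha1 uW11).2 ?_
    rw [commute_iff_eq, ← wvx_append, ← wvx_append]; exact eqW_sound c1
  have hbu : Commute b (uv im) := by
    refine (F.comm_word hb1 uW11).2 ?_
    rw [commute_iff_eq, ← wvx_append, ← wvx_append]; exact eqW_sound c2
  have hab : Commute a b := by
    refine (F.comm_word ha1 hb1).2 ?_
    rw [commute_iff_eq, ← wvx_append, ← wvx_append]; exact eqW_sound c12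
  have ha3 : a ^ 3 = 1 := by
    have := F.app (app11 (app11 ha1 ha1) ha1) (by simp) o1
    rw [wvx_append, wvx_append, wvx_nil] at this
    rw [pow_succ, pow_two]; exact this
  have hb3 : b ^ 3 = 1 := by
    have := F.app (app11 (app11 hb1 hb1) hb1) (by simp) o2
    rw [wvx_append, wvx_append, wvx_nil] at this
    rw [pow_succ, pow_two]; exact this
  have hna : a ≠ 1 := fun e => by
    have h := (F.faithful f1W [] ha1 (by simp)).1 e
    exact eqW_false (fun l hl => (ha1 l hl).trans (by norm_num)) (by simp) n1 h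
  have hnb : ∀ k < 3, b ≠ a ^ k := fun k hk e => by
    have h := List.all_eq_true.1 n2 k (List.mem_range.2 hk)
    simp only [Bool.not_eq_true'] at h
    have hrep : ∀ l ∈ (List.replicate k f1W).flatten, l < 11 := fun l hl => by
      obtain ⟨w, hw, hlw⟩ := List.mem_flatten.1 hl
      rw [List.eq_of_mem_replicate hw] at hlw
      exact ha1 l hlw
    have hval : wvx im (List.replicate k f1W).flatten = a ^ k := by
      clear h hrep e hk
      induction k with
      | zero => simp [wvx]
      | succ k ih => rw [List.replicate_succ, List.flatten_cons, wvx_append, ih, ← ha, pow_succ']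
    exact eqW_false (fun l hl => (hb1 l hl).trans (by norm_num)) (fun l hl => (hrep l hl).trans (by norm_num)) h
      ((F.faithful _ _ hb1 hrep).1 (by rw [hval]; exact e))
  haveI : Fact (Nat.Prime 3) := ⟨Nat.prime_three⟩
  have hoa : orderOf a = 3 := orderOf_eq_prime ha3 hna
  have hob : orderOf b = 3 := orderOf_eq_prime hb3 (fun e => hnb 0 (by norm_num) (by rw [pow_zero]; exact e))
  let φ : zpowers a × zpowers b →* G :=
    MonoidHom.noncommCoprod (zpowers a).subtype (zpowers b).subtype (fun x y => by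
      obtain ⟨i, hi⟩ := mem_zpowers_iff.1 x.2
      obtain ⟨j, hj⟩ := mem_zpowers_iff.1 y.2
      show Commute (x : G) (y : G)
      rw [← hi, ← hj]
      exact hab.zpow_zpow i j)
  have hφ : Function.Injective φ := by
    rw [injective_iff_map_eq_one]
    rintro ⟨⟨x, hx⟩, y, hy⟩ e
    have e' : x * y = 1 := e
    have hyx : y ∈ zpowers a := by
      rw [eq_inv_of_mul_eq_one_right e']; exact inv_mem hx
    have hy1 : y = 1 := by
      by_contra hy1
      have hgen : zpowers b ≤ zpowers a := by
        obtain ⟨j, rfl⟩ := mem_zpowers_iff.1 hy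
        have hq : Nat.card (zpowers b) = 3 := by rw [Nat.card_zpowers, hob]
        have ho : orderOf (b ^ j) = 3 := orderOf_eq_prime (by
          rw [← zpow_natCast, ← zpow_mul, mul_comm, zpow_mul, zpow_natCast, hb3, one_zpow]) hy1
        have heq : zpowers (b ^ j) = zpowers b := Subgroup.eq_of_le_of_card_ge
          (by rw [zpowers_le]; exact zpow_mem (mem_zpowers b) j) (by rw [hq, Nat.card_zpowers, ho])
        rw [← heq, zpowers_le]
        exact hyx
      have hba := hgen (mem_zpowers b)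
      obtain ⟨k, hk, e2⟩ : ∃ k < 3, b = a ^ k := by
        obtain ⟨k, hk⟩ := (Submonoid.mem_powers_iff _ _).1 ((isOfFinOrder_of_finite a).mem_powers_iff_mem_zpowers.2 hba)
        exact ⟨k % 3, Nat.mod_lt _ (by norm_num), by rw [← pow_eq_pow_mod k ha3, hk]⟩
      exact hnb k hk e2
    subst hy1
    rw [mul_one] at e'
    subst e'
    rfl
  have h9 : Nat.card φ.range = 9 := by
    rw [← Nat.card_congr (MonoidHom.ofInjective hφ).toEquiv, Nat.card_prod, Nat.card_zpowers, Nat.card_zpowers,
      hoa, hob]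
  have hle : φ.range.map (MulAut.conj g).toMonoidHom ≤ centralizer ({tv' im} : Set G) := by
    rintro _ ⟨_, ⟨⟨⟨x, hx⟩, y, hy⟩, rfl⟩, rfl⟩
    rw [mem_centralizer_singleton_iff]
    have hc : Commute (x * y) (uv im) := by
      obtain ⟨i, rfl⟩ := mem_zpowers_iff.1 hx
      obtain ⟨j, rfl⟩ := mem_zpowers_iff.1 hy
      exact (hau.zpow_left i).mul_left (hbu.zpow_left j)
    show g * (x * y) * g⁻¹ * tv' im = tv' im * (g * (x * y) * g⁻¹)
    rw [← hg]
    calc g * (x * y) * g⁻¹ * (g * uv im * g⁻¹) = g * (x * y * uv im) * g⁻¹ := by group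
      _ = _ := by rw [hc.eq]; group
  have hd := Subgroup.card_dvd_of_le hle
  rw [Subgroup.card_map_of_injective (MulAut.conj g).injective, h9, show Nat.card (centralizer ({tv' im} : Set G)) = 7680 from F.card_t] at hd
  norm_num at hd

theorem type_true [Finite G] {i : ℕ} (hi : i < 7680) (g : G) (hg : g * el im i * g⁻¹ = tv' im) :
    typeI i = some true := by
  have h1 : el im i ≠ 1 := fun e => F.t_ne (by rw [← hg, e]; group)
  have h2 : el im i * el im i = 1 := by
    have e : el im i = g⁻¹ * tv' im * g := by rw [← hg]; group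
    rw [e]
    calc g⁻¹ * tv' im * g * (g⁻¹ * tv' im * g) = g⁻¹ * (tv' im * tv' im) * g := by group
      _ = 1 := by rw [F.t_sq]; group
  obtain ⟨q, hq, y, -, hy⟩ := F.invol_type hi h2 h1
  cases q
  · exfalso
    refine F.not_fused (g * y⁻¹) ?_
    rw [← hg, show uv im = y * el im i * y⁻¹ from hy.symm]
    group
  · exact hq

theorem type_false [Finite G] {i : ℕ} (hi : i < 7680) (h : typeI i = some false) (g : G) :
    g * el im i * g⁻¹ ≠ tv' im := fun hg => by
  have := F.type_true hi g hg
  rw [h] at this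
  simp at this

end Faith

/-- An element of exponent two is conjugate into a maximal two-subgroup. -/
theorem conj_into [Finite G] {P L : Subgroup G} (hPL : P ≤ L) (hP : IsPGroup 2 P)
    (hmax : ∀ Q : Subgroup G, Q ≤ L → P ≤ Q → IsPGroup 2 Q → Q = P) {x : G} (hx : x ∈ L) (hx2 : x * x = 1) :
    ∃ l ∈ L, l * x * l⁻¹ ∈ P := by
  haveI : Fact (Nat.Prime 2) := ⟨Nat.prime_two⟩
  obtain ⟨S, hS⟩ := (hP.of_equiv (Subgroup.subgroupOfEquivOfLe hPL).symm).exists_le_sylow
  have hmap : (S : Subgroup L).map L.subtype = P := by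
    refine hmax _ (Subgroup.map_subtype_le _) ?_ (S.isPGroup'.map L.subtype)
    intro p hp
    exact ⟨⟨p, hPL hp⟩, hS (Subgroup.mem_subgroupOf.2 hp), rfl⟩
  have hz : IsPGroup 2 (zpowers (⟨x, hx⟩ : L)) := by
    refine IsPGroup.of_card (n := (Nat.card (zpowers (⟨x, hx⟩ : L))).log 2) ?_
    rw [Nat.card_zpowers]
    have hd := orderOf_dvd_of_pow_eq_one (show (⟨x, hx⟩ : L) ^ 2 = 1 from Subtype.ext (by simpa [pow_two] using hx2))
    rcases (Nat.dvd_prime Nat.prime_two).1 hd with e | e <;> rw [e] <;> rfl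
  obtain ⟨T, hT⟩ := hz.exists_le_sylow
  obtain ⟨l, hl⟩ := MulAction.exists_smul_eq L T S
  refine ⟨l, l.2, ?_⟩
  rw [← hmap]
  refine ⟨l * ⟨x, hx⟩ * l⁻¹, ?_, rfl⟩
  rw [← hl, Sylow.coe_subgroup_smul]
  exact ⟨⟨x, hx⟩, hT (mem_zpowers _), rfl⟩

namespace Faith

variable (F : Faith im)
include F

/-- Every involution of the group of the letters is conjugate in it to one of the two. -/
theorem invol_Y [Finite G] {x : G} (hx : x ∈ gY im) (hx2 : x * x = 1) (hx1 : x ≠ 1) :
    ∃ y ∈ gY im, y * x * y⁻¹ = tv' im ∨ y * x * y⁻¹ = uv im := by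
  classical
  haveI : Fact (Nat.Prime 2) := ⟨Nat.prime_two⟩
  set H := centralizer ({tv' im} : Set G)
  have hH : Nat.card H = 7680 := F.card_t
  obtain ⟨S0, hS0⟩ := Sylow.exists_subgroup_card_pow_prime 2 (G := H) (n := 9) (by rw [hH]; norm_num)
  set S := S0.map H.subtype
  have hScard : Nat.card S = 2 ^ 9 := by rw [Subgroup.card_map_of_injective H.subtype_injective, hS0]
  have hHY : ∀ g ∈ H, g ∈ gY im := fun g hg => F.cent_le (mem_centralizer_singleton_iff.1 hg)
  have hSY : S ≤ gY im := by rintro _ ⟨g, -, rfl⟩; exact hHY _ g.2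
  have hmax : ∀ Q : Subgroup G, Q ≤ gY im → S ≤ Q → IsPGroup 2 Q → Q = S := by
    intro Q hQ hSQ hQ2
    obtain ⟨n, hn⟩ := hQ2.exists_card_eq
    have hd := Subgroup.card_dvd_of_le hQ
    rw [hn, show Nat.card (gY im) = 44352000 from F.card_Y] at hd
    have hn9 : n ≤ 9 := by
      by_contra h
      have := (pow_dvd_pow 2 (by omega : 10 ≤ n)).trans hd
      norm_num at this
    refine (Subgroup.eq_of_le_of_card_ge hSQ ?_).symm
    rw [hn, hScard]
    exact Nat.pow_le_pow_right (by norm_num) hn9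
  obtain ⟨l, hl, hlS⟩ := conj_into hSY (IsPGroup.of_card hScard) hmax hx hx2
  obtain ⟨g, -, hg⟩ := hlS
  have hg' : (g : G) = l * x * l⁻¹ := hg
  obtain ⟨i, hi, hgi⟩ := F.cent g (mem_centralizer_singleton_iff.1 g.2)
  rw [hg'] at hgi
  have h2 : el im i * el im i = 1 := by
    rw [← hgi]
    calc l * x * l⁻¹ * (l * x * l⁻¹) = l * (x * x) * l⁻¹ := by group
      _ = 1 := by rw [hx2]; group
  have h1 : el im i ≠ 1 := fun e => hx1 (conj_eq_one_iff.1 (hgi.trans e))
  obtain ⟨q, -, y, hy, hyi⟩ := F.invol_type hi h2 h1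
  refine ⟨y * l, mul_mem hy hl, ?_⟩
  have e : y * l * x * (y * l)⁻¹ = y * el im i * y⁻¹ := by rw [← hgi]; group
  rw [e, hyi]
  cases q
  · exact Or.inr rfl
  · exact Or.inl rfl

/-- The centralizer of a conjugate of the first involution lies in the group of the letters. -/
theorem cent_conj {x y : G} (hy : y ∈ gY im) (hxy : y * x * y⁻¹ = tv' im) {g : G} (hg : g * x = x * g) :
    g ∈ gY im := by
  have h : y * g * y⁻¹ ∈ gY im := F.cent_le (by
    rw [← hxy]
    calc y * g * y⁻¹ * (y * x * y⁻¹) = y * (g * x) * y⁻¹ := by group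
      _ = _ := by rw [hg]; group)
  have := mul_mem (mul_mem (inv_mem hy) h) hy
  simpa [mul_assoc] using this

theorem b_conj : ∃ y ∈ gY im, y * bv im * y⁻¹ = tv' im := by
  obtain ⟨-, -, -, -, -, hb, he, -⟩ := small_facts
  refine ⟨wvx im hbW, gY_word (all_lt hb), ?_⟩
  have e := F.app (app11 (app11 (all_lt hb) bW11) (winv_lt (all_lt hb))) t11 he
  rw [wvx_append, wvx_append, F.sat.winv_val _ (all_lt hb)] at e
  exact e

end Faith

end Cfsg.Lib.HSLocal
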