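import Cfsg.Agent.HSLocal.DataG
import Cfsg.Agent.HSLocal.Closed

/-! Checks of the long log: a block of facts. -/

set_option autoImplicit false
set_option maxRecDepth 40000
set_option Elab.async false

namespace Cfsg.Lib.HSLocal.CertG

open Cfsg.Lib.M12Cent (Log)

theorem ok_0 : log.factsOK 0 250 = true := by decide +kernel

theorem ok_250 : log.factsOK 250 250 = true := by decide +kernel

theorem ok_500 : log.factsOK 500 250 = true := by decide +kernel

theorem ok_750 : log.factsOK 750 250 = true := by decide +kernel

theorem ok_1000 : log.factsOK 1000 250 = true := by decide +kernel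

theorem ok_1250 : log.factsOK 1250 250 = true := by decide +kernel

theorem ok_1500 : log.factsOK 1500 250 = true := by decide +kernel

theorem ok_1750 : log.factsOK 1750 250 = true := by decide +kernel

theorem ok_2000 : log.factsOK 2000 250 = true := by decide +kernel

theorem ok_2250 : log.factsOK 2250 250 = true := by decide +kernel

theorem ok_2500 : log.factsOK 2500 250 = true := by decide +kernel

theorem ok_2750 : log.factsOK 2750 250 = true := by decide +kernel

theorem ok_3000 : log.factsOK 3000 250 = true := by decide +kernel

theorem ok_3250 : log.factsOK 3250 250 = true := by decide +kernel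

theorem ok_3500 : log.factsOK 3500 250 = true := by decide +kernel

theorem ok_3750 : log.factsOK 3750 250 = true := by decide +kernel

theorem ok_4000 : log.factsOK 4000 201 = true := by decide +kernel

theorem part0 : log.factsOK 0 4201 = true := by
  have h0 : log.factsOK 0 250 = true := ok_0
  have h1 : log.factsOK 0 500 = true := cat3 h0 ok_250 (by norm_num) (by norm_num)
  have h2 : log.factsOK 0 750 = true := cat3 h1 ok_500 (by norm_num) (by norm_num)
  have h3 : log.factsOK 0 1000 = true := cat3 h2 ok_750 (by norm_num) (by norm_num)
  have h4 : log.factsOK 0 1250 = true := cat3 h3 ok_1000 (by norm_num) (by norm_num)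
  have h5 : log.factsOK 0 1500 = true := cat3 h4 ok_1250 (by norm_num) (by norm_num)
  have h6 : log.factsOK 0 1750 = true := cat3 h5 ok_1500 (by norm_num) (by norm_num)
  have h7 : log.factsOK 0 2000 = true := cat3 h6 ok_1750 (by norm_num) (by norm_num)
  have h8 : log.factsOK 0 2250 = true := cat3 h7 ok_2000 (by norm_num) (by norm_num)
  have h9 : log.factsOK 0 2500 = true := cat3 h8 ok_2250 (by norm_num) (by norm_num)
  have h10 : log.factsOK 0 2750 = true := cat3 h9 ok_2500 (by norm_num) (by norm_num)
  have h11 : log.factsOK 0 3000 = true := cat3 h10 ok_2750 (by norm_num) (by norm_num)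
  have h12 : log.factsOK 0 3250 = true := cat3 h11 ok_3000 (by norm_num) (by norm_num)
  have h13 : log.factsOK 0 3500 = true := cat3 h12 ok_3250 (by norm_num) (by norm_num)
  have h14 : log.factsOK 0 3750 = true := cat3 h13 ok_3500 (by norm_num) (by norm_num)
  have h15 : log.factsOK 0 4000 = true := cat3 h14 ok_3750 (by norm_num) (by norm_num)
  have h16 : log.factsOK 0 4201 = true := cat3 h15 ok_4000 (by norm_num) (by norm_num)
  exact h16

end Cfsg.Lib.HSLocal.CertG
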