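import Cfsg.Agent.HSLocal.DataG
import Cfsg.Agent.HSLocal.Closed

/-! Checks of the long log: a block of facts. -/

set_option autoImplicit false
set_option maxRecDepth 40000
set_option Elab.async false

namespace Cfsg.Lib.HSLocal.CertG

open Cfsg.Lib.M12Cent (Log)

theorem ok_4201 : log.factsOK 4201 250 = true := by decide +kernel

theorem ok_4451 : log.factsOK 4451 250 = true := by decide +kernel

theorem ok_4701 : log.factsOK 4701 250 = true := by decide +kernel

theorem ok_4951 : log.factsOK 4951 250 = true := by decide +kernel

theorem ok_5201 : log.factsOK 5201 250 = true := by decide +kernel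

theorem ok_5451 : log.factsOK 5451 250 = true := by decide +kernel

theorem ok_5701 : log.factsOK 5701 250 = true := by decide +kernel

theorem ok_5951 : log.factsOK 5951 250 = true := by decide +kernel

theorem ok_6201 : log.factsOK 6201 250 = true := by decide +kernel

theorem ok_6451 : log.factsOK 6451 250 = true := by decide +kernel

theorem ok_6701 : log.factsOK 6701 250 = true := by decide +kernel

theorem ok_6951 : log.factsOK 6951 250 = true := by decide +kernel

theorem ok_7201 : log.factsOK 7201 250 = true := by decide +kernel

theorem ok_7451 : log.factsOK 7451 250 = true := by decide +kernel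

theorem ok_7701 : log.factsOK 7701 250 = true := by decide +kernel

theorem ok_7951 : log.factsOK 7951 250 = true := by decide +kernel

theorem ok_8201 : log.factsOK 8201 201 = true := by decide +kernel

theorem part1 : log.factsOK 4201 4201 = true := by
  have h0 : log.factsOK 4201 250 = true := ok_4201
  have h1 : log.factsOK 4201 500 = true := cat3 h0 ok_4451 (by norm_num) (by norm_num)
  have h2 : log.factsOK 4201 750 = true := cat3 h1 ok_4701 (by norm_num) (by norm_num)
  have h3 : log.factsOK 4201 1000 = true := cat3 h2 ok_4951 (by norm_num) (by norm_num)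
  have h4 : log.factsOK 4201 1250 = true := cat3 h3 ok_5201 (by norm_num) (by norm_num)
  have h5 : log.factsOK 4201 1500 = true := cat3 h4 ok_5451 (by norm_num) (by norm_num)
  have h6 : log.factsOK 4201 1750 = true := cat3 h5 ok_5701 (by norm_num) (by norm_num)
  have h7 : log.factsOK 4201 2000 = true := cat3 h6 ok_5951 (by norm_num) (by norm_num)
  have h8 : log.factsOK 4201 2250 = true := cat3 h7 ok_6201 (by norm_num) (by norm_num)
  have h9 : log.factsOK 4201 2500 = true := cat3 h8 ok_6451 (by norm_num) (by norm_num)
  have h10 : log.factsOK 4201 2750 = true := cat3 h9 ok_6701 (by norm_num) (by norm_num)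
  have h11 : log.factsOK 4201 3000 = true := cat3 h10 ok_6951 (by norm_num) (by norm_num)
  have h12 : log.factsOK 4201 3250 = true := cat3 h11 ok_7201 (by norm_num) (by norm_num)
  have h13 : log.factsOK 4201 3500 = true := cat3 h12 ok_7451 (by norm_num) (by norm_num)
  have h14 : log.factsOK 4201 3750 = true := cat3 h13 ok_7701 (by norm_num) (by norm_num)
  have h15 : log.factsOK 4201 4000 = true := cat3 h14 ok_7951 (by norm_num) (by norm_num)
  have h16 : log.factsOK 4201 4201 = true := cat3 h15 ok_8201 (by norm_num) (by norm_num)
  exact h16

end Cfsg.Lib.HSLocal.CertG
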