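import Cfsg.Agent.HSLocal.DataG
import Cfsg.Agent.HSLocal.Closed

/-! Checks of the long log: a block of facts. -/

set_option autoImplicit false
set_option maxRecDepth 40000
set_option Elab.async false

namespace Cfsg.Lib.HSLocal.CertG

open Cfsg.Lib.M12Cent (Log)

theorem ok_8402 : log.factsOK 8402 250 = true := by decide +kernel

theorem ok_8652 : log.factsOK 8652 250 = true := by decide +kernel

theorem ok_8902 : log.factsOK 8902 250 = true := by decide +kernel

theorem ok_9152 : log.factsOK 9152 250 = true := by decide +kernel

theorem ok_9402 : log.factsOK 9402 250 = true := by decide +kernel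

theorem ok_9652 : log.factsOK 9652 250 = true := by decide +kernel

theorem ok_9902 : log.factsOK 9902 250 = true := by decide +kernel

theorem ok_10152 : log.factsOK 10152 250 = true := by decide +kernel

theorem ok_10402 : log.factsOK 10402 250 = true := by decide +kernel

theorem ok_10652 : log.factsOK 10652 250 = true := by decide +kernel

theorem ok_10902 : log.factsOK 10902 250 = true := by decide +kernel

theorem ok_11152 : log.factsOK 11152 250 = true := by decide +kernel

theorem ok_11402 : log.factsOK 11402 250 = true := by decide +kernel

theorem ok_11652 : log.factsOK 11652 250 = true := by decide +kernel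

theorem ok_11902 : log.factsOK 11902 250 = true := by decide +kernel

theorem ok_12152 : log.factsOK 12152 250 = true := by decide +kernel

theorem ok_12402 : log.factsOK 12402 201 = true := by decide +kernel

theorem part2 : log.factsOK 8402 4201 = true := by
  have h0 : log.factsOK 8402 250 = true := ok_8402
  have h1 : log.factsOK 8402 500 = true := cat3 h0 ok_8652 (by norm_num) (by norm_num)
  have h2 : log.factsOK 8402 750 = true := cat3 h1 ok_8902 (by norm_num) (by norm_num)
  have h3 : log.factsOK 8402 1000 = true := cat3 h2 ok_9152 (by norm_num) (by norm_num)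
  have h4 : log.factsOK 8402 1250 = true := cat3 h3 ok_9402 (by norm_num) (by norm_num)
  have h5 : log.factsOK 8402 1500 = true := cat3 h4 ok_9652 (by norm_num) (by norm_num)
  have h6 : log.factsOK 8402 1750 = true := cat3 h5 ok_9902 (by norm_num) (by norm_num)
  have h7 : log.factsOK 8402 2000 = true := cat3 h6 ok_10152 (by norm_num) (by norm_num)
  have h8 : log.factsOK 8402 2250 = true := cat3 h7 ok_10402 (by norm_num) (by norm_num)
  have h9 : log.factsOK 8402 2500 = true := cat3 h8 ok_10652 (by norm_num) (by norm_num)
  have h10 : log.factsOK 8402 2750 = true := cat3 h9 ok_10902 (by norm_num) (by norm_num)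
  have h11 : log.factsOK 8402 3000 = true := cat3 h10 ok_11152 (by norm_num) (by norm_num)
  have h12 : log.factsOK 8402 3250 = true := cat3 h11 ok_11402 (by norm_num) (by norm_num)
  have h13 : log.factsOK 8402 3500 = true := cat3 h12 ok_11652 (by norm_num) (by norm_num)
  have h14 : log.factsOK 8402 3750 = true := cat3 h13 ok_11902 (by norm_num) (by norm_num)
  have h15 : log.factsOK 8402 4000 = true := cat3 h14 ok_12152 (by norm_num) (by norm_num)
  have h16 : log.factsOK 8402 4201 = true := cat3 h15 ok_12402 (by norm_num) (by norm_num)
  exact h16

end Cfsg.Lib.HSLocal.CertG
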