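import Cfsg.Agent.HSLocal.DataG
import Cfsg.Agent.HSLocal.Closed

/-! Checks of the long log: a block of facts. -/

set_option autoImplicit false
set_option maxRecDepth 40000
set_option Elab.async false

namespace Cfsg.Lib.HSLocal.CertG

open Cfsg.Lib.M12Cent (Log)

theorem ok_12603 : log.factsOK 12603 250 = true := by decide +kernel

theorem ok_12853 : log.factsOK 12853 250 = true := by decide +kernel

theorem ok_13103 : log.factsOK 13103 250 = true := by decide +kernel

theorem ok_13353 : log.factsOK 13353 250 = true := by decide +kernel

theorem ok_13603 : log.factsOK 13603 250 = true := by decide +kernel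

theorem ok_13853 : log.factsOK 13853 250 = true := by decide +kernel

theorem ok_14103 : log.factsOK 14103 250 = true := by decide +kernel

theorem ok_14353 : log.factsOK 14353 250 = true := by decide +kernel

theorem ok_14603 : log.factsOK 14603 250 = true := by decide +kernel

theorem ok_14853 : log.factsOK 14853 250 = true := by decide +kernel

theorem ok_15103 : log.factsOK 15103 250 = true := by decide +kernel

theorem ok_15353 : log.factsOK 15353 250 = true := by decide +kernel

theorem ok_15603 : log.factsOK 15603 250 = true := by decide +kernel

theorem ok_15853 : log.factsOK 15853 250 = true := by decide +kernel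

theorem ok_16103 : log.factsOK 16103 250 = true := by decide +kernel

theorem ok_16353 : log.factsOK 16353 250 = true := by decide +kernel

theorem ok_16603 : log.factsOK 16603 201 = true := by decide +kernel

theorem part3 : log.factsOK 12603 4201 = true := by
  have h0 : log.factsOK 12603 250 = true := ok_12603
  have h1 : log.factsOK 12603 500 = true := cat3 h0 ok_12853 (by norm_num) (by norm_num)
  have h2 : log.factsOK 12603 750 = true := cat3 h1 ok_13103 (by norm_num) (by norm_num)
  have h3 : log.factsOK 12603 1000 = true := cat3 h2 ok_13353 (by norm_num) (by norm_num)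
  have h4 : log.factsOK 12603 1250 = true := cat3 h3 ok_13603 (by norm_num) (by norm_num)
  have h5 : log.factsOK 12603 1500 = true := cat3 h4 ok_13853 (by norm_num) (by norm_num)
  have h6 : log.factsOK 12603 1750 = true := cat3 h5 ok_14103 (by norm_num) (by norm_num)
  have h7 : log.factsOK 12603 2000 = true := cat3 h6 ok_14353 (by norm_num) (by norm_num)
  have h8 : log.factsOK 12603 2250 = true := cat3 h7 ok_14603 (by norm_num) (by norm_num)
  have h9 : log.factsOK 12603 2500 = true := cat3 h8 ok_14853 (by norm_num) (by norm_num)
  have h10 : log.factsOK 12603 2750 = true := cat3 h9 ok_15103 (by norm_num) (by norm_num)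
  have h11 : log.factsOK 12603 3000 = true := cat3 h10 ok_15353 (by norm_num) (by norm_num)
  have h12 : log.factsOK 12603 3250 = true := cat3 h11 ok_15603 (by norm_num) (by norm_num)
  have h13 : log.factsOK 12603 3500 = true := cat3 h12 ok_15853 (by norm_num) (by norm_num)
  have h14 : log.factsOK 12603 3750 = true := cat3 h13 ok_16103 (by norm_num) (by norm_num)
  have h15 : log.factsOK 12603 4000 = true := cat3 h14 ok_16353 (by norm_num) (by norm_num)
  have h16 : log.factsOK 12603 4201 = true := cat3 h15 ok_16603 (by norm_num) (by norm_num)
  exact h16

end Cfsg.Lib.HSLocal.CertG
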