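import Cfsg.Agent.HSLocal.DataG
import Cfsg.Agent.HSLocal.Closed

/-! Checks of the long log: a block of facts. -/

set_option autoImplicit false
set_option maxRecDepth 40000
set_option Elab.async false

namespace Cfsg.Lib.HSLocal.CertG

open Cfsg.Lib.M12Cent (Log)

theorem ok_16804 : log.factsOK 16804 250 = true := by decide +kernel

theorem ok_17054 : log.factsOK 17054 250 = true := by decide +kernel

theorem ok_17304 : log.factsOK 17304 250 = true := by decide +kernel

theorem ok_17554 : log.factsOK 17554 250 = true := by decide +kernel

theorem ok_17804 : log.factsOK 17804 250 = true := by decide +kernel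

theorem ok_18054 : log.factsOK 18054 250 = true := by decide +kernel

theorem ok_18304 : log.factsOK 18304 250 = true := by decide +kernel

theorem ok_18554 : log.factsOK 18554 250 = true := by decide +kernel

theorem ok_18804 : log.factsOK 18804 250 = true := by decide +kernel

theorem ok_19054 : log.factsOK 19054 250 = true := by decide +kernel

theorem ok_19304 : log.factsOK 19304 250 = true := by decide +kernel

theorem ok_19554 : log.factsOK 19554 250 = true := by decide +kernel

theorem ok_19804 : log.factsOK 19804 250 = true := by decide +kernel

theorem ok_20054 : log.factsOK 20054 250 = true := by decide +kernel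

theorem ok_20304 : log.factsOK 20304 250 = true := by decide +kernel

theorem ok_20554 : log.factsOK 20554 250 = true := by decide +kernel

theorem ok_20804 : log.factsOK 20804 201 = true := by decide +kernel

theorem part4 : log.factsOK 16804 4201 = true := by
  have h0 : log.factsOK 16804 250 = true := ok_16804
  have h1 : log.factsOK 16804 500 = true := cat3 h0 ok_17054 (by norm_num) (by norm_num)
  have h2 : log.factsOK 16804 750 = true := cat3 h1 ok_17304 (by norm_num) (by norm_num)
  have h3 : log.factsOK 16804 1000 = true := cat3 h2 ok_17554 (by norm_num) (by norm_num)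
  have h4 : log.factsOK 16804 1250 = true := cat3 h3 ok_17804 (by norm_num) (by norm_num)
  have h5 : log.factsOK 16804 1500 = true := cat3 h4 ok_18054 (by norm_num) (by norm_num)
  have h6 : log.factsOK 16804 1750 = true := cat3 h5 ok_18304 (by norm_num) (by norm_num)
  have h7 : log.factsOK 16804 2000 = true := cat3 h6 ok_18554 (by norm_num) (by norm_num)
  have h8 : log.factsOK 16804 2250 = true := cat3 h7 ok_18804 (by norm_num) (by norm_num)
  have h9 : log.factsOK 16804 2500 = true := cat3 h8 ok_19054 (by norm_num) (by norm_num)
  have h10 : log.factsOK 16804 2750 = true := cat3 h9 ok_19304 (by norm_num) (by norm_num)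
  have h11 : log.factsOK 16804 3000 = true := cat3 h10 ok_19554 (by norm_num) (by norm_num)
  have h12 : log.factsOK 16804 3250 = true := cat3 h11 ok_19804 (by norm_num) (by norm_num)
  have h13 : log.factsOK 16804 3500 = true := cat3 h12 ok_20054 (by norm_num) (by norm_num)
  have h14 : log.factsOK 16804 3750 = true := cat3 h13 ok_20304 (by norm_num) (by norm_num)
  have h15 : log.factsOK 16804 4000 = true := cat3 h14 ok_20554 (by norm_num) (by norm_num)
  have h16 : log.factsOK 16804 4201 = true := cat3 h15 ok_20804 (by norm_num) (by norm_num)
  exact h16

end Cfsg.Lib.HSLocal.CertG
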