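import Cfsg.Agent.HSLocal.DataG
import Cfsg.Agent.HSLocal.Closed

/-! Checks of the long log: a block of facts. -/

set_option autoImplicit false
set_option maxRecDepth 40000
set_option Elab.async false

namespace Cfsg.Lib.HSLocal.CertG

open Cfsg.Lib.M12Cent (Log)

theorem ok_21005 : log.factsOK 21005 250 = true := by decide +kernel

theorem ok_21255 : log.factsOK 21255 250 = true := by decide +kernel

theorem ok_21505 : log.factsOK 21505 250 = true := by decide +kernel

theorem ok_21755 : log.factsOK 21755 250 = true := by decide +kernel

theorem ok_22005 : log.factsOK 22005 250 = true := by decide +kernel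

theorem ok_22255 : log.factsOK 22255 250 = true := by decide +kernel

theorem ok_22505 : log.factsOK 22505 250 = true := by decide +kernel

theorem ok_22755 : log.factsOK 22755 250 = true := by decide +kernel

theorem ok_23005 : log.factsOK 23005 250 = true := by decide +kernel

theorem ok_23255 : log.factsOK 23255 250 = true := by decide +kernel

theorem ok_23505 : log.factsOK 23505 250 = true := by decide +kernel

theorem ok_23755 : log.factsOK 23755 250 = true := by decide +kernel

theorem ok_24005 : log.factsOK 24005 250 = true := by decide +kernel

theorem ok_24255 : log.factsOK 24255 250 = true := by decide +kernel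

theorem ok_24505 : log.factsOK 24505 250 = true := by decide +kernel

theorem ok_24755 : log.factsOK 24755 250 = true := by decide +kernel

theorem ok_25005 : log.factsOK 25005 196 = true := by decide +kernel

theorem part5 : log.factsOK 21005 4196 = true := by
  have h0 : log.factsOK 21005 250 = true := ok_21005
  have h1 : log.factsOK 21005 500 = true := cat3 h0 ok_21255 (by norm_num) (by norm_num)
  have h2 : log.factsOK 21005 750 = true := cat3 h1 ok_21505 (by norm_num) (by norm_num)
  have h3 : log.factsOK 21005 1000 = true := cat3 h2 ok_21755 (by norm_num) (by norm_num)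
  have h4 : log.factsOK 21005 1250 = true := cat3 h3 ok_22005 (by norm_num) (by norm_num)
  have h5 : log.factsOK 21005 1500 = true := cat3 h4 ok_22255 (by norm_num) (by norm_num)
  have h6 : log.factsOK 21005 1750 = true := cat3 h5 ok_22505 (by norm_num) (by norm_num)
  have h7 : log.factsOK 21005 2000 = true := cat3 h6 ok_22755 (by norm_num) (by norm_num)
  have h8 : log.factsOK 21005 2250 = true := cat3 h7 ok_23005 (by norm_num) (by norm_num)
  have h9 : log.factsOK 21005 2500 = true := cat3 h8 ok_23255 (by norm_num) (by norm_num)
  have h10 : log.factsOK 21005 2750 = true := cat3 h9 ok_23505 (by norm_num) (by norm_num)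
  have h11 : log.factsOK 21005 3000 = true := cat3 h10 ok_23755 (by norm_num) (by norm_num)
  have h12 : log.factsOK 21005 3250 = true := cat3 h11 ok_24005 (by norm_num) (by norm_num)
  have h13 : log.factsOK 21005 3500 = true := cat3 h12 ok_24255 (by norm_num) (by norm_num)
  have h14 : log.factsOK 21005 3750 = true := cat3 h13 ok_24505 (by norm_num) (by norm_num)
  have h15 : log.factsOK 21005 4000 = true := cat3 h14 ok_24755 (by norm_num) (by norm_num)
  have h16 : log.factsOK 21005 4196 = true := cat3 h15 ok_25005 (by norm_num) (by norm_num)
  exact h16

end Cfsg.Lib.HSLocal.CertG
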