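import Cfsg.Agent.HSLocal.Closed
import Cfsg.Agent.HSLocal.LongFacts0
import Cfsg.Agent.HSLocal.LongFacts1
import Cfsg.Agent.HSLocal.LongFacts2
import Cfsg.Agent.HSLocal.LongFacts3
import Cfsg.Agent.HSLocal.LongFacts4
import Cfsg.Agent.HSLocal.LongFacts5

/-! The long log is correct and complete. -/

set_option autoImplicit false
set_option maxRecDepth 40000
set_option Elab.async false

namespace Cfsg.Lib.HSLocal.CertG

open Cfsg.Lib.M12Cent (Log)

theorem ok : log.factsOK 0 log.m = true := by
  rw [show log.m = 25201 from rfl]
  have h0 : log.factsOK 0 4201 = true := part0
  have h1 : log.factsOK 0 8402 = true := Log.factsOK_cat0 _ h0 part1 (by norm_num)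
  have h2 : log.factsOK 0 12603 = true := Log.factsOK_cat0 _ h1 part2 (by norm_num)
  have h3 : log.factsOK 0 16804 = true := Log.factsOK_cat0 _ h2 part3 (by norm_num)
  have h4 : log.factsOK 0 21005 = true := Log.factsOK_cat0 _ h3 part4 (by norm_num)
  have h5 : log.factsOK 0 25201 = true := Log.factsOK_cat0 _ h4 part5 (by norm_num)
  exact h5

theorem letters : log.lettersOK = true := by decide +kernel

theorem rows0_ok : rowsOK log mask rows0 = true := by decide +kernel

theorem rows1_ok : rowsOK log mask rows1 = true := by decide +kernel

theorem rows2_ok : rowsOK log mask rows2 = true := by decide +kernel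

theorem rows3_ok : rowsOK log mask rows3 = true := by decide +kernel

theorem rows4_ok : rowsOK log mask rows4 = true := by decide +kernel

theorem rows5_ok : rowsOK log mask rows5 = true := by decide +kernel

theorem rows6_ok : rowsOK log mask rows6 = true := by decide +kernel

theorem rows7_ok : rowsOK log mask rows7 = true := by decide +kernel

theorem rows8_ok : rowsOK log mask rows8 = true := by decide +kernel

theorem rows9_ok : rowsOK log mask rows9 = true := by decide +kernel

theorem rows10_ok : rowsOK log mask rows10 = true := by decide +kernel

theorem rows11_ok : rowsOK log mask rows11 = true := by decide +kernel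

theorem rows12_ok : rowsOK log mask rows12 = true := by decide +kernel

theorem rows13_ok : rowsOK log mask rows13 = true := by decide +kernel

theorem rows14_ok : rowsOK log mask rows14 = true := by decide +kernel

theorem rows15_ok : rowsOK log mask rows15 = true := by decide +kernel

theorem rows16_ok : rowsOK log mask rows16 = true := by decide +kernel

theorem rows17_ok : rowsOK log mask rows17 = true := by decide +kernel

theorem rows18_ok : rowsOK log mask rows18 = true := by decide +kernel

theorem rows19_ok : rowsOK log mask rows19 = true := by decide +kernel

theorem rows20_ok : rowsOK log mask rows20 = true := by decide +kernel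

theorem rows21_ok : rowsOK log mask rows21 = true := by decide +kernel

theorem rows22_ok : rowsOK log mask rows22 = true := by decide +kernel

theorem rows23_ok : rowsOK log mask rows23 = true := by decide +kernel

theorem rows24_ok : rowsOK log mask rows24 = true := by decide +kernel

theorem rows25_ok : rowsOK log mask rows25 = true := by decide +kernel

theorem rows26_ok : rowsOK log mask rows26 = true := by decide +kernel

theorem rows27_ok : rowsOK log mask rows27 = true := by decide +kernel

theorem rows28_ok : rowsOK log mask rows28 = true := by decide +kernel

theorem rows29_ok : rowsOK log mask rows29 = true := by decide +kernel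

theorem rows30_ok : rowsOK log mask rows30 = true := by decide +kernel

theorem rows31_ok : rowsOK log mask rows31 = true := by decide +kernel

theorem rows32_ok : rowsOK log mask rows32 = true := by decide +kernel

theorem table : tableOK log rows mask := by
  refine ⟨rowsOK_append (rowsOK_append (rowsOK_append (rowsOK_append (rowsOK_append (rowsOK_append (rowsOK_append (rowsOK_append (rowsOK_append (rowsOK_append (rowsOK_append (rowsOK_append (rowsOK_append (rowsOK_append (rowsOK_append (rowsOK_append (rowsOK_append (rowsOK_append (rowsOK_append (rowsOK_append (rowsOK_append (rowsOK_append (rowsOK_append (rowsOK_append (rowsOK_append (rowsOK_append (rowsOK_append (rowsOK_append (rowsOK_append (rowsOK_append (rowsOK_append (rowsOK_append (rows0_ok) rows1_ok) rows2_ok) rows3_ok) rows4_ok) rows5_ok) rows6_ok) rows7_ok) rows8_ok) rows9_ok) rows10_ok) rows11_ok) rows12_ok) rows13_ok) rows14_ok) rows15_ok) rows16_ok) rows17_ok) rows18_ok) rows19_ok) rows20_ok) rows21_ok) rows22_ok) rows23_ok) rows24_ok) rows25_ok) rows26_ok) rows27_ok) rows28_ok) rows29_ok) rows30_ok) rows31_ok) rows32_ok, ?_, ?_⟩ <;> decide +kernel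

theorem rows_length : rows.length = 4125 := by decide +kernel

end Cfsg.Lib.HSLocal.CertG
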