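import Cfsg.Agent.HSLocal.Fast

/-!
Checks on the permutations of the eleven letters.
-/

set_option autoImplicit false
set_option maxRecDepth 100000
set_option Elab.async false

namespace Cfsg.Lib.HSLocal

open Cfsg.Lib.CosetCert Cfsg.Lib.PermCert

/-- Two words commute. -/
def commW (v w : List ℕ) : Bool := eqW (v ++ w) (w ++ v)

theorem tabX_valid : tabX.all (valid 100) = true := by decide +kernel

theorem rel_facts : relsG.all (fun r => eqW r []) = true ∧
    ((List.range 11).all fun l => eqW [l, ivL.getD l 0] []) = true := by decide +kernel

theorem translate : ((List.range 11).all fun l =>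
      (toStd.getD l []).all (fun a => Nat.ble 11 a && Nat.blt a 15) && eqW [l] (toStd.getD l [])) = true ∧
    ((List.range 4).all fun l =>
      (toLet.getD l []).all (fun a => Nat.blt a 11) && eqW [11 + l] (toLet.getD l [])) = true := by
  decide +kernel

theorem u_facts : eqW [9] [] = false ∧ eqW fiveW [] = false ∧ eqW [6, 6] [] = false ∧
    eqW (fiveW ++ fiveW ++ fiveW ++ fiveW ++ fiveW) [] = true ∧ fiveW.all (fun l => Nat.blt l 9) = true := by
  decide +kernel

theorem cycle_facts : eqW (gW ++ [6, 6] ++ winv gW) qW = true ∧ eqW (winv gW ++ qW ++ gW) [6, 6] = true ∧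
    eqW (winv gW ++ [6, 6] ++ gW) qW = true ∧
    eqW (eW ++ eW ++ eW) [] = true ∧ eqW eW [] = false ∧ commW eW qW = true ∧
    qW.all (fun l => Nat.blt l 9) = true ∧ eW.all (fun l => Nat.blt l 9) = true := by decide +kernel

theorem hW_low : ((List.range 96).all fun i => (repB.getD i []).all fun l => Nat.blt l 8) = true ∧
    ((List.range 5).all fun i => (repH.getD i []).all fun l => Nat.blt l 9) = true := by decide +kernel

/-- The elements of order three commuting with the word. -/
def threeOK (i : ℕ) : Bool :=
  !(commT i qT) || !(expT 3 i) || oneT i || (List.finRange 8).any fun j => eqW (hW i) (candW j)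

theorem three_all : (List.range 7680).all threeOK = true := by decide +kernel

/-- The listed involutions are all of them. -/
def involOK (i : ℕ) : Bool := !(expT 2 i) || oneT i || invol.any (fun p => p.1 == i)

theorem invol_all : (List.range 7680).all involOK = true := by decide +kernel

/-- A conjugating word is right. -/
def conjOK (p : ℕ × Bool × List ℕ) : Bool :=
  (p.2.2.all fun l => Nat.blt l 11) && eqW (cjW p.2.2 (hW p.1)) (if p.2.1 then [6, 6] else uW) &&
    Nat.blt p.1 7680

theorem invol_conj : invol.all conjOK = true := by decide +kernel

theorem cent_u : (List.range 7680).filter (fun i => commT i uT) = pIdx := by decide +kernel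

theorem cent_ub : ((List.range 7680).filter fun i => commT i ubT).length = 96 := by decide +kernel

theorem small_facts : eqW (uW ++ uW) [] = true ∧ eqW uW [] = false ∧ eqW uW [6, 6] = false ∧
    uW.all (fun l => Nat.blt l 9) = true ∧ bW.all (fun l => Nat.blt l 9) = true ∧
    hbW.all (fun l => Nat.blt l 11) = true ∧ eqW (cjW hbW bW) [6, 6] = true ∧ commW bW uW = true ∧
    f1W.all (fun l => Nat.blt l 11) = true ∧ f2W.all (fun l => Nat.blt l 11) = true ∧
    commW f1W uW = true ∧ commW f2W uW = true ∧ commW f1W f2W = true ∧
    eqW (f1W ++ f1W ++ f1W) [] = true ∧ eqW (f2W ++ f2W ++ f2W) [] = true ∧ eqW f1W [] = false ∧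
    ((List.range 3).all fun k => !(eqW f2W ((List.replicate k f1W).flatten))) = true := by decide +kernel

/-- An element is the product of two others. -/
def prodT (i j k : ℕ) : Bool := (List.range 100).all fun x => hEv j (hEv i x) == hEv k x

/-- An element is another times the second involution. -/
def shiftT (i k : ℕ) : Bool := (List.range 100).all fun x => ap uT (hEv i x) == hEv k x

/-- An element equals a word. -/
def isT (i : ℕ) (w : List ℕ) : Bool := (List.range 100).all fun x => hEv i x == evalW tabX w x

/-- The class of an element. -/
def typeI (i : ℕ) : Option Bool := (invol.find? fun p => p.1 == i).map fun p => p.2.1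

theorem sub_closed : p0Idx.all (fun i => p0Idx.all fun j => p0Idx.any fun k => prodT i j k) = true ∧
    p0Idx.all (fun i => pIdx.contains i) = true ∧ p0Idx.length = 32 ∧ pIdx.length = 64 := by decide +kernel

/-- Both classes of an involution and its shift. -/
def splitOK (i : ℕ) : Bool :=
  !(expT 2 i) || oneT i || isT i uW || pIdx.any fun k => shiftT i k &&
    if p0Idx.contains i then typeI i == some true || typeI k == some true
    else typeI i == some false && typeI k == some false

theorem split_ok : pIdx.all splitOK = true ∧
    p0Idx.any (fun i => isT i uW) = true ∧ p0Idx.any (fun i => isT i [6, 6]) = true ∧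
    p0Idx.any (fun i => isT i bW) = true := by decide +kernel

/-- The involutions of the first class in the subgroup are those listed. -/
theorem pClass_ok : pClass.all (fun p => (p.2.2.all fun l => Nat.blt l 11) && commW p.2.2 uW &&
      eqW (cjW p.2.2 (hW p.1)) (if p.2.1 then [6, 6] else bW)) = true ∧
    p0Idx.all (fun i => !(expT 2 i) || oneT i || typeI i == some false ||
      pClass.any fun p => p.1 == i) = true ∧
    (pClass.filter fun p => p.2.1).length = 5 ∧ (pClass.filter fun p => !p.2.1).length = 6 ∧
    (pClass.map fun p => p.1).Nodup ∧ pClass.all (fun p => p0Idx.contains p.1) = true := by decide +kernel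

theorem central_ok : pIdx.all (fun i => !(expT 2 i) || oneT i || typeI i == some false || isT i [6, 6] ||
    !(pIdx.all fun j => (List.range 100).all fun x => hEv j (hEv i x) == hEv i (hEv j x))) = true := by
  decide +kernel

end Cfsg.Lib.HSLocal
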