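import Cfsg.Agent.HSLocal.Sat
import Cfsg.Agent.HSLocal.Perms
import Cfsg.Agent.HSModel.Outer

/-!
The permutations of the eleven letters generate the Higman-Sims group.
-/

set_option autoImplicit false

namespace Cfsg.Lib.HSLocal

open Cfsg.Lib.CosetCert Cfsg.Lib.PermCert Subgroup
open Cfsg.Lib.HSModel (imH)

/-- The permutation of a letter. -/
def imG (l : ℕ) : Equiv.Perm (Fin 100) := perm 100 (tabX.getD l (0, 0))

theorem tabX_length : tabX.length = 15 := rfl

theorem imG_act : ∀ l < tabX.length, valid 100 (tabX.getD l (0, 0)) = true ∧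
    (MonoidHom.id (Equiv.Perm (Fin 100))) (imG l) = perm 100 (tabX.getD l (0, 0)) := fun l hl => by
  refine ⟨?_, rfl⟩
  rw [List.getD_eq_getElem _ _ hl]
  exact List.all_eq_true.1 tabX_valid _ (List.getElem_mem hl)

theorem wvx_eq_wval (w : List ℕ) : wvx imG w = wval imG w := rfl

theorem all_lt {w : List ℕ} {n : ℕ} (h : (w.all fun l => Nat.blt l n) = true) : ∀ l ∈ w, l < n := fun l hl =>
  Nat.le_of_ble_eq_true (List.all_eq_true.1 h l hl)

theorem evalG {w : List ℕ} (hw : ∀ l ∈ w, l < 15) (x : Fin 100) :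
    (((wvx imG w)⁻¹ x : Fin 100) : ℕ) = evalW tabX w x :=
  evalW_apply imG (MonoidHom.id _) tabX imG_act w (fun l hl => hw l hl) x

theorem eval_lt {w : List ℕ} (hw : ∀ l ∈ w, l < 15) {x : ℕ} (hx : x < 100) : evalW tabX w x < 100 := by
  rw [← evalG hw ⟨x, hx⟩]; exact Fin.isLt _

theorem eqW_iff {v w : List ℕ} (hv : ∀ l ∈ v, l < 15) (hw : ∀ l ∈ w, l < 15) :
    eqW v w = true ↔ wvx imG v = wvx imG w := by
  simp only [eqW, Bool.and_eq_true, List.all_eq_true, List.mem_range, beq_iff_eq]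
  constructor
  · rintro ⟨-, h⟩
    exact inv_injective (Equiv.ext fun x => Fin.ext (by rw [evalG hv, evalG hw, h x.val x.isLt]))
  · intro h
    exact ⟨⟨fun l hl => Nat.ble_eq_true_of_le (hv l hl), fun l hl => Nat.ble_eq_true_of_le (hw l hl)⟩,
      fun x hx => by rw [← evalG hv ⟨x, hx⟩, h, evalG hw ⟨x, hx⟩]⟩

theorem eqW_sound {v w : List ℕ} (h : eqW v w = true) : wvx imG v = wvx imG w := by
  have h' := h
  simp only [eqW, Bool.and_eq_true] at h'
  exact (eqW_iff (all_lt h'.1.1) (all_lt h'.1.2)).1 h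

theorem eqW_false {v w : List ℕ} (hv : ∀ l ∈ v, l < 15) (hw : ∀ l ∈ w, l < 15) (h : eqW v w = false) :
    wvx imG v ≠ wvx imG w := fun e => by rw [(eqW_iff hv hw).2 e] at h; exact Bool.noConfusion h

theorem rels_lt : ∀ r ∈ relsG, ∀ l ∈ r, l < 11 := by decide +kernel

theorem sat_imG : Sat imG relsG := by
  refine ⟨fun l hl => ?_, fun r hr => ?_⟩
  · have h := eqW_sound (List.all_eq_true.1 rel_facts.2 l (List.mem_range.2 hl))
    rw [wvx_cons, wvx_cons, wvx_nil, mul_one] at h
    exact eq_inv_of_mul_eq_one_right h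
  · exact eqW_sound (List.all_eq_true.1 rel_facts.1 r hr)

/-- The group of the letters. -/
def grpG : Subgroup (Equiv.Perm (Fin 100)) := closure (imG '' Set.Iio 11)

theorem imG_mem {l : ℕ} (hl : l < 11) : imG l ∈ grpG := subset_closure ⟨l, hl, rfl⟩

theorem wvx_mem {w : List ℕ} (hw : ∀ l ∈ w, l < 11) : wvx imG w ∈ grpG :=
  grpG.list_prod_mem fun g hg => by
    obtain ⟨l, hl, rfl⟩ := List.mem_map.1 hg
    exact imG_mem (hw l hl)

theorem tables_std : ∀ l : Fin 4, tabX.getD (11 + l.val) (0, 0) = HSModel.xTabs.getD l.val (0, 0) := by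
  decide +kernel

theorem imG_std {l : ℕ} (hl : l < 4) : imG (11 + l) = imH l := by
  rw [imG, HSModel.imH, tables_std ⟨l, hl⟩]

theorem grpG_eq : grpG = HSModel.grp := by
  apply le_antisymm
  · rw [grpG, closure_le]
    rintro _ ⟨l, hl, rfl⟩
    have h := List.all_eq_true.1 translate.1 l (List.mem_range.2 hl)
    simp only [Bool.and_eq_true, List.all_eq_true] at h
    have e := eqW_sound h.2
    rw [wvx_cons, wvx_nil, mul_one] at e
    rw [e]
    refine Subgroup.list_prod_mem _ fun g hg => ?_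
    obtain ⟨a, ha, rfl⟩ := List.mem_map.1 hg
    have h1 := h.1 a ha
    have ha1 : 11 ≤ a := Nat.le_of_ble_eq_true h1.1
    have ha2 : a < 15 := Nat.le_of_ble_eq_true h1.2
    rw [show a = 11 + (a - 11) by omega, imG_std (by omega)]
    exact HSModel.imH_grp (by omega)
  · rw [← HSModel.closure_eq, closure_le]
    rintro _ ⟨l, hl, rfl⟩
    have h := List.all_eq_true.1 translate.2 l (List.mem_range.2 hl)
    simp only [Bool.and_eq_true] at h
    have e := eqW_sound h.2
    rw [wvx_cons, wvx_nil, mul_one, imG_std hl] at e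
    rw [e]
    exact wvx_mem (all_lt h.1)

theorem card_grpG : Nat.card grpG = 44352000 := by rw [grpG_eq]; exact HSModel.card_grp

theorem exists_spor : Nonempty (↥Cfsg.Spor.HS ≃* ↥grpG) := by
  obtain ⟨e⟩ := HSModel.exists_equiv
  exact ⟨e.trans (MulEquiv.subgroupCongr grpG_eq.symm)⟩

theorem simple_grpG : IsSimpleGroup grpG := by
  obtain ⟨e⟩ := exists_spor
  haveI : IsSimpleGroup Cfsg.Lib.Leech.HSGraph.hsGrp := Cfsg.Lib.Leech.HSGraph.hsGrp_isHS.1
  exact MulEquiv.isSimpleGroup ((HSModel.sporEquiv.symm.trans e).symm)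

end Cfsg.Lib.HSLocal
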