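import Cfsg.Agent.HSLocal.Bounds
import Cfsg.Agent.HSLocal.LongFacts
import Cfsg.Agent.HSLocal.Model

/-!
The relators present the Higman-Sims group, and those of the two local subgroups present these subgroups.
-/

set_option autoImplicit false

namespace Cfsg.Lib.HSLocal

open Subgroup

variable {X : Type*} [Group X] {im : ℕ → X}

/-- The letters of the centralizer, the others trivial. -/
def imH9 (im : ℕ → X) (l : ℕ) : X := if l < 9 then im l else 1

/-- The letters of the normalizer, the further one trivial. -/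
def imM (im : ℕ → X) (l : ℕ) : X := if l = 8 then 1 else im l

theorem parts : relsH.all (fun r => relsG.contains r) = true ∧
    (relsB ++ relsU (alW 0)).all (fun r => relsG.contains r) = true ∧
    relsH.all (fun r => r.all fun l => Nat.blt l 9) = true ∧
    (∀ j, (relsB ++ relsU (alW j)).all (fun r => r.all fun l => Nat.blt l 11 && !(l == 8)) = true) := by
  decide +kernel

theorem iv_nine : ∀ l : Fin 11, (l.val < 9 ↔ ivL.getD l.val 0 < 9) ∧ (l.val = 8 ↔ ivL.getD l.val 0 = 8) := by decide

theorem sat_H9 (h : Sat im relsH) : Sat (imH9 im) (relsH ++ [[9], [10]]) := by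
  refine ⟨fun l hl => ?_, fun r hr => ?_⟩
  · have h1 := (iv_nine ⟨l, hl⟩).1
    simp only at h1
    rw [imH9, imH9]
    by_cases h9 : l < 9
    · rw [if_pos h9, if_pos (h1.1 h9), h.iv l hl]
    · rw [if_neg h9, if_neg (fun e => h9 (h1.2 e)), inv_one]
  · rcases List.mem_append.1 hr with hr | hr
    · rw [← h.rel r hr]
      refine wvx_congr fun l hl => ?_
      rw [imH9, if_pos (show l < 9 from Nat.le_of_ble_eq_true (List.all_eq_true.1 (List.all_eq_true.1 parts.2.2.1 r hr) l hl))]
    · simp only [List.mem_cons, List.not_mem_nil, or_false] at hr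
      rcases hr with rfl | rfl <;> simp [wvx, imH9]

theorem sat_M {j : Fin 4} (h : Sat im (relsB ++ relsU (alW j))) : Sat (imM im) (relsM j) := by
  refine ⟨fun l hl => ?_, fun r hr => ?_⟩
  · have h1 := (iv_nine ⟨l, hl⟩).2
    simp only at h1
    rw [imM, imM]
    by_cases h8 : l = 8
    · rw [if_pos h8, if_pos (h1.1 h8), inv_one]
    · rw [if_neg h8, if_neg (fun e => h8 (h1.2 e)), h.iv l hl]
  · rcases List.mem_append.1 hr with hr | hr
    · rw [← h.rel r hr]
      refine wvx_congr fun l hl => ?_
      have h8 := List.all_eq_true.1 (List.all_eq_true.1 (parts.2.2.2 j) r hr) l hl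
      simp only [Bool.and_eq_true, Bool.not_eq_true', beq_eq_false_iff_ne, ne_eq] at h8
      rw [imM, if_neg h8.2]
    · simp only [List.mem_cons, List.not_mem_nil, or_false] at hr
      subst hr; simp [wvx, imM]

theorem shapesG : CertG.log.ng = 11 ∧ CertG.log.subs = [0, 1, 2, 3, 4, 5, 6, 7, 9, 10] := ⟨rfl, rfl⟩

theorem fitsG : fits CertG.log relsG = true := by decide +kernel

theorem card_G (h : Sat im relsG) {K : Subgroup X} (hK : closure (imM im '' Set.Iio 11) ≤ K) (hfin : Finite K)
    {n : ℕ} (hn : Nat.card K ≤ n) :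
    Finite (closure (im '' Set.Iio 11)) ∧ Nat.card (closure (im '' Set.Iio 11)) ≤ 4125 * n := by
  have hS := h.sound (K := K) fitsG CertG.letters (fun l hl _ => by
    rw [shapesG.2] at hl
    have h8 : l ≠ 8 ∧ l < 11 := by
      simp only [List.mem_cons, List.not_mem_nil, or_false] at hl
      omega
    exact hK (subset_closure ⟨l, h8.2, by rw [imM, if_neg h8.1]⟩))
  have := finite_card_le hS CertG.ok CertG.table (L := closure (im '' Set.Iio 11)) (by rw [shapesG.1]) hfin hn
  rwa [CertG.rows_length] at this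

/-- The image of the common part. -/
def bImg : Subgroup (Equiv.Perm (Fin 100)) := closure (imG '' Set.Iio 8)
/-- The image of the centralizer. -/
def hImg : Subgroup (Equiv.Perm (Fin 100)) := closure (imG '' Set.Iio 9)
/-- The image of the normalizer. -/
def mImg : Subgroup (Equiv.Perm (Fin 100)) := closure (imM imG '' Set.Iio 11)

theorem sat_B : Sat imG relsB := sat_imG.mono (by decide +kernel)
theorem sat_hG : Sat imG relsH := sat_imG.mono parts.1
theorem sat_mG : Sat (imM imG) (relsM 0) := sat_M (sat_imG.mono parts.2.1)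

theorem card_mImg : Nat.card mImg = 10752 := by
  refine le_antisymm (card_M sat_mG).2 ?_
  have h1 := (card_G sat_imG (K := mImg) le_rfl (card_M sat_mG).1 le_rfl).2
  rw [show closure (imG '' Set.Iio 11) = grpG from rfl, card_grpG] at h1
  omega

theorem imM_low : bImg = closure (imM imG '' Set.Iio 8) := by
  unfold bImg
  congr 1
  refine Set.image_congr fun l hl => ?_
  rw [imM, if_neg (by simp only [Set.mem_Iio] at hl; omega)]

theorem card_bImg : Nat.card bImg = 1536 := by
  refine le_antisymm (card_B sat_B).2 ?_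
  have h := sat_mG
  have hS := h.sound (K := bImg) fits_all.2.2 CertM.letters (fun l hl _ => by
    rw [shapes.2.2.2] at hl
    simp only [List.mem_cons, List.not_mem_nil, or_false] at hl
    rcases lt_or_ge l 8 with h8 | h8
    · rw [imM_low]; exact subset_closure ⟨l, h8, rfl⟩
    · obtain rfl : l = 8 := by omega
      simp [imM, one_mem])
  have h1 := (finite_card_le hS CertM.ok CertM.table (L := mImg)
    (by rw [shapes.2.2.1]; exact le_rfl) (card_B sat_B).1 le_rfl).2
  rw [CertM.rows_length, card_mImg] at h1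
  omega

theorem wvx_mem_h {w : List ℕ} (hw : ∀ l ∈ w, l < 9) : wvx imG w ∈ hImg :=
  hImg.list_prod_mem fun g hg => by
    obtain ⟨l, hl, rfl⟩ := List.mem_map.1 hg
    exact subset_closure ⟨l, hw l hl, rfl⟩

theorem card_hImg : Nat.card hImg = 7680 := by
  refine le_antisymm (card_H sat_hG).2 ?_
  haveI : Finite hImg := (card_H sat_hG).1
  have h1 : 1536 ∣ Nat.card hImg := by
    rw [← card_bImg]
    exact Subgroup.card_dvd_of_le (closure_mono (Set.image_mono (Set.Iio_subset_Iio (by norm_num))))
  have hw : ∀ l ∈ fiveW, l < 9 := all_lt u_facts.2.2.2.2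
  have h5 : orderOf (⟨wvx imG fiveW, wvx_mem_h hw⟩ : hImg) = 5 := by
    haveI : Fact (Nat.Prime 5) := ⟨by norm_num⟩
    refine orderOf_eq_prime (Subtype.ext ?_) ?_
    · have e := eqW_sound u_facts.2.2.2.1
      rw [wvx_append, wvx_append, wvx_append, wvx_append, wvx_nil] at e
      simpa [pow_succ, mul_assoc] using e
    · intro e
      exact eqW_false (fun l hl => (hw l hl).trans (by norm_num)) (by simp) u_facts.2.1 (congrArg Subtype.val e)
  have h2 : 5 ∣ Nat.card hImg := h5 ▸ orderOf_dvd_natCard _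
  have h3 := Nat.Coprime.mul_dvd_of_dvd_of_dvd (by norm_num : Nat.Coprime 1536 5) h1 h2
  exact Nat.le_of_dvd Nat.card_pos h3

theorem closure_of_trivial {R : List (List ℕ)} {S : Set ℕ}
    (h : ∀ l < 11, l ∉ S → gen R l = 1) : closure (gen R '' S) = ⊤ := by
  rw [eq_top_iff, ← closure_gen R, closure_le]
  rintro _ ⟨l, hl, rfl⟩
  by_cases hs : l ∈ S
  · exact subset_closure ⟨l, hs, rfl⟩
  · rw [h l hl hs]; exact one_mem _

theorem relsH9_lt : ∀ r ∈ relsH ++ [[9], [10]], ∀ l ∈ r, l < 11 := by decide +kernel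
theorem relsM_lt : ∀ r ∈ relsM 0, ∀ l ∈ r, l < 11 := by decide +kernel

/-- An identity of the permutations holds for the centralizer relators. -/
theorem h_identity (h : Sat im relsH) {w : List ℕ} (hw : ∀ l ∈ w, l < 9) (he : wvx imG w = 1) :
    wvx im w = 1 := by
  have hw11 : ∀ l ∈ w, l < 11 := fun l hl => (hw l hl).trans (by norm_num)
  let φ := (sat_H9 sat_hG).hom relsH9_lt
  have hgen : ∀ l ∈ ({9, 10} : Set ℕ), gen (relsH ++ [[9], [10]]) l = 1 := by
    intro l hl
    simp only [Set.mem_insert_iff, Set.mem_singleton_iff] at hl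
    have := (sat_gen (relsH ++ [[9], [10]])).rel [l] (by rcases hl with rfl | rfl <;> simp)
    simpa [wvx] using this
  have htop : closure (gen (relsH ++ [[9], [10]]) '' Set.Iio 9) = ⊤ := closure_of_trivial fun l hl hs => by
    simp only [Set.mem_Iio] at hs
    exact hgen l (by simp only [Set.mem_insert_iff, Set.mem_singleton_iff]; omega)
  obtain ⟨hfin, hcard⟩ := card_H ((sat_gen (relsH ++ [[9], [10]])).mono (R' := relsH) (by decide +kernel))
  rw [htop] at hfin hcard
  rw [Subgroup.card_top] at hcard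
  haveI : Finite (Pres (relsH ++ [[9], [10]])) := Finite.of_equiv _ Subgroup.topEquiv.toEquiv
  have hrange : hImg ≤ φ.range := by
    rw [hImg, closure_le]
    rintro _ ⟨l, hl, rfl⟩
    simp only [Set.mem_Iio] at hl
    exact ⟨gen _ l, by rw [(sat_H9 sat_hG).hom_gen relsH9_lt (by omega), imH9, if_pos hl]⟩
  have hinj : Function.Injective φ := by
    refine (MonoidHom.ker_eq_bot_iff φ).1 (Subgroup.eq_bot_of_card_le _ ?_)
    have h1 := φ.ker.card_mul_index
    rw [Subgroup.index_ker] at h1
    have h2 := Subgroup.card_le_of_le hrange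
    rw [card_hImg] at h2
    nlinarith
  have h1 : wvx (gen (relsH ++ [[9], [10]])) w = 1 := hinj (by
    rw [map_one, (sat_H9 sat_hG).hom_wvx relsH9_lt hw11, ← he]
    exact wvx_congr fun l hl => by rw [imH9, if_pos (hw l hl)])
  rw [← wvx_congr (im := imH9 im) (im' := im) fun l hl => by rw [imH9, if_pos (hw l hl)],
    ← (sat_H9 h).hom_wvx relsH9_lt hw11, h1, map_one]

/-- An identity of the permutations holds for the normalizer relators. -/
theorem m_identity (h : Sat im (relsB ++ relsU (alW 0))) {w : List ℕ} (hw : ∀ l ∈ w, l < 11 ∧ l ≠ 8)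
    (he : wvx imG w = 1) : wvx im w = 1 := by
  have hw11 : ∀ l ∈ w, l < 11 := fun l hl => (hw l hl).1
  let φ := sat_mG.hom relsM_lt
  obtain ⟨hfin, hcard⟩ := card_M (sat_gen (relsM 0))
  rw [closure_gen] at hfin hcard
  rw [Subgroup.card_top] at hcard
  haveI : Finite (Pres (relsM 0)) := Finite.of_equiv _ Subgroup.topEquiv.toEquiv
  have hrange : mImg ≤ φ.range := by
    rw [mImg, closure_le]
    rintro _ ⟨l, hl, rfl⟩
    exact ⟨gen _ l, sat_mG.hom_gen relsM_lt hl⟩
  have hinj : Function.Injective φ := by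
    refine (MonoidHom.ker_eq_bot_iff φ).1 (Subgroup.eq_bot_of_card_le _ ?_)
    have h1 := φ.ker.card_mul_index
    rw [Subgroup.index_ker] at h1
    have h2 := Subgroup.card_le_of_le hrange
    rw [card_mImg] at h2
    nlinarith
  have h1 : wvx (gen (relsM 0)) w = 1 := hinj (by
    rw [map_one, sat_mG.hom_wvx relsM_lt hw11, ← he]
    exact wvx_congr fun l hl => by rw [imM, if_neg (hw l hl).2])
  rw [← wvx_congr (im := imM im) (im' := im) fun l hl => by rw [imM, if_neg (hw l hl).2],
    ← (sat_M h).hom_wvx relsM_lt hw11, h1, map_one]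

/-- A group with the relators is an image of the Higman-Sims group. -/
theorem exists_hom (h : Sat im relsG) :
    ∃ ψ : grpG →* X, ∀ l (hl : l < 11), ψ ⟨imG l, imG_mem hl⟩ = im l := by
  obtain ⟨hfinM, hcardM⟩ := card_M (sat_M ((sat_gen relsG).mono parts.2.1))
  obtain ⟨hfin, hcard⟩ := card_G (sat_gen relsG) le_rfl hfinM hcardM
  rw [closure_gen] at hfin hcard
  rw [Subgroup.card_top] at hcard
  haveI : Finite (Pres relsG) := Finite.of_equiv _ Subgroup.topEquiv.toEquiv
  let π := (sat_imG.hom rels_lt).rangeRestrict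
  have hrange : (sat_imG.hom rels_lt).range = grpG := by
    apply le_antisymm
    · rw [MonoidHom.range_eq_map, ← closure_gen relsG, MonoidHom.map_closure, closure_le]
      rintro _ ⟨_, ⟨l, hl, rfl⟩, rfl⟩
      rw [sat_imG.hom_gen rels_lt hl]
      exact imG_mem hl
    · rw [grpG, closure_le]
      rintro _ ⟨l, hl, rfl⟩
      exact ⟨gen _ l, sat_imG.hom_gen rels_lt hl⟩
  have hinj : Function.Injective (sat_imG.hom rels_lt) := by
    refine (MonoidHom.ker_eq_bot_iff _).1 (Subgroup.eq_bot_of_card_le _ ?_)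
    have h1 := (sat_imG.hom rels_lt).ker.card_mul_index
    rw [Subgroup.index_ker, hrange, card_grpG] at h1
    nlinarith
  let e : Pres relsG ≃* grpG := (MonoidHom.ofInjective hinj).trans (MulEquiv.subgroupCongr hrange)
  refine ⟨(h.hom rels_lt).comp e.symm.toMonoidHom, fun l hl => ?_⟩
  have he : e (gen relsG l) = ⟨imG l, imG_mem hl⟩ := Subtype.ext (sat_imG.hom_gen rels_lt hl)
  rw [MonoidHom.comp_apply, MulEquiv.coe_toMonoidHom, ← he, MulEquiv.symm_apply_apply, h.hom_gen rels_lt hl]

end Cfsg.Lib.HSLocal
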