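import Cfsg.Agent.HSLocal.Choose
import Cfsg.Agent.HSLocal.Control

/-!
The local data force the Higman-Sims group.
-/

set_option autoImplicit false
set_option maxRecDepth 40000

namespace Cfsg.Lib.HSLocal

open Subgroup

/-- A group with the local data is the Higman-Sims group. -/
theorem iso_of_loc {G : Type*} [Group G] [Finite G] (L : Loc G) : Nonempty (G ≃* ↥Cfsg.Spor.HS) := by
  classical
  obtain ⟨im, hsat, hgen, hu, ht⟩ := exists_local L
  have hcent : ∀ g, g ∈ L.H ↔ g * wvx im [6, 6] = wvx im [6, 6] * g := fun g => by rw [ht]; exact L.mem_H g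
  have hG := exists_global hsat hgen hcent L.card_H hu
  obtain ⟨ψ, hinj, hψ⟩ := exists_embedding hG fun e => hu (by rw [e]; exact one_mem _)
  let im' : ℕ → grpG := fun l => if h : l < 11 then ⟨imG l, imG_mem h⟩ else 1
  have hval : ∀ w : List ℕ, (∀ l ∈ w, l < 11) →
      ψ (wvx im' w) = wvx im w ∧ ((wvx im' w : grpG) : Equiv.Perm (Fin 100)) = wvx imG w := fun w hw => by
    constructor
    · rw [map_wvx]
      exact wvx_congr fun l hl => by rw [show im' l = ⟨imG l, imG_mem (hw l hl)⟩ from dif_pos (hw l hl), hψ l (hw l hl)]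
    · rw [← Subgroup.coe_subtype, map_wvx]
      exact wvx_congr fun l hl => by
        rw [show im' l = ⟨imG l, imG_mem (hw l hl)⟩ from dif_pos (hw l hl)]; rfl
  have hfaith : ∀ v w : List ℕ, (∀ l ∈ v, l < 11) → (∀ l ∈ w, l < 11) →
      (wvx im v = wvx im w ↔ wvx imG v = wvx imG w) := fun v w hv hw => by
    rw [← (hval v hv).1, ← (hval w hw).1, ← (hval v hv).2, ← (hval w hw).2]
    exact ⟨fun e => congrArg Subtype.val (hinj e), fun e => congrArg ψ (Subtype.ext e)⟩
  have htop : closure (im' '' Set.Iio 11) = ⊤ := by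
    apply Subgroup.map_injective grpG.subtype_injective
    rw [MonoidHom.map_closure, ← MonoidHom.range_eq_map, Subgroup.range_subtype, ← Set.image_comp]
    show Subgroup.closure _ = Subgroup.closure (imG '' Set.Iio 11)
    refine congrArg _ (Set.image_congr fun l hl => ?_)
    rw [Function.comp_apply, show im' l = ⟨imG l, imG_mem hl⟩ from dif_pos hl]
    rfl
  have hY : closure (im '' Set.Iio 11) = ψ.range := by
    rw [MonoidHom.range_eq_map, ← htop, MonoidHom.map_closure, ← Set.image_comp]
    refine congrArg _ (Set.image_congr fun l hl => ?_)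
    rw [Function.comp_apply, show im' l = ⟨imG l, imG_mem hl⟩ from dif_pos hl, hψ l hl]
  have F : Faith im := by
    refine ⟨hG, hfaith, fun g hg => ?_, ?_, ?_⟩
    · have hgH := (hcent g).2 hg
      rw [← hgen] at hgH
      exact form_H (hG.mono parts.1) hgH
    · have e : centralizer ({wvx im [6, 6]} : Set G) = L.H :=
        Subgroup.ext fun g => by rw [mem_centralizer_singleton_iff, hcent g]
      rw [e, L.card_H]
    · rw [hY, ← Nat.card_congr (MonoidHom.ofInjective hinj).toEquiv, card_grpG]
  have hsur : Function.Surjective ψ := fun g => by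
    have h := F.top_le g
    rw [gY, hY] at h
    exact h
  obtain ⟨e⟩ := exists_spor
  exact ⟨(MulEquiv.ofBijective ψ ⟨hinj, hsur⟩).symm.trans e.symm⟩

end Cfsg.Lib.HSLocal
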