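import Cfsg.Agent.HSLocal.Closed
import Cfsg.Agent.HSLocal.Rels

/-!
Groups with eleven elements satisfying relators, and the formal group on such relators.
-/

set_option autoImplicit false

namespace Cfsg.Lib.HSLocal

open Cfsg.Lib.M12Cent (Log)

variable {X : Type*} [Group X]

/-- The value of a word. -/
def wvx (im : ℕ → X) (w : List ℕ) : X := (w.map im).prod

theorem wvx_nil (im : ℕ → X) : wvx im [] = 1 := rfl

theorem wvx_cons (im : ℕ → X) (a : ℕ) (w : List ℕ) : wvx im (a :: w) = im a * wvx im w := by simp [wvx]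

theorem wvx_append (im : ℕ → X) (v w : List ℕ) : wvx im (v ++ w) = wvx im v * wvx im w := by simp [wvx]

theorem map_wvx {Y : Type*} [Group Y] (f : X →* Y) (im : ℕ → X) (w : List ℕ) :
    f (wvx im w) = wvx (fun l => f (im l)) w := by
  simp [wvx, map_list_prod, List.map_map, Function.comp_def]

theorem wvx_congr {im im' : ℕ → X} {w : List ℕ} (h : ∀ l ∈ w, im l = im' l) : wvx im w = wvx im' w := by
  rw [wvx, wvx, List.map_congr_left h]

/-- Eleven elements closed under inversion and satisfying relators. -/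
structure Sat (im : ℕ → X) (R : List (List ℕ)) : Prop where
  iv : ∀ l < 11, im (ivL.getD l 0) = (im l)⁻¹
  rel : ∀ r ∈ R, wvx im r = 1

theorem Sat.mono {im : ℕ → X} {R R' : List (List ℕ)} (h : Sat im R) (hs : R'.all (fun r => R.contains r) = true) :
    Sat im R' :=
  ⟨h.iv, fun r hr => h.rel r (List.contains_iff_mem.1 (List.all_eq_true.1 hs r hr))⟩

theorem Sat.map {Y : Type*} [Group Y] (f : X →* Y) {im : ℕ → X} {R : List (List ℕ)} (h : Sat im R) :
    Sat (fun l => f (im l)) R :=
  ⟨fun l hl => by rw [h.iv l hl, map_inv], fun r hr => by rw [← map_wvx, h.rel r hr, map_one]⟩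

theorem ivL_lt : ∀ l : Fin 11, ivL.getD l 0 < 11 := by decide

theorem winv_lt {w : List ℕ} (h : ∀ l ∈ w, l < 11) : ∀ l ∈ winv w, l < 11 := by
  intro l hl
  obtain ⟨a, ha, rfl⟩ := List.mem_map.1 hl
  exact ivL_lt ⟨a, h a (List.mem_reverse.1 ha)⟩

theorem Sat.winv_val {im : ℕ → X} {R : List (List ℕ)} (h : Sat im R) :
    ∀ w : List ℕ, (∀ l ∈ w, l < 11) → wvx im (winv w) = (wvx im w)⁻¹
  | [], _ => by simp [winv, wvx]
  | a :: w, hw => by
    have ih := Sat.winv_val h w fun l hl => hw l (List.mem_cons_of_mem _ hl)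
    rw [winv] at ih
    rw [winv, List.reverse_cons, List.map_append, wvx_append, ih, List.map_singleton, wvx_cons, wvx_nil, mul_one,
      h.iv a (hw a List.mem_cons_self), wvx_cons, mul_inv_rev]

/-- A log fits relators. -/
def fits (C : Log) (R : List (List ℕ)) : Bool :=
  decide (C.ng ≤ 11) && C.rels.all (fun r => R.contains r) &&
    (List.range C.ng).all fun l => C.inv l == ivL.getD l 0

theorem Sat.sound {im : ℕ → X} {R : List (List ℕ)} (h : Sat im R) {C : Log} (hfit : fits C R = true)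
    (hlet : C.lettersOK = true) {K : Subgroup X} (hsub : ∀ l ∈ C.subs, l < C.ng → im l ∈ K) :
    C.Sound im K := by
  simp only [fits, Bool.and_eq_true, decide_eq_true_eq, List.all_eq_true, List.contains_iff_mem, beq_iff_eq,
    List.mem_range] at hfit
  obtain ⟨⟨hng, hrel⟩, hiv⟩ := hfit
  refine ⟨hlet, fun l hl => ?_, fun r hr => ?_, fun l hl => ?_⟩
  · rw [hiv l hl]; exact h.iv l (lt_of_lt_of_le hl hng)
  · rw [← h.rel r (hrel r hr), Log.wv, wvx]
    refine congrArg List.prod (List.map_congr_left fun l hl => ?_)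
    have hL := hlet
    simp only [Log.lettersOK, Bool.and_eq_true, List.all_eq_true, decide_eq_true_eq] at hL
    rw [Log.val, if_pos (hL.1 r hr l hl)]
  · rw [Log.val]
    split
    · exact hsub l hl ‹_›
    · exact K.one_mem

/-- A closing path gives membership in the subgroup. -/
theorem Sat.close_mem {im : ℕ → X} {R : List (List ℕ)} (h : Sat im R) {C : Log} (hfit : fits C R = true)
    (hlet : C.lettersOK = true) (hok : C.factsOK 0 C.m = true) {p w : List ℕ}
    (hp : C.follow C.m p 0 = some (0, w)) {K : Subgroup X} (hsub : ∀ l ∈ C.subs, l < C.ng → im l ∈ K)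
    (hw : ∀ l ∈ w, l < C.ng) : wvx im w ∈ K := by
  have hS := h.sound hfit hlet hsub
  have h1 := hS.follow_holds (hS.all_hold hok) _ _ _ _ hp
  rw [Log.rep_zero, one_mul, inv_one, mul_one, Log.wv] at h1
  rw [wvx]
  convert h1 using 2
  exact List.map_congr_left fun l hl => by rw [Log.val, if_pos (hw l hl)]

/-- A word in the free group on eleven letters. -/
def fw (w : List ℕ) : FreeGroup (Fin 11) := (w.map fun l => FreeGroup.of (Fin.ofNat 11 l)).prod

/-- The inversion relators. -/
def pairs : List (List ℕ) := (List.range 11).map fun l => [l, ivL.getD l 0]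

/-- The formal relators. -/
def relSet (R : List (List ℕ)) : Set (FreeGroup (Fin 11)) := fw '' {r | r ∈ pairs ++ R}

/-- The formal group on relators. -/
abbrev Pres (R : List (List ℕ)) := PresentedGroup (relSet R)

/-- The generators of the formal group. -/
def gen (R : List (List ℕ)) (l : ℕ) : Pres R := PresentedGroup.of (Fin.ofNat 11 l)

theorem mk_fw (R : List (List ℕ)) (w : List ℕ) : PresentedGroup.mk (relSet R) (fw w) = wvx (gen R) w := by
  rw [fw, map_list_prod, List.map_map]
  rfl

theorem sat_gen (R : List (List ℕ)) : Sat (gen R) R := by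
  have h : ∀ r ∈ pairs ++ R, wvx (gen R) r = 1 := fun r hr => by
    rw [← mk_fw]
    exact (QuotientGroup.eq_one_iff _).2 (Subgroup.subset_normalClosure ⟨r, hr, rfl⟩)
  refine ⟨fun l hl => ?_, fun r hr => h r (List.mem_append_right _ hr)⟩
  have h1 := h [l, ivL.getD l 0] (List.mem_append_left _ (List.mem_map.2 ⟨l, List.mem_range.2 hl, rfl⟩))
  rw [wvx_cons, wvx_cons, wvx_nil, mul_one] at h1
  exact eq_inv_of_mul_eq_one_right h1

theorem Sat.fw_val {im : ℕ → X} {R : List (List ℕ)} (_ : Sat im R) {w : List ℕ} (hw : ∀ l ∈ w, l < 11) :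
    FreeGroup.lift (fun i : Fin 11 => im i.val) (fw w) = wvx im w := by
  rw [fw, map_list_prod, List.map_map, wvx]
  refine congrArg List.prod (List.map_congr_left fun l hl => ?_)
  simp [Nat.mod_eq_of_lt (hw l hl)]

theorem pairs_lt : ∀ r ∈ pairs, ∀ l ∈ r, l < 11 := by decide

/-- The map from the formal group. -/
def Sat.hom {im : ℕ → X} {R : List (List ℕ)} (h : Sat im R) (hR : ∀ r ∈ R, ∀ l ∈ r, l < 11) : Pres R →* X :=
  PresentedGroup.toGroup (f := fun i : Fin 11 => im i.val) (by
    rintro _ ⟨r, hr, rfl⟩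
    rcases List.mem_append.1 hr with hr' | hr'
    · rw [h.fw_val (pairs_lt r hr')]
      obtain ⟨l, hl, rfl⟩ := List.mem_map.1 hr'
      rw [wvx_cons, wvx_cons, wvx_nil, mul_one, h.iv l (List.mem_range.1 hl), mul_inv_cancel]
    · rw [h.fw_val (hR r hr')]; exact h.rel r hr')

theorem Sat.hom_gen {im : ℕ → X} {R : List (List ℕ)} (h : Sat im R) (hR : ∀ r ∈ R, ∀ l ∈ r, l < 11) {l : ℕ}
    (hl : l < 11) : h.hom hR (gen R l) = im l := by
  rw [Sat.hom, gen, PresentedGroup.toGroup.of]
  simp [Nat.mod_eq_of_lt hl]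

theorem Sat.hom_wvx {im : ℕ → X} {R : List (List ℕ)} (h : Sat im R) (hR : ∀ r ∈ R, ∀ l ∈ r, l < 11) {w : List ℕ}
    (hw : ∀ l ∈ w, l < 11) : h.hom hR (wvx (gen R) w) = wvx im w := by
  rw [map_wvx]
  exact wvx_congr fun l hl => h.hom_gen hR (hw l hl)

theorem closure_gen (R : List (List ℕ)) : Subgroup.closure (gen R '' Set.Iio 11) = ⊤ := by
  rw [eq_top_iff, ← PresentedGroup.closure_range_of (relSet R)]
  refine Subgroup.closure_mono ?_
  rintro _ ⟨i, rfl⟩
  exact ⟨i.val, i.isLt, by rw [gen]; congr 1; exact Fin.ext (by simp [Nat.mod_eq_of_lt i.isLt])⟩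

end Cfsg.Lib.HSLocal
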