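import Cfsg.Agent.HSLocal.Coords

/-!
The involution inverting the element of order three, and a normal form for the action on five points.
-/

set_option autoImplicit false
set_option maxRecDepth 20000
set_option synthInstance.maxSize 4096
set_option synthInstance.maxHeartbeats 400000

namespace Cfsg.Lib.HSLocal

open Subgroup

theorem mm_assoc (m n p : Mat) : mm (mm m n) p = mm m (mm n p) :=
  Prod.ext (app_mm m n p.1) (Prod.ext (app_mm m n p.2.1) (app_mm m n p.2.2))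

theorem mm_idM (m : Mat) : mm m idM = m := by
  obtain ⟨⟨a, b, c⟩, ⟨d, e, f⟩, g, h, i⟩ := m
  simp [mm, app, sm, idM]

theorem idM_mm (m : Mat) : mm idM m = m := by simp [mm, app_id]

theorem sm_two (v : E4) : sm 2 v = v + v := by
  obtain ⟨a, b, c⟩ := v
  simp [sm, two_mul]

theorem app_basis (m : Mat) :
    app m (1, 0, 0) = m.1 ∧ app m (0, 1, 0) = m.2.1 ∧ app m (0, 0, 1) = m.2.2 := by
  obtain ⟨⟨a, b, c⟩, ⟨d, e, f⟩, g, h, i⟩ := m
  simp [app, sm]

theorem app_two (m : Mat) (v : E4) : app m (v + v) = sm 2 (app m v) := by rw [app_add, sm_two]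

theorem r2_left {m m' : Mat} (h : r2 m = r2 m') (n : Mat) : r2 (mm m n) = r2 (mm m' n) := by
  have e : ∀ v, sm 2 (app m v) = sm 2 (app m' v) := fun v => by
    rw [← app_two, ← app_two, Coord.app_double h]
  simp only [r2, mm, e]

theorem r2_right (m : Mat) {n n' : Mat} (h : r2 n = r2 n') : r2 (mm m n) = r2 (mm m n') := by
  have e : ∀ v w : E4, sm 2 v = sm 2 w → sm 2 (app m v) = sm 2 (app m w) := fun v w e => by
    rw [← app_two, ← app_two, ← sm_two, ← sm_two, e]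
  simp only [r2, Prod.mk.injEq] at h
  simp only [r2, mm, Prod.mk.injEq]
  exact ⟨e _ _ h.1, e _ _ h.2.1, e _ _ h.2.2⟩

/-- The fixed element of order three on five points. -/
def sig0 : Equiv.Perm (Fin 5) := Equiv.swap 0 1 * Equiv.swap 1 2

/-- The transposition commuting with it. -/
def tau0 : Equiv.Perm (Fin 5) := Equiv.swap 3 4

theorem sig0_facts : sig0 * sig0 * sig0 = 1 ∧ sig0 ≠ 1 ∧ tau0 * tau0 = 1 ∧ tau0 * sig0 = sig0 * tau0 ∧
    tau0 ≠ 1 := by decide +kernel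

/-- The finite facts on five points. -/
theorem five_facts : ∀ η : Equiv.Perm (Fin 5), η * η = 1 → η * sig0 * η * sig0 = 1 →
    η * tau0 = tau0 * η ∧ ∀ α : Equiv.Perm (Fin 5), α * α = 1 → α ≠ 1 → η * α = α * η →
      sig0 * α * sig0⁻¹ * α = α * (sig0 * α * sig0⁻¹) →
      sig0 * (sig0 * α * sig0⁻¹) * sig0⁻¹ * (sig0 * α * sig0⁻¹) * α = 1 →
      (tau0 * (sig0 * α * sig0⁻¹ * η * (sig0 * α * sig0⁻¹)⁻¹)) ^ 3 = 1 ∧
      tau0 * (sig0 * α * sig0⁻¹ * η * (sig0 * α * sig0⁻¹)⁻¹) ≠ 1 := by decide +kernel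

/-- The elements of order three on five points are conjugate. -/
theorem three_conj {σ : Equiv.Perm (Fin 5)} (h3 : σ ^ 3 = 1) (h1 : σ ≠ 1) : ∃ g, g * σ * g⁻¹ = sig0 := by
  have key : ∀ π : Equiv.Perm (Fin 5), π ^ 3 = 1 → π ≠ 1 → π.cycleType = {3} := by
    intro π h3 h1
    haveI : Fact (Nat.Prime 3) := ⟨Nat.prime_three⟩
    have ho : orderOf π = 3 := orderOf_eq_prime h3 h1
    obtain ⟨n, hn⟩ := Equiv.Perm.cycleType_prime_order (σ := π) (by rw [ho]; exact Nat.prime_three)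
    rw [ho] at hn
    have hs := π.sum_cycleType
    have hle : π.support.card ≤ 5 := by simpa using Finset.card_le_univ π.support
    rw [hn, Multiset.sum_replicate, smul_eq_mul] at hs
    obtain rfl : n = 0 := by omega
    rw [hn]; rfl
  refine isConj_iff.1 (Equiv.Perm.isConj_iff_cycleType_eq.2 ?_)
  rw [key σ h3 h1, key sig0 (by rw [pow_succ, pow_two]; exact sig0_facts.1) sig0_facts.2.1]

variable {G : Type*} [Group G]

/-- The data with the action on five points conjugated. -/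
def Loc.reindex (L : Loc G) (g : Equiv.Perm (Fin 5)) : Loc G :=
  { L with
    φ := (MulAut.conj g).toMonoidHom.comp L.φ
    φ_surj := (MulAut.conj g).surjective.comp L.φ_surj
    φ_ker := fun h => by
      rw [← L.φ_ker h]
      exact MulEquiv.map_eq_one_iff (MulAut.conj g) }

/-- The coordinates with the action on five points conjugated. -/
def Coord.reindex {L : Loc G} (C : Coord L) (g : Equiv.Perm (Fin 5)) : Coord (L.reindex g) :=
  ⟨C.x, C.a, C.x_H, C.x_M, C.x_ord, C.x_c, C.a_A, C.norm, C.a_one, C.a_t⟩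

theorem Coord.x_R {L : Loc G} (C : Coord L) : C.x ∉ L.R := fun hR => by
  have h4 : C.x ^ 4 = 1 := by
    rw [show (4 : ℕ) = 2 * 2 from rfl, pow_mul, pow_two, pow_two]
    rcases L.R_sq _ hR with e | e <;> rw [e]
    · rw [one_mul]
    · exact L.t_sq
  have h := orderOf_dvd_of_pow_eq_one h4
  rw [C.x_ord] at h
  norm_num at h

/-- Coordinates may be chosen with a fixed image of the element of order three. -/
theorem exists_seed [Finite G] (L : Loc G) : ∃ (L' : Loc G) (C : Coord L'),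
    L'.t = L.t ∧ L'.H = L.H ∧ L'.φ ⟨C.x, C.x_H⟩ = sig0 := by
  obtain ⟨C⟩ := exists_coord L
  have h3 : L.φ ⟨C.x, C.x_H⟩ ^ 3 = 1 := by
    rw [← map_pow, ← map_one L.φ]
    congr 1
    exact Subtype.ext (by
      show C.x ^ 3 = 1
      rw [← C.x_ord, pow_orderOf_eq_one])
  obtain ⟨g, hg⟩ := three_conj h3 fun e => C.x_R ((L.φ_ker _).1 e)
  exact ⟨L.reindex g, C.reindex g, rfl, rfl, hg⟩

namespace Coord

variable {L : Loc G} (C : Coord L)

theorem x_inv : C.x⁻¹ = C.x * C.x := inv_eq_of_mul_eq_one_left C.x3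

theorem conj_P2 (v : E4) : C.x * C.x * C.P v * (C.x * C.x)⁻¹ = C.P (app mX (app mX v)) := by
  rw [← C.conj_P, ← C.conj_P]; group

variable [Finite G]

theorem mat_inv {g : G} (hg : g ∈ L.M) : mm (C.mat g) (C.mat g⁻¹) = idM := by
  rw [← C.mat_mul hg (inv_mem hg), mul_inv_cancel, C.mat_one]

theorem mat_conj {g h : G} (hg : g ∈ L.M) (hh : h ∈ L.M) :
    C.mat (g * h * g⁻¹) = mm (mm (C.mat g) (C.mat h)) (C.mat g⁻¹) := by
  rw [C.mat_mul (mul_mem hg hh) (inv_mem hg), C.mat_mul hg hh]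

theorem mat_mulA {g a : G} (hg : g ∈ L.M) (ha : a ∈ L.A) : C.mat (g * a) = C.mat g := by
  rw [C.mat_mul hg (L.A_le ha), C.mat_A ha, mm_idM]

theorem mat_Amul {g a : G} (hg : g ∈ L.M) (ha : a ∈ L.A) : C.mat (a * g) = C.mat g := by
  rw [C.mat_mul (L.A_le ha) hg, C.mat_A ha, idM_mm]

theorem mat_cols {g : G} (hg : g ∈ L.M) {u v w : E4} (h1 : g * L.c * g⁻¹ = C.P u)
    (h2 : g * C.a * g⁻¹ = C.P v) (h3 : g * C.b * g⁻¹ = C.P w) : C.mat g = (u, v, w) := by
  rw [← C.P_c, C.conj_app hg] at h1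
  rw [← C.P_a, C.conj_app hg] at h2
  rw [← C.P_b, C.conj_app hg] at h3
  rw [(app_basis _).1] at h1
  rw [(app_basis _).2.1] at h2
  rw [(app_basis _).2.2] at h3
  rw [← C.P_inj h1, ← C.P_inj h2, ← C.P_inj h3]

theorem mat_pow {g : G} (hg : g ∈ L.M) : ∀ n, C.mat (g ^ n) = mpow (C.mat g) n
  | 0 => by rw [pow_zero, C.mat_one, mpow]
  | n + 1 => by rw [pow_succ, C.mat_mul (pow_mem hg n) hg, mat_pow hg n, mpow]

theorem mem_A_of_one {g : G} (hg : g ∈ L.M) (e : r2 (C.mat g) = r2 idM) : g ∈ L.A := by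
  have h := C.mem_A_of_r2 hg (one_mem _) (by rw [e, C.mat_one])
  simpa using h

end Coord

/-- An involution inverting the element of order three. -/
structure Inv {L : Loc G} (C : Coord L) where
  y : G
  y_H : y ∈ L.H
  y_M : y ∈ L.M
  y_sq : y * y = 1
  y_x : y * C.x * y * C.x = 1
  y_c : y * L.c * y * L.c = 1
  y_a : y * C.a * y = C.a

/-- The transvections modulo two fixing the first coordinate. -/
def tv (p q : Bool) : Mat := ((1, 0, 0), (bif p then 1 else 0, 1, 0), (bif q then 1 else 0, 0, 1))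

theorem tv_conj : ∀ p q : Bool, (p || q) = true → ∃ k : Coord.Bits, 2 * det3 (Coord.ofBits k) ≠ 0 ∧
    r2 (mm (Coord.ofBits k) (tv p q)) = r2 (mm mY (Coord.ofBits k)) := by decide +kernel

theorem seed_facts : 2 * det3 mY ≠ 0 ∧ mm mY mX = mm (mm mX mX) mY ∧ r2 (mm mY mY) = r2 idM ∧
    app mY ((1, 0, 0) + (1, 0, 0)) = (2, 0, 0) ∧
    app mX (app mX (0, 1, 0)) + app mX (0, 1, 0) + (0, 1, 0) = (0, 0, 0) ∧
    (∀ q : ZMod 4, 3 * q = 0 → q = 0) ∧ (∀ q : ZMod 4, 3 * q = q → ∃ j : Bool, q = bif j then 2 else 0) ∧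
    (∀ q : ZMod 4, q + q = 0 → ∃ p : Bool, q + q = 0 ∧ (q = bif p then 2 else 0)) := by decide +kernel

variable [Finite G]

/-- The coordinates may be chosen with an inverting involution fixing the generator. -/
theorem exists_inv {L : Loc G} (C : Coord L) :
    ∃ C' : Coord L, C'.x = C.x ∧ Nonempty (Inv C') := by
  classical
  obtain ⟨f1, f2, f3, f4, f5, f6, f7, f8⟩ := seed_facts
  obtain ⟨g, hg, hgY⟩ := C.realise mY f1
  have hxx : C.x * C.x ∈ L.M := mul_mem C.x_M C.x_M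
  have hw0 : g * C.x * g⁻¹ ∈ L.M := mul_mem (mul_mem hg C.x_M) (inv_mem hg)
  have hα : (C.x * C.x)⁻¹ * (g * C.x * g⁻¹) ∈ L.A := by
    refine C.mem_A_of_r2 hw0 hxx ?_
    rw [C.mat_conj hg C.x_M, C.mat_x, C.mat_mul C.x_M C.x_M, C.mat_x, r2_left (r2_left hgY mX), f2,
      mm_assoc, r2_right (mm mX mX) (r2_left hgY.symm (C.mat g⁻¹)), C.mat_inv hg, mm_idM]
  obtain ⟨v, hv⟩ := C.P_surj hα
  have hw : g * C.x * g⁻¹ = C.x * C.x * C.P v := by rw [hv]; group
  have hv3 : app mX (app mX v) + app mX v + v = 0 := by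
    refine C.P_inj ?_
    rw [C.P_zero, C.P_add, C.P_add, ← C.conj_P2, ← C.conj_P]
    calc C.x * C.x * C.P v * (C.x * C.x)⁻¹ * (C.x * C.P v * C.x⁻¹) * C.P v
        = C.x * C.x * C.P v * C.x⁻¹ * C.P v * C.x⁻¹ * C.P v := by group
      _ = C.x * C.x * C.P v * (C.x * C.x) * C.P v * (C.x * C.x) * C.P v := by rw [C.x_inv]
      _ = (g * C.x * g⁻¹) * (g * C.x * g⁻¹) * (g * C.x * g⁻¹) := by rw [hw]; group
      _ = g * (C.x * C.x * C.x) * g⁻¹ := by group
      _ = 1 := by rw [C.x3]; group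
  have hv1 : v.1 = 0 := by
    rw [norm_X] at hv3
    exact f6 _ (congrArg Prod.fst hv3)
  obtain ⟨w, hw'⟩ := comm_X' (-v) (by simp [hv1])
  set g1 := (C.P w)⁻¹ * g with hg1
  have hg1M : g1 ∈ L.M := mul_mem (L.A_le (inv_mem (C.P_mem w))) hg
  have hg1x : g1 * C.x * g1⁻¹ = C.x * C.x := by
    have hz : app mX (-w) + v + w = 0 := by
      have e1 : app mX (-w) = -app mX w := by
        have := app_add mX (-w) w
        rw [neg_add_cancel] at this
        exact eq_neg_of_add_eq_zero_left (this.symm.trans (by simp [app, sm]))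
      rw [e1, show v = -(w - app mX w) by rw [hw', neg_neg]]
      abel
    calc g1 * C.x * g1⁻¹ = (C.P w)⁻¹ * (g * C.x * g⁻¹) * C.P w := by rw [hg1]; group
      _ = C.x * C.x * ((C.x * C.x)⁻¹ * C.P (-w) * (C.x * C.x)) * C.P v * C.P w := by
          rw [hw, ← C.P_neg]; group
      _ = C.x * C.x * C.P (app mX (-w)) * C.P v * C.P w := by
          rw [← C.conj_P (-w), ← C.x_inv]; group
      _ = C.x * C.x * C.P (app mX (-w) + v + w) := by rw [C.P_add, C.P_add]; group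
      _ = C.x * C.x := by rw [hz, C.P_zero, mul_one]
  set G1 := C.mat g1 with hG1
  have hG1Y : r2 G1 = r2 mY := by
    rw [hG1, hg1, C.mat_Amul hg (inv_mem (C.P_mem w))]; exact hgY
  have hg1H : g1 ∈ L.H := by
    rw [L.mem_H]
    have e : g1 * L.t * g1⁻¹ = L.t := by
      rw [← C.P_t, C.conj_app hg1M, show ((2, 0, 0) : E4) = (1, 0, 0) + (1, 0, 0) by decide,
        Coord.app_double hG1Y, f4]
      exact congrArg C.P (by decide)
    calc g1 * L.t = g1 * L.t * g1⁻¹ * g1 := by group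
      _ = L.t * g1 := by rw [e]
  have hrel : mm G1 mX = mm (mm mX mX) G1 := by
    rw [hG1, ← C.mat_x, ← C.mat_mul hg1M C.x_M, ← C.mat_mul C.x_M C.x_M, ← C.mat_mul hxx hg1M, ← hg1x]
    congr 1; group
  have hcol3 : G1.2.2 = app (mm mX mX) G1.2.1 := by
    have e := congrArg (fun m : Mat => m.2.1) hrel
    simp only [mm] at e
    rw [← (app_basis G1).2.2]
    exact e
  obtain ⟨e, hcol1⟩ : ∃ e : Bool, G1.1 = ((bif e then 3 else 1, 0, 0) : E4) := by
    have hc := C.conj_app hg1M (1, 0, 0)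
    rw [C.P_c, (app_basis _).1] at hc
    rcases L.conj_c hg1H with q | q <;> rw [hc] at q
    · exact ⟨false, C.P_inj (q.trans C.P_c.symm)⟩
    · refine ⟨true, C.P_inj (q.trans ?_)⟩
      rw [show ((bif true then (3 : ZMod 4) else 1, 0, 0) : E4) = -(1, 0, 0) by decide, C.P_neg, C.P_c]
  have hG1eq : G1 = yCand e G1.2.1 := Prod.ext hcol1 (Prod.ext rfl hcol3)
  have hv0 : G1.2.1.1 = 0 := by
    have hrel2 : mm G1 (mm mX mX) = mm mX G1 := by
      rw [← mm_assoc, hrel, mm_assoc (mm mX mX), hrel, ← mm_assoc,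
        show mm (mm mX mX) (mm mX mX) = mX from by decide +kernel]
    have e := congrArg (app G1) f5
    rw [app_add, app_add, ← app_mm mX mX, ← app_mm G1, ← app_mm G1, hrel2, hrel, app_mm mX, app_mm (mm mX mX),
      app_mm mX mX, (app_basis G1).2.1] at e
    have e' : app mX (app mX G1.2.1) + app mX G1.2.1 + G1.2.1 = 0 := by
      rw [add_comm (app mX (app mX G1.2.1)), e]; simp [app, sm]
    rw [norm_X] at e'
    exact f6 _ (congrArg Prod.fst e')
  have hA2 : g1 * g1 ∈ L.A := by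
    refine C.mem_A_of_one (mul_mem hg1M hg1M) ?_
    rw [C.mat_mul hg1M hg1M, ← hG1, r2_left hG1Y, r2_right mY hG1Y, f3]
  obtain ⟨he, a', ha1, hafix, ha2⟩ := involution_Y e G1.2.1
    (by rw [← hG1eq, hG1, ← C.mat_mul hg1M hg1M, C.mat_A hA2])
    (by rw [← hG1eq, hG1, C.det_one hg1M]) hv0
  rw [← hG1eq] at hafix
  subst he
  let C' : Coord L :=
    { x := C.x, a := C.P a', x_H := C.x_H, x_M := C.x_M, x_ord := C.x_ord, x_c := C.x_c, a_A := C.P_mem _
      norm := by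
        rw [C.conj_P, C.conj_P, ← C.P_add, ← C.P_add, norm_X, ha1, mul_zero]
        exact C.P_zero
      a_one := fun q => ha2 (by rw [C.P_inj ((C.P_add _ _).trans (q.trans C.P_zero.symm))]; rfl)
      a_t := fun q => ha2 (by rw [C.P_inj ((C.P_add _ _).trans (q.trans C.P_t.symm))]) }
  have yc : g1 * L.c * g1⁻¹ = L.c⁻¹ := by
    rw [← C.P_c, C.conj_app hg1M, (app_basis _).1, ← hG1, hcol1, ← C.P_neg]
    rfl
  have ya : g1 * C'.a * g1⁻¹ = C'.a := by
    show g1 * C.P a' * g1⁻¹ = C.P a'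
    rw [C.conj_app hg1M, ← hG1, hafix]
  have hY : C'.mat g1 = mY := by
    refine C'.mat_cols hg1M ?_ ?_ ?_
    · rw [yc, show ((3, 0, 0) : E4) = -(1, 0, 0) by decide, C'.P_neg, C'.P_c]
    · rw [ya, C'.P_a]
    · rw [show ((0, 3, 3) : E4) = app mX (0, 0, 1) by decide, ← C'.conj_P, C'.P_b]
      show g1 * (C.x * C'.a * C.x⁻¹) * g1⁻¹ = C.x * (C.x * C'.a * C.x⁻¹) * C.x⁻¹
      calc g1 * (C.x * C'.a * C.x⁻¹) * g1⁻¹
          = (g1 * C.x * g1⁻¹) * (g1 * C'.a * g1⁻¹) * (g1 * C.x * g1⁻¹)⁻¹ := by group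
        _ = _ := by rw [hg1x, ya]; group
  have hsx : g1 * g1 * C.x = C.x * (g1 * g1) := by
    have : g1 * g1 * C.x * (g1 * g1)⁻¹ = C.x := by
      calc g1 * g1 * C.x * (g1 * g1)⁻¹ = g1 * (g1 * C.x * g1⁻¹) * g1⁻¹ := by group
        _ = g1 * (C.x * C.x) * g1⁻¹ := by rw [hg1x]
        _ = (g1 * C.x * g1⁻¹) * (g1 * C.x * g1⁻¹) := by group
        _ = C.x * C.x * C.x * C.x := by rw [hg1x]; group
        _ = C.x := by rw [C.x3, one_mul]
    exact mul_inv_eq_iff_eq_mul.1 this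
  obtain ⟨k, hk⟩ := C'.P_surj hA2
  have hk2 : k.2 = (0, 0) := fix_X k (C'.P_inj (by
    rw [← C'.conj_P, hk]
    show C.x * (g1 * g1) * C.x⁻¹ = g1 * g1
    rw [← hsx]; group))
  have hkY : app mY k = k := C'.P_inj (by rw [← hY, ← C'.conj_app hg1M, hk]; group)
  obtain ⟨j, hj⟩ := f7 k.1 (by
    have := congrArg Prod.fst hkY
    obtain ⟨a, b, c⟩ := k
    simp only [Prod.mk.injEq] at hk2
    obtain ⟨rfl, rfl⟩ := hk2
    simpa [app, sm, mY, mul_comm] using this)
  -- an involution in the coset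
  obtain ⟨r0, hr0, hr0A, hr02⟩ : ∃ r ∈ L.R, r ∉ L.A ∧ r * r = 1 := by
    obtain ⟨r, hr, hrA⟩ : ∃ r ∈ L.R, r ∉ L.A := by
      by_contra hcon
      push Not at hcon
      have := abelian_bound L.card_R L.c_four L.R_comm L.t_sq L.R_cent
        (fun r hr => (L.t_comm (L.R_le hr))) L.R le_rfl fun a ha b hb => L.A_comm a (hcon a ha) b (hcon b hb)
      rw [L.card_R] at this
      norm_num at this
    rcases L.R_sq r hr with q | q
    · exact ⟨r, hr, hrA, q⟩
    · refine ⟨r * L.c, mul_mem hr L.c_R, fun h => hrA (by simpa using mul_mem h (inv_mem L.c_A)), ?_⟩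
      calc r * L.c * (r * L.c) = r * (L.c * r) * L.c := by group
        _ = r * r * (L.c * L.c) := by rw [L.c_comm r hr]; group
        _ = 1 := by rw [q, L.c_sq, L.t_sq]
  have hr0M : r0 ∈ L.M := L.R_M hr0
  set T := C'.mat r0 with hT
  have hTc : T.1 = (1, 0, 0) := by
    refine C'.P_inj ?_
    rw [← (app_basis T).1, ← C'.conj_app hr0M, C'.P_c, ← L.c_comm r0 hr0]
    group
  have hTcol : ∀ w : E4, ∃ p : Bool, sm 2 (app T w) = w + w + (bif p then (2, 0, 0) else 0) := by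
    intro w
    have hV := C'.double_V w
    have e := C'.conj_app hr0M (w + w)
    rw [app_two] at e
    rcases L.R_comm r0 hr0 _ (L.V_le hV) with q | q
    · refine ⟨false, C'.P_inj ?_⟩
      rw [← hT] at e
      rw [← e, q, cond_false, add_zero]; group
    · refine ⟨true, C'.P_inj ?_⟩
      rw [← hT] at e
      rw [← e, q, cond_true, C'.P_add (w + w), C'.P_t, mul_assoc (C'.P (w + w)) r0, ← (L.t_comm (L.R_le hr0)).eq]
      group
  obtain ⟨p, hp⟩ := hTcol (0, 1, 0)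
  obtain ⟨q, hq⟩ := hTcol (0, 0, 1)
  rw [(app_basis T).2.1] at hp
  rw [(app_basis T).2.2] at hq
  have hT2 : r2 T = r2 (tv p q) := by
    simp only [r2, tv, hTc, hp, hq, Prod.mk.injEq]
    cases p <;> cases q <;> decide
  have hpq : (p || q) = true := by
    by_contra hcon
    simp only [Bool.or_eq_true, not_or, Bool.not_eq_true] at hcon
    obtain ⟨rfl, rfl⟩ := hcon
    exact hr0A (C'.mem_A_of_one hr0M (by rw [← hT, hT2]; decide))
  obtain ⟨K, hK, hKT⟩ := tv_conj p q hpq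
  obtain ⟨g2, hg2, hg2K⟩ := C'.realise (Coord.ofBits K) hK
  have hi : g1⁻¹ * (g2 * r0 * g2⁻¹) ∈ L.A := by
    refine C'.mem_A_of_r2 (mul_mem (mul_mem hg2 hr0M) (inv_mem hg2)) hg1M ?_
    rw [C'.mat_conj hg2 hr0M, ← hT, r2_left (r2_left hg2K T), r2_left (r2_right (Coord.ofBits K) hT2), r2_left hKT,
      mm_assoc, r2_right mY (r2_left hg2K.symm (C'.mat g2⁻¹)), C'.mat_inv hg2, mm_idM, hY]
  obtain ⟨v', hv'⟩ := C'.P_surj hi
  have hsq : g1 * C'.P v' * (g1 * C'.P v') = 1 := by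
    rw [hv', show g1 * (g1⁻¹ * (g2 * r0 * g2⁻¹)) = g2 * r0 * g2⁻¹ by group]
    calc g2 * r0 * g2⁻¹ * (g2 * r0 * g2⁻¹) = g2 * (r0 * r0) * g2⁻¹ := by group
      _ = 1 := by rw [hr02]; group
  have hkv : k = ((bif j then 2 else 0, 0, 0) : E4) := Prod.ext hj hk2
  have hjf : j = false := by
    refine square_Y v' j (C'.P_inj ?_)
    rw [C'.P_zero, ← hsq]
    have hk' : C'.P (bif j then (2, 0, 0) else 0) = g1 * g1 := by
      rw [← hk, hkv]; cases j <;> rfl
    rw [add_comm v', add_assoc, add_comm v', C'.P_add, C'.P_add, hk', ← hY, ← C'.conj_app hg1M]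
    group
  have hsq1 : g1 * g1 = 1 := by
    rw [← hk, hkv, hjf, ← C'.P_zero]
    rfl
  have hinv : g1⁻¹ = g1 := inv_eq_of_mul_eq_one_left hsq1
  refine ⟨C', rfl, ⟨⟨g1, hg1H, hg1M, hsq1, ?_, ?_, ?_⟩⟩⟩
  · show g1 * C.x * g1 * C.x = 1
    nth_rw 2 [← hinv]
    rw [hg1x, C.x3]
  · nth_rw 2 [← hinv]
    rw [yc, inv_mul_cancel]
  · nth_rw 2 [← hinv]
    exact ya

end Cfsg.Lib.HSLocal
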