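import Cfsg.Agent.HSLocal.Signed

/-!
The element of order seven of the normalizer.
-/

set_option autoImplicit false
set_option maxRecDepth 20000
set_option synthInstance.maxSize 4096
set_option synthInstance.maxHeartbeats 400000

namespace Cfsg.Lib.HSLocal

open Subgroup

theorem mU_facts : 2 * det3 mU ≠ 0 ∧ r2 (mpow mU 7) = r2 idM ∧
    r2 (mm mX mU) = r2 (mm (mm mU mU) mX) ∧ r2 (mpow (mm mY mU) 3) = r2 idM ∧
    r2 (mpow (mm mY (mm mX (mm mR (mm mU mU)))) 2) = r2 idM := by decide +kernel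

theorem moved_c : ∀ (q : ZMod 4) (u : E4), sm 2 u = (0, 0, 2) → sm q u = (q, 0, 0) → q = 0 := by decide +kernel

theorem lift_two : ∀ q r : ZMod 4, 2 * q = 2 * r → ∃ z : Bool, q = r + zt z := by decide +kernel

theorem g2_conj : ∃ k : Coord.Bits, 2 * det3 (Coord.ofBits k) ≠ 0 ∧
    r2 (mm (Coord.ofBits k) mR) = r2 (mm mG2 (Coord.ofBits k)) := by decide +kernel

theorem g2_normal : ∀ v : E4, ∃ i k : ZMod 4,
    -(app mG2 v + v) + (((-(i + k), 0, 0) : E4) + app mG2 (-k, 0, 0)) +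
      app mG2 (((-(i + k), 0, 0) : E4) + app mG2 (-k, 0, 0)) = 0 := by decide +kernel

theorem r2_pow {m m' : Mat} (h : r2 m = r2 m') : ∀ n, r2 (mpow m n) = r2 (mpow m' n)
  | 0 => rfl
  | n + 1 => by rw [mpow, mpow, r2_left (r2_pow h n), r2_right _ h]

theorem app_first (m : Mat) (q : ZMod 4) : app m (q, 0, 0) = sm q m.1 := by
  obtain ⟨⟨a, b, c⟩, ⟨d, e, f⟩, g, h, i⟩ := m
  simp [app, sm]

theorem eq_uCand {m : Mat} (h : r2 m = r2 mU) : ∃ a b c d e f g h' i, m = uCand a b c d e f g h' i := by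
  obtain ⟨⟨m1, m2, m3⟩, ⟨m4, m5, m6⟩, m7, m8, m9⟩ := m
  simp only [r2, sm, mU, Prod.mk.injEq] at h
  obtain ⟨⟨h1, h2, h3⟩, ⟨h4, h5, h6⟩, h7, h8, h9⟩ := h
  obtain ⟨a, rfl⟩ := lift_two _ _ h1
  obtain ⟨b, rfl⟩ := lift_two _ _ h2
  obtain ⟨c, rfl⟩ := lift_two _ _ h3
  obtain ⟨d, rfl⟩ := lift_two _ _ h4
  obtain ⟨e, rfl⟩ := lift_two _ _ h5
  obtain ⟨f, rfl⟩ := lift_two _ _ h6
  obtain ⟨g, rfl⟩ := lift_two _ _ h7
  obtain ⟨k, rfl⟩ := lift_two _ _ h8
  obtain ⟨i, rfl⟩ := lift_two _ _ h9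
  exact ⟨a, b, c, d, e, f, g, k, i, by simp [uCand]⟩

variable {G : Type*} [Group G] {L : Loc G} {C : Coord L} {I : Inv C}

/-- An element of order seven, in standard position. -/
structure Seven (S : Cent I) where
  u : G
  u_M : u ∈ L.M
  u_seven : u ^ 7 = 1
  u_x : C.x * u * C.x⁻¹ = u * u
  u_c : u * L.c * u⁻¹ = C.P (2, 0, 3)
  u_a : u * C.a * u⁻¹ = C.P (1, 3, 0)
  u_b : u * C.b * u⁻¹ = C.P (2, 3, 1)
  sq : I.y * C.x * S.r * u * u * (I.y * C.x * S.r * u * u) = 1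
  cube : ∃ j : Fin 4, I.y * u * (I.y * u) * (I.y * u) = C.P (alV j)

theorem Coord.first_x (C : Coord L) (i : ZMod 4) : Commute C.x (C.P (i, 0, 0)) := by
  rw [C.P_first]; exact Commute.pow_right C.x_c _

/-- The inverting involution moved by the central element. -/
theorem Inv.shift (I : Inv C) (i : ℕ) : ∃ I' : Inv C, I'.y = I.y * L.c ^ i := by
  have hcy : L.c ^ i * I.y = I.y * (L.c ^ i)⁻¹ := by
    have : I.y * L.c ^ i * I.y⁻¹ = (L.c⁻¹) ^ i := by rw [← conj_pow, I.inv_y, I.ycy]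
    rw [inv_pow] at this
    calc L.c ^ i * I.y = (I.y * L.c ^ i * I.y⁻¹)⁻¹ * I.y := by rw [this, inv_inv]
      _ = I.y * (L.c ^ i)⁻¹ := by group
  have hx : Commute (L.c ^ i) C.x := (Commute.pow_right C.x_c i).symm
  have hc : Commute (L.c ^ i) L.c := Commute.pow_self _ _
  have ha : Commute (L.c ^ i) C.a := L.A_comm _ (pow_mem L.c_A _) _ C.a_A
  refine ⟨⟨I.y * L.c ^ i, mul_mem I.y_H (pow_mem L.c_H _), mul_mem I.y_M (L.A_le (pow_mem L.c_A _)), ?_, ?_, ?_, ?_⟩,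
    rfl⟩
  · calc I.y * L.c ^ i * (I.y * L.c ^ i) = I.y * (L.c ^ i * I.y) * L.c ^ i := by group
      _ = I.y * I.y := by rw [hcy]; group
      _ = 1 := I.y_sq
  · calc I.y * L.c ^ i * C.x * (I.y * L.c ^ i) * C.x
        = I.y * C.x * (L.c ^ i * I.y) * (C.x * L.c ^ i) := by
          rw [show I.y * L.c ^ i * C.x * (I.y * L.c ^ i) * C.x = I.y * (L.c ^ i * C.x) * I.y * (L.c ^ i * C.x) by group,
            hx.eq]; group
      _ = I.y * C.x * (L.c ^ i * I.y) * (L.c ^ i * C.x) := by rw [hx.eq]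
      _ = I.y * C.x * I.y * ((L.c ^ i)⁻¹ * L.c ^ i) * C.x := by rw [hcy]; group
      _ = 1 := by rw [inv_mul_cancel, mul_one, I.y_x]
  · calc I.y * L.c ^ i * L.c * (I.y * L.c ^ i) * L.c
        = I.y * L.c * (L.c ^ i * I.y) * (L.c * L.c ^ i) := by
          rw [show I.y * L.c ^ i * L.c * (I.y * L.c ^ i) * L.c = I.y * (L.c ^ i * L.c) * I.y * (L.c ^ i * L.c) by group,
            hc.eq]; group
      _ = I.y * L.c * (L.c ^ i * I.y) * (L.c ^ i * L.c) := by rw [hc.eq]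
      _ = I.y * L.c * I.y * ((L.c ^ i)⁻¹ * L.c ^ i) * L.c := by rw [hcy]; group
      _ = 1 := by rw [inv_mul_cancel, mul_one, I.y_c]
  · calc I.y * L.c ^ i * C.a * (I.y * L.c ^ i) = I.y * C.a * (L.c ^ i * I.y) * L.c ^ i := by
          rw [mul_assoc I.y, ha.eq]; group
      _ = I.y * C.a * I.y := by rw [hcy]; group
      _ = C.a := I.y_a

theorem Cent.shift (S : Cent I) {I' : Inv C} {i : ℕ} (h : I'.y = I.y * L.c ^ i) :
    ∃ S' : Cent I', S'.s = S.s := by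
  obtain ⟨k, hk⟩ := S.s_y
  have hcs : L.c ^ i * S.s = S.s * (L.c ^ i)⁻¹ := by
    have : S.s * L.c ^ i * S.s⁻¹ = (L.c⁻¹) ^ i := by rw [← conj_pow, S.inv_s, S.scs]
    rw [inv_pow] at this
    calc L.c ^ i * S.s = (S.s * L.c ^ i * S.s⁻¹)⁻¹ * S.s := by rw [this, inv_inv]
      _ = S.s * (L.c ^ i)⁻¹ := by group
  have hyc : (L.c ^ i)⁻¹ * I.y = I.y * L.c ^ i := by
    have : I.y * L.c ^ i * I.y⁻¹ = (L.c⁻¹) ^ i := by rw [← conj_pow, I.inv_y, I.ycy]
    rw [inv_pow] at this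
    rw [← this]; group
  refine ⟨⟨S.s, S.s_H, S.s_sq, S.s_x, S.s_c, ⟨k + i + i, ?_⟩, S.φ_s⟩, rfl⟩
  rw [h]
  calc I.y * L.c ^ i * S.s * (I.y * L.c ^ i) = I.y * (L.c ^ i * S.s) * I.y * L.c ^ i := by group
    _ = I.y * S.s * ((L.c ^ i)⁻¹ * I.y) * L.c ^ i := by rw [hcs]; group
    _ = (I.y * S.s * I.y) * L.c ^ i * L.c ^ i := by rw [hyc]; group
    _ = _ := by rw [hk, pow_add, pow_add]; group

variable [Finite G]

theorem Cent.mat_r (S : Cent I) (ha : S.r * C.a * S.r = C.a⁻¹) (hb : S.r * C.b * S.r = C.P (1, 2, 3)) :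
    C.mat S.r = mR := by
  refine C.mat_cols S.r_M ?_ ?_ ?_
  · rw [C.P_c, S.r_c]; group
  · rw [S.inv_r, ha, show ((0, 3, 0) : E4) = -(0, 1, 0) by decide, C.P_neg, C.P_a]
  · rw [S.inv_r, hb]

/-- An element of order seven exists, after moving the inverting involution. -/
theorem exists_seven (S : Cent I) (ha : S.r * C.a * S.r = C.a⁻¹) (hb : S.r * C.b * S.r = C.P (1, 2, 3)) :
    ∃ (I' : Inv C) (S' : Cent I'), S'.s = S.s ∧ Nonempty (Seven S') := by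
  classical
  obtain ⟨f1, f2, f3, f4, f5⟩ := mU_facts
  obtain ⟨g, hg, hgU⟩ := C.realise mU f1
  have h7A : g ^ 7 ∈ L.A := C.mem_A_of_one (pow_mem hg 7) (by rw [C.mat_pow hg, r2_pow hgU, f2])
  set u0 := g ^ 8 with hu0
  have hu0M : u0 ∈ L.M := pow_mem hg 8
  have hu07 : u0 ^ 7 = 1 := by
    rw [hu0, ← pow_mul, show 8 * 7 = 7 * 4 * 2 by norm_num, pow_mul, pow_mul, L.A_exp _ h7A, one_pow]
  have hG : C.mat u0 = C.mat g := by rw [hu0, pow_succ, C.mat_Amul hg h7A]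
  clear_value u0
  set Gm := C.mat g with hGm
  have hxu : C.x * u0 * C.x⁻¹ ∈ L.M := mul_mem (mul_mem C.x_M hu0M) (inv_mem C.x_M)
  have huu : u0 * u0 ∈ L.M := mul_mem hu0M hu0M
  have hq : (u0 * u0)⁻¹ * (C.x * u0 * C.x⁻¹) ∈ L.A := by
    refine C.mem_A_of_r2 hxu huu ?_
    rw [C.mat_conj C.x_M hu0M, C.mat_mul hu0M hu0M, hG, C.mat_x, r2_left (r2_right mX hgU), r2_left f3,
      ← r2_left (r2_left (r2_right mU hgU) mX), ← r2_left (r2_left (r2_left hgU Gm) mX), mm_assoc,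
      ← C.mat_x, C.mat_inv C.x_M, mm_idM]
  set w := C.x * u0 * C.x⁻¹ with hw
  have hstep : ∀ β ∈ L.A, w * β * (u0 * u0)⁻¹ ∈ L.A := fun β hβ => by
    have e : w * β * (u0 * u0)⁻¹ =
        (w * β * w⁻¹) * ((u0 * u0) * ((u0 * u0)⁻¹ * w) * (u0 * u0)⁻¹) := by group
    rw [e]
    exact mul_mem (L.A_norm _ hxu _ hβ) (L.A_norm _ huu _ hq)
  let f : L.A → L.A := fun β => ⟨w * β * (u0 * u0)⁻¹, hstep β β.2⟩
  have hf : Function.Injective f := fun β β' e => by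
    have := congrArg Subtype.val e
    exact Subtype.ext (mul_left_cancel (mul_right_cancel this))
  let σ : Equiv.Perm L.A := Equiv.ofBijective f (Finite.injective_iff_bijective.1 hf)
  have hσ : ∀ (n : ℕ) (β : L.A), (((σ ^ n) β : L.A) : G) = w ^ n * β * ((u0 * u0) ^ n)⁻¹ := by
    intro n
    induction n with
    | zero => intro β; simp
    | succ n ih =>
      intro β
      rw [pow_succ', Equiv.Perm.mul_apply]
      show w * ((σ ^ n) β : G) * (u0 * u0)⁻¹ = _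
      rw [ih, pow_succ' w, pow_succ' (u0 * u0), mul_inv_rev]
      simp only [mul_assoc, mul_inv_rev]
  haveI : Fact (Nat.Prime 7) := ⟨by norm_num⟩
  haveI : Fintype L.A := Fintype.ofFinite _
  obtain ⟨β, hβ⟩ := Equiv.Perm.exists_fixed_point_of_prime (p := 7) (n := 1) (σ := σ)
    (by rw [← Nat.card_eq_fintype_card, L.card_A]; norm_num)
    (Equiv.ext fun β => Subtype.ext (by
      rw [pow_one, hσ, hw, conj_pow, ← pow_two, ← pow_mul, mul_comm 2 7, pow_mul, hu07, one_pow]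
      simp))
  have hβ' : w * β * (u0 * u0)⁻¹ = β := congrArg Subtype.val hβ
  obtain ⟨v, hv⟩ := C.P_surj β.2
  have hwv : C.x * u0 * C.x⁻¹ = C.P v * (u0 * u0) * (C.P v)⁻¹ := by
    rw [← hw, hv, eq_mul_inv_iff_mul_eq, ← mul_inv_eq_iff_eq_mul]
    exact hβ' 
  have hv1 : v.1 = 0 := by
    set z := (C.P v)⁻¹ * C.x with hz
    have hz1 : z * u0 * z⁻¹ = u0 * u0 := by
      calc z * u0 * z⁻¹ = (C.P v)⁻¹ * (C.x * u0 * C.x⁻¹) * C.P v := by rw [hz]; group
        _ = u0 * u0 := by rw [hwv]; group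
    have hz3 : z * z * z = C.P (-(3 * v.1), 0, 0) := by
      calc z * z * z = C.P (-v) * (C.x * C.P (-v) * C.x⁻¹) * (C.x * C.x * C.P (-v) * (C.x * C.x)⁻¹) *
            (C.x * C.x * C.x) := by rw [hz, C.P_neg]; group
        _ = C.P (-v + app mX (-v) + app mX (app mX (-v))) := by
            rw [C.conj_P, C.conj_P2, C.x3, mul_one, C.P_add, C.P_add]
        _ = _ := by
            congr 1
            rw [add_comm (-v), add_assoc, add_comm (app mX (-v)), add_comm (-v) (app mX (app mX (-v)))]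
            rw [add_assoc, add_comm (-v), ← add_assoc, norm_X]
            simp
    have hfix : z * z * z * u0 * (z * z * z)⁻¹ = u0 := by
      calc z * z * z * u0 * (z * z * z)⁻¹ = z * (z * (z * u0 * z⁻¹) * z⁻¹) * z⁻¹ := by group
        _ = z * (z * (u0 * u0) * z⁻¹) * z⁻¹ := by rw [hz1]
        _ = z * ((z * u0 * z⁻¹) * (z * u0 * z⁻¹)) * z⁻¹ := by group
        _ = z * (u0 * u0 * (u0 * u0)) * z⁻¹ := by rw [hz1]
        _ = (z * u0 * z⁻¹) * (z * u0 * z⁻¹) * ((z * u0 * z⁻¹) * (z * u0 * z⁻¹)) := by group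
        _ = u0 * u0 ^ 7 := by rw [hz1]; simp only [pow_succ, pow_zero, one_mul, mul_assoc]
        _ = u0 := by rw [hu07, mul_one]
    rw [hz3] at hfix
    have hq2 : sm (-(3 * v.1)) Gm.1 = (-(3 * v.1), 0, 0) := by
      refine C.P_inj ?_
      rw [← app_first, ← hG, ← C.conj_app hu0M]
      nth_rw 1 [← hfix]
      group
    have hcol : sm 2 Gm.1 = (0, 0, 2) := by
      have : sm 2 Gm.1 = sm 2 mU.1 := congrArg Prod.fst hgU
      rw [this]; decide
    have h0 := moved_c _ _ hcol hq2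
    have key : ∀ q : ZMod 4, -(3 * q) = 0 → q = 0 := by decide
    exact key _ h0
  obtain ⟨w', hw'⟩ := comm_X' v hv1
  set u1 := C.P w' * u0 * (C.P w')⁻¹ with hu1
  have hu1M : u1 ∈ L.M := mul_mem (mul_mem (L.A_le (C.P_mem _)) hu0M) (inv_mem (L.A_le (C.P_mem _)))
  have hu17 : u1 ^ 7 = 1 := by rw [hu1, conj_pow, hu07, mul_one, mul_inv_cancel]
  have hu1x : C.x * u1 * C.x⁻¹ = u1 * u1 := by
    have e : app mX w' + v = w' := by rw [← hw']; abel
    calc C.x * u1 * C.x⁻¹ = (C.x * C.P w' * C.x⁻¹) * (C.x * u0 * C.x⁻¹) * (C.x * C.P w' * C.x⁻¹)⁻¹ := by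
          rw [hu1]; group
      _ = (C.P (app mX w') * C.P v) * (u0 * u0) * (C.P (app mX w') * C.P v)⁻¹ := by
          rw [C.conj_P, hwv]; group
      _ = u1 * u1 := by rw [← C.P_add, e, hu1]; group
  have hu1U : r2 (C.mat u1) = r2 mU := by
    rw [hu1, C.mat_mulA (mul_mem (L.A_le (C.P_mem _)) hu0M) (inv_mem (C.P_mem _)),
      C.mat_Amul hu0M (C.P_mem _), hG, hgU]
  have hr := S.mat_r ha hb
  have hmat : C.mat u1 = mU := by
    obtain ⟨a, b, c, d, e, f, g', h', i, hc⟩ := eq_uCand hu1U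
    have k1 : mpow (C.mat u1) 7 = idM := by rw [← C.mat_pow hu1M, hu17, C.mat_one]
    have k2 : mm mX (C.mat u1) = mm (mm (C.mat u1) (C.mat u1)) mX := by
      rw [← C.mat_x, ← C.mat_mul C.x_M hu1M, ← C.mat_mul hu1M hu1M, ← C.mat_mul (mul_mem hu1M hu1M) C.x_M,
        ← hu1x]
      congr 1; group
    have k3 : mpow (mm mY (C.mat u1)) 3 = idM := by
      have hyu : I.y * u1 ∈ L.M := mul_mem I.y_M hu1M
      rw [← I.mat_y, ← C.mat_mul I.y_M hu1M, ← C.mat_pow hyu]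
      refine C.mat_A (C.mem_A_of_one (pow_mem hyu 3) ?_)
      rw [C.mat_pow hyu, C.mat_mul I.y_M hu1M, I.mat_y, r2_pow (r2_right mY hu1U), f4]
    have k4 : mpow (mm mY (mm mX (mm mR (mm (C.mat u1) (C.mat u1))))) 2 = idM := by
      have h1 : u1 * u1 ∈ L.M := mul_mem hu1M hu1M
      have h2 : S.r * (u1 * u1) ∈ L.M := mul_mem S.r_M h1
      have h3 : C.x * (S.r * (u1 * u1)) ∈ L.M := mul_mem C.x_M h2
      have h4 : I.y * (C.x * (S.r * (u1 * u1))) ∈ L.M := mul_mem I.y_M h3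
      rw [← I.mat_y, ← C.mat_x, ← hr, ← C.mat_mul hu1M hu1M, ← C.mat_mul S.r_M h1, ← C.mat_mul C.x_M h2,
        ← C.mat_mul I.y_M h3, ← C.mat_pow h4]
      refine C.mat_A (C.mem_A_of_one (pow_mem h4 2) ?_)
      rw [C.mat_pow h4, C.mat_mul I.y_M h3, C.mat_mul C.x_M h2, C.mat_mul S.r_M h1, C.mat_mul hu1M hu1M,
        I.mat_y, C.mat_x, hr]
      rw [r2_pow (r2_right mY (r2_right mX (r2_right mR
        ((r2_left hu1U (C.mat u1)).trans (r2_right mU hu1U))))), f5]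
    rw [hc] at k1 k2 k3 k4 ⊢
    exact seven_U a b c d e f g' h' i k1 k2 k3 k4
  -- normalisation of the square
  set E := I.y * C.x * S.r * u1 * u1 with hE
  have hEM : E ∈ L.M := mul_mem (mul_mem (mul_mem (mul_mem I.y_M C.x_M) S.r_M) hu1M) hu1M
  have hmatE : C.mat E = mG2 := by
    rw [hE, C.mat_mul (mul_mem (mul_mem (mul_mem I.y_M C.x_M) S.r_M) hu1M) hu1M,
      C.mat_mul (mul_mem (mul_mem I.y_M C.x_M) S.r_M) hu1M, C.mat_mul (mul_mem I.y_M C.x_M) S.r_M,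
      C.mat_mul I.y_M C.x_M, I.mat_y, C.mat_x, hr, hmat, mG2, mm_assoc, mm_assoc, mm_assoc]
  have hT : E * E ∈ L.A := C.mem_A_of_one (mul_mem hEM hEM) (by
    rw [C.mat_mul hEM hEM, hmatE]; decide +kernel)
  obtain ⟨T, hT'⟩ := C.P_surj hT
  obtain ⟨K, hK, hKR⟩ := g2_conj
  obtain ⟨g2, hg2, hg2K⟩ := C.realise (Coord.ofBits K) hK
  have hi : E⁻¹ * (g2 * S.r * g2⁻¹) ∈ L.A := by
    refine C.mem_A_of_r2 (mul_mem (mul_mem hg2 S.r_M) (inv_mem hg2)) hEM ?_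
    rw [C.mat_conj hg2 S.r_M, hr, r2_left (r2_left hg2K mR), r2_left hKR, mm_assoc,
      r2_right mG2 (r2_left hg2K.symm (C.mat g2⁻¹)), C.mat_inv hg2, mm_idM, hmatE]
  obtain ⟨v2, hv2⟩ := C.P_surj hi
  have hTv : app mG2 v2 + T + v2 = 0 := by
    refine C.P_inj ?_
    rw [C.P_zero, C.P_add, C.P_add, ← hmatE, ← C.conj_app hEM, hT', hv2]
    calc E * (E⁻¹ * (g2 * S.r * g2⁻¹)) * E⁻¹ * (E * E) * (E⁻¹ * (g2 * S.r * g2⁻¹))
        = g2 * (S.r * S.r) * g2⁻¹ := by group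
      _ = 1 := by rw [S.r_sq]; group
  obtain ⟨i, k, hik⟩ := g2_normal v2
  obtain ⟨I', hI'⟩ := I.shift i.val
  obtain ⟨S', hS'⟩ := S.shift hI'
  refine ⟨I', S', hS', ⟨?_⟩⟩
  have hSr : S'.r = S.r := by rw [Cent.r, Cent.r, hS']
  set pk := C.P (k, 0, 0) with hpk
  set u := pk * u1 * pk⁻¹ with hu
  have hpkM : pk ∈ L.M := L.A_le (C.P_mem _)
  have huM : u ∈ L.M := mul_mem (mul_mem hpkM hu1M) (inv_mem hpkM)
  have hum : C.mat u = mU := by
    rw [hu, C.mat_mulA (mul_mem hpkM hu1M) (inv_mem (C.P_mem _)), C.mat_Amul hu1M (C.P_mem _), hmat]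
  have hcol : ∀ e : E4, u * C.P e * u⁻¹ = C.P (app mU e) := fun e => by rw [C.conj_app huM, hum]
  have hu7 : u ^ 7 = 1 := by rw [hu, conj_pow, hu17, mul_one, mul_inv_cancel]
  have hux : C.x * u * C.x⁻¹ = u * u := by
    have hc : Commute C.x pk := C.first_x k
    calc C.x * u * C.x⁻¹ = (C.x * pk) * u1 * (C.x * pk)⁻¹ := by rw [hu]; group
      _ = pk * (C.x * u1 * C.x⁻¹) * pk⁻¹ := by rw [hc.eq]; group
      _ = u * u := by rw [hu1x, hu]; group
  refine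
    { u := u, u_M := huM, u_seven := hu7, u_x := hux
      u_c := by rw [← C.P_c, hcol, (app_basis mU).1]; rfl
      u_a := by rw [← C.P_a, hcol, (app_basis mU).2.1]; rfl
      u_b := by rw [← C.P_b, hcol, (app_basis mU).2.2]; rfl
      sq := ?_, cube := ?_ }
  · rw [hSr, hI']
    set pi := C.P (i, 0, 0) with hpi
    have hci : L.c ^ i.val = pi := (C.P_first i).symm
    rw [hci]
    have hpr : Commute S.r pk := by
      rw [hpk, C.P_first]; exact Commute.pow_right S.r_c _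
    have hpx : Commute C.x pk := C.first_x k
    set p : E4 := (-(i + k), 0, 0) + app mG2 (-k, 0, 0) with hp
    have hE' : I.y * pi * C.x * S.r * u * u = C.P p * E := by
      have e0 : I.y * C.P (i + k, 0, 0) * I.y⁻¹ = C.P (-(i + k), 0, 0) := by
        rw [C.conj_app I.y_M, I.mat_y, app_first]
        congr 1
        have : ∀ q : ZMod 4, sm q mY.1 = (-q, 0, 0) := by decide
        exact this _
      calc I.y * pi * C.x * S.r * u * u = I.y * pi * (C.x * (S.r * pk)) * u1 * u1 * pk⁻¹ := by rw [hu]; group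
        _ = I.y * pi * ((C.x * pk) * S.r) * u1 * u1 * pk⁻¹ := by rw [hpr.eq]; group
        _ = (I.y * (pi * pk) * I.y⁻¹) * (E * pk⁻¹ * E⁻¹) * E := by rw [hpx.eq, hE]; group
        _ = C.P (-(i + k), 0, 0) * C.P (app mG2 (-k, 0, 0)) * E := by
            rw [hpi, hpk, ← C.P_add, show ((i, 0, 0) : E4) + (k, 0, 0) = (i + k, 0, 0) by simp, e0, ← C.P_neg,
              C.conj_app hEM, hmatE]
            simp
        _ = _ := by rw [hp, C.P_add]
    rw [hE', show C.P p * E * (C.P p * E) = C.P p * (E * C.P p * E⁻¹) * (E * E) by group, C.conj_app hEM, hmatE,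
      ← hT', ← C.P_add, ← C.P_add, ← C.P_zero]
    congr 1
    rw [show T = -(app mG2 v2 + v2) from eq_neg_of_add_eq_zero_left (by rw [← hTv]; abel)]
    rw [← hik]
    abel
  · have hy'u : I'.y * u ∈ L.M := mul_mem I'.y_M huM
    have hm : C.mat (I'.y * u) = mG3 := by rw [C.mat_mul I'.y_M huM, I'.mat_y, hum, mG3]
    have hA : I'.y * u * (I'.y * u) * (I'.y * u) ∈ L.A := C.mem_A_of_one (mul_mem (mul_mem hy'u hy'u) hy'u) (by
      rw [C.mat_mul (mul_mem hy'u hy'u) hy'u, C.mat_mul hy'u hy'u, hm]; decide +kernel)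
    obtain ⟨v3, hv3⟩ := C.P_surj hA
    obtain ⟨j, rfl⟩ := cube_values v3 (C.P_inj (by
      rw [← hm, ← C.conj_app hy'u, hv3]; group))
    exact ⟨j, hv3.symm⟩

end Cfsg.Lib.HSLocal
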