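import Cfsg.Agent.HSLocal.Transv

/-!
The action of the transvection, with the sign of the central element chosen.
-/

set_option autoImplicit false
set_option maxRecDepth 20000
set_option synthInstance.maxSize 4096
set_option synthInstance.maxHeartbeats 400000

namespace Cfsg.Lib.HSLocal

open Subgroup

theorem sq_vectors : (∀ i : ZMod 4, (i, 0, 0) ≠ ((0 : ZMod 4), (2 : ZMod 4), (0 : ZMod 4))) ∧
    wv (true, false) = (0, 2, 0) ∧ wv (false, true) = (0, 0, 2) ∧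
    (∀ v : Bool × Bool, wv v = (0, 0, 0) ∨ wv v = (0, 2, 0) ∨ wv v = (0, 0, 2) ∨ wv v = (0, 2, 0) + (0, 0, 2)) ∧
    app mX (app mX (0, 2, 0)) + app mX (0, 2, 0) + (0, 2, 0) = (0 : E4) ∧ app mX (0, 2, 0) = (0, 0, 2) := by
  decide +kernel

variable {G : Type*} [Group G] {L : Loc G} {C : Coord L} {I : Inv C}

theorem Inv.inv_y (I : Inv C) : I.y⁻¹ = I.y := inv_eq_of_mul_eq_one_left I.y_sq

theorem Inv.yxy (I : Inv C) : I.y * C.x * I.y = C.x⁻¹ := eq_inv_of_mul_eq_one_left I.y_x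

theorem Inv.ycy (I : Inv C) : I.y * L.c * I.y = L.c⁻¹ := eq_inv_of_mul_eq_one_left I.y_c

theorem Inv.mat_y [Finite G] (I : Inv C) : C.mat I.y = mY := by
  refine C.mat_cols I.y_M ?_ ?_ ?_
  · rw [I.inv_y, I.ycy, show ((3, 0, 0) : E4) = -(1, 0, 0) by decide, C.P_neg, C.P_c]
  · rw [I.inv_y, I.y_a, C.P_a]
  · rw [show ((0, 3, 3) : E4) = app mX (0, 0, 1) by decide, ← C.conj_P, C.P_b, Coord.b]
    calc I.y * (C.x * C.a * C.x⁻¹) * I.y⁻¹
        = (I.y * C.x * I.y⁻¹) * (I.y * C.a * I.y⁻¹) * (I.y * C.x * I.y⁻¹)⁻¹ := by group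
      _ = C.x * C.x * C.a * (C.x * C.x)⁻¹ := by rw [I.inv_y, I.yxy, I.y_a, ← C.x_inv]
      _ = _ := by group

namespace Cent

variable (S : Cent I)

theorem inv_s : S.s⁻¹ = S.s := inv_eq_of_mul_eq_one_left S.s_sq

theorem aa : C.P (0, 2, 0) = C.a * C.a := by
  rw [show ((0, 2, 0) : E4) = (0, 1, 0) + (0, 1, 0) by decide, C.P_add, C.P_a]

theorem bb : C.P (0, 0, 2) = C.b * C.b := by
  rw [show ((0, 0, 2) : E4) = (0, 0, 1) + (0, 0, 1) by decide, C.P_add, C.P_b]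

theorem r_eq : S.r = S.s * C.P (0, 2, 0) * S.s⁻¹ := by rw [Cent.r, aa, S.inv_s]

theorem r_R : S.r ∈ L.R := by
  rw [S.r_eq, ← sq_vectors.2.1]
  exact L.R_norm _ S.s_H _ (L.V_le (C.wv_V _))

theorem conj_sP (v : E4) : C.x * (S.s * C.P v * S.s⁻¹) * C.x⁻¹ = S.s * C.P (app mX v) * S.s⁻¹ := by
  rw [← C.conj_P]
  calc C.x * (S.s * C.P v * S.s⁻¹) * C.x⁻¹ = (C.x * S.s) * C.P v * (C.x * S.s)⁻¹ := by group
    _ = (S.s * C.x) * C.P v * (S.s * C.x)⁻¹ := by rw [S.s_x]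
    _ = _ := by group

theorem r_conj : C.x * S.r * C.x⁻¹ = S.s * C.P (0, 0, 2) * S.s⁻¹ := by
  rw [S.r_eq, S.conj_sP, sq_vectors.2.2.2.2.2]

theorem r_sq : S.r * S.r = 1 := by
  rw [S.r_eq, conj_mul, ← C.P_add]
  rw [show ((0, 2, 0) : E4) + (0, 2, 0) = 0 by decide, C.P_zero, mul_one, mul_inv_cancel]

theorem r_y : I.y * S.r = S.r * I.y := by
  obtain ⟨k, hk⟩ := S.s_y
  have h : I.y * S.r * I.y = S.r := by
    have hA : Commute (L.c ^ k) (C.a * C.a) :=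
      L.A_comm _ (pow_mem L.c_A _) _ (mul_mem C.a_A C.a_A)
    calc I.y * S.r * I.y = I.y * S.r * I.y⁻¹ := by rw [I.inv_y]
      _ = (I.y * S.s * I.y⁻¹) * ((I.y * C.a * I.y⁻¹) * (I.y * C.a * I.y⁻¹)) * (I.y * S.s * I.y⁻¹)⁻¹ := by
          rw [Cent.r]; nth_rw 2 [← S.inv_s]; group
      _ = S.s * L.c ^ k * (C.a * C.a) * (S.s * L.c ^ k)⁻¹ := by rw [I.inv_y, hk, I.y_a]
      _ = S.s * (L.c ^ k * (C.a * C.a) * (L.c ^ k)⁻¹) * S.s⁻¹ := by group
      _ = S.r := by rw [hA.eq, Cent.r, S.inv_s]; group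
  calc I.y * S.r = I.y * S.r * I.y * I.y⁻¹ := by group
    _ = S.r * I.y := by rw [h, I.inv_y]

theorem norm_r : C.x * (C.x * S.r * C.x⁻¹) * C.x⁻¹ * (C.x * S.r * C.x⁻¹) * S.r = 1 := by
  rw [S.r_eq, S.conj_sP, S.conj_sP, conj_mul, conj_mul, ← C.P_add, ← C.P_add, sq_vectors.2.2.2.2.1, C.P_zero,
    mul_one, mul_inv_cancel]

theorem r_comm : S.r * (C.x * S.r * C.x⁻¹) = C.x * S.r * C.x⁻¹ * S.r := by
  rw [S.r_conj, S.r_eq, conj_mul, conj_mul, ← C.P_add, ← C.P_add, add_comm]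

variable [Finite G]

/-- The transvection centralises the square of the generator and moves that of its conjugate. -/
theorem pairing (hx : L.φ ⟨C.x, C.x_H⟩ = sig0) :
    S.r * (C.a * C.a) = C.a * C.a * S.r ∧ S.r * (C.b * C.b) ≠ C.b * C.b * S.r := by
  classical
  set A := C.P (0, 2, 0) with hA
  set B := C.P (0, 0, 2) with hB
  set r := S.r with hr
  set r' := C.x * S.r * C.x⁻¹ with hr'
  rw [← aa, ← bb, ← hA, ← hB]
  have hAV : A ∈ L.V := by rw [hA, ← sq_vectors.2.1]; exact C.wv_V _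
  have hBV : B ∈ L.V := by rw [hB, ← sq_vectors.2.2.1]; exact C.wv_V _
  have hrR : r ∈ L.R := S.r_R
  have hr'R : r' ∈ L.R := L.R_norm _ C.x_H _ hrR
  have hAB : Commute A B := L.A_comm _ (C.P_mem _) _ (C.P_mem _)
  have hrr' : Commute r r' := S.r_comm
  have hxA : C.x * A * C.x⁻¹ = B := by rw [hA, hB, C.conj_P, sq_vectors.2.2.2.2.2]
  have hsA : S.s * A * S.s⁻¹ = r := S.r_eq.symm
  have hsB : S.s * B * S.s⁻¹ = r' := S.r_conj.symm
  have hsr : S.s * r * S.s⁻¹ = A := by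
    rw [← hsA]
    calc S.s * (S.s * A * S.s⁻¹) * S.s⁻¹ = (S.s * S.s) * A * (S.s * S.s)⁻¹ := by group
      _ = A := by rw [S.s_sq]; group
  have hsr' : S.s * r' * S.s⁻¹ = B := by
    rw [← hsB]
    calc S.s * (S.s * B * S.s⁻¹) * S.s⁻¹ = (S.s * S.s) * B * (S.s * S.s)⁻¹ := by group
      _ = B := by rw [S.s_sq]; group
  have hts : ∀ {h : G}, h ∈ L.H → h * L.t * h⁻¹ = L.t := fun hh => by rw [← (L.t_comm hh).eq]; group
  have hxr : C.x * r * C.x⁻¹ = r' := rfl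
  obtain ⟨z, hz, hq⟩ : ∃ z, (z = 1 ∨ z = L.t) ∧ A * r' = r' * A * z := by
    rcases L.R_comm A (L.V_le hAV) r' hr'R with e | e
    · exact ⟨1, Or.inl rfl, by rw [mul_one]; exact e⟩
    · exact ⟨L.t, Or.inr rfl, e⟩
  have hzH : z ∈ L.H ∧ z * z = 1 ∧ ∀ {g : G}, g ∈ L.H → Commute z g := by
    rcases hz with rfl | rfl
    · exact ⟨one_mem _, one_mul 1, fun _ => Commute.one_left _⟩
    · exact ⟨L.R_le L.t_R, L.t_sq, fun hg => L.t_comm hg⟩
  have hq2 : r * B = B * r * z := by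
    calc r * B = (S.s * A * S.s⁻¹) * (S.s * r' * S.s⁻¹) := by rw [hsA, hsr']
      _ = S.s * (A * r') * S.s⁻¹ := by group
      _ = (S.s * r' * S.s⁻¹) * (S.s * A * S.s⁻¹) * (S.s * z * S.s⁻¹) := by rw [hq]; group
      _ = B * r * z := by rw [hsA, hsr', ← (hzH.2.2 S.s_H).eq]; group
  have hq3 : B * r = r * B * z := by
    rw [hq2, mul_assoc (B * r), hzH.2.1, mul_one]
  have hcom : A * r = r * A := by
    rcases L.R_comm A (L.V_le hAV) r hrR with e | e
    · exact e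
    exfalso
    have e' : B * r' = r' * B * L.t := by
      calc B * r' = C.x * (A * r) * C.x⁻¹ := by rw [← hxA, ← hxr]; group
        _ = (C.x * r * C.x⁻¹) * (C.x * A * C.x⁻¹) * (C.x * L.t * C.x⁻¹) := by rw [e]; group
        _ = r' * B * L.t := by rw [hxr, hxA, hts C.x_H]
    have hxB : C.x * B * C.x⁻¹ = A * B := by
      rw [hA, hB, C.conj_P, ← C.P_add]; exact congrArg C.P (by decide)
    have hxr' : C.x * r' * C.x⁻¹ = r * r' := by
      rw [← hsA, ← hsB, S.conj_sP, conj_mul, hA, hB, ← C.P_add]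
      exact congrArg (fun v => S.s * C.P v * S.s⁻¹) (by decide)
    have e'' : A * B * (r * r') = r * r' * (A * B) * L.t := by
      calc A * B * (r * r') = C.x * (B * r') * C.x⁻¹ := by rw [← hxB, ← hxr']; group
        _ = (C.x * r' * C.x⁻¹) * (C.x * B * C.x⁻¹) * (C.x * L.t * C.x⁻¹) := by rw [e']; group
        _ = _ := by rw [hxr', hxB, hts C.x_H]
    have hzr' : Commute z r' := hzH.2.2 (L.R_le hr'R)
    have hzA : Commute z A := hzH.2.2 (L.A_H (C.P_mem _))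
    have hzB : Commute z B := hzH.2.2 (L.A_H (C.P_mem _))
    have htr' : Commute L.t r' := L.t_comm (L.R_le hr'R)
    have htA : Commute L.t A := L.t_comm (L.A_H (C.P_mem _))
    have htB : Commute L.t B := L.t_comm (L.A_H (C.P_mem _))
    have e3 : A * B * (r * r') = r * r' * (A * B) := by
      calc A * B * (r * r') = A * (B * r) * r' := by group
        _ = (A * r) * B * (z * r') := by rw [hq3]; group
        _ = (A * r) * (B * r') * z := by rw [hzr'.eq]; group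
        _ = r * A * L.t * (r' * B * L.t) * z := by rw [e, e']
        _ = r * A * r' * B * (L.t * L.t) * z := by
            rw [show r * A * L.t * (r' * B * L.t) = r * A * ((L.t * r') * B) * L.t by group, htr'.eq,
              mul_assoc r' L.t B, htB.eq]
            group
        _ = r * (A * r') * B * z := by rw [L.t_sq]; group
        _ = r * (r' * A * z) * B * z := by rw [hq]
        _ = r * r' * A * B * (z * z) := by
            rw [show r * (r' * A * z) * B * z = r * r' * A * (z * B) * z by group, hzB.eq]; group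
        _ = _ := by rw [hzH.2.1]; group
    exact L.t_ne (mul_left_cancel ((mul_one _).trans (e3.symm.trans e''))).symm
  refine ⟨hcom.symm, fun hB' => ?_⟩
  -- otherwise the square of the generator is central
  have hAr' : A * r' = r' * A := by
    have : B * r = B * r * z := by rw [← hq2]; exact hB'.symm
    rw [hq, ← mul_left_cancel ((mul_one _).trans this), mul_one]
  have hcen : A ∈ zpowers L.c := by
    refine L.R_cent A (L.V_le hAV) fun ρ hρ => ?_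
    obtain ⟨-, hex⟩ := exists_form S.s_H S.s_x hx S.φ_s
    obtain ⟨i, v, v', rfl⟩ := hex ρ hρ
    have h1 : Commute A (C.P ((i, 0, 0) + wv v)) := L.A_comm _ (C.P_mem _) _ (C.P_mem _)
    refine (h1.mul_right ?_).eq
    rcases sq_vectors.2.2.2.1 v' with e | e | e | e <;> rw [e]
    · rw [show C.P (0, 0, 0) = 1 from C.P_zero, mul_one, mul_inv_cancel]; exact Commute.one_right _
    · rw [← hA, hsA]; exact hcom
    · rw [← hB, hsB]; exact hAr'
    · rw [C.P_add, ← conj_mul, ← hA, ← hB, hsA, hsB]; exact Commute.mul_right hcom hAr'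
  obtain ⟨i, hi⟩ : ∃ i : ZMod 4, A = C.P (i, 0, 0) := by
    rcases L.cen_c hcen with e | e | e | e
    · exact ⟨0, e.trans C.P_zero.symm⟩
    · exact ⟨1, e.trans C.P_c.symm⟩
    · exact ⟨2, e.trans C.P_t.symm⟩
    · exact ⟨3, e.trans (by rw [← C.P_c, ← C.P_neg]; rfl)⟩
  exact sq_vectors.1 i (C.P_inj hi).symm

theorem r_M : S.r ∈ L.M := L.R_M S.r_R

theorem r_c : S.r * L.c = L.c * S.r := (L.c_comm _ S.r_R).symm

theorem inv_r : S.r⁻¹ = S.r := inv_eq_of_mul_eq_one_left S.r_sq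

/-- The action of the transvection up to a sign. -/
theorem r_action (hx : L.φ ⟨C.x, C.x_H⟩ = sig0) :
    S.r * C.a * S.r = C.a⁻¹ ∧ (S.r * C.b * S.r = C.P (1, 2, 3) ∨ S.r * C.b * S.r = C.P (3, 2, 3)) := by
  obtain ⟨h1, h2⟩ := S.pairing hx
  set m := C.mat S.r with hm
  have hc1 : m.1 = (1, 0, 0) := by
    refine C.P_inj ?_
    rw [← (app_basis m).1, ← C.conj_app S.r_M, C.P_c, S.r_c]
    group
  have hc2 : sm 2 m.2.1 = (0, 2, 0) := by
    refine C.P_inj ?_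
    rw [← (app_basis m).2.1, ← app_two, ← C.conj_app S.r_M, C.P_add, C.P_a, h1, aa]
    group
  have hc3 : sm 2 m.2.2 = (2, 0, 2) := by
    refine C.P_inj ?_
    rw [← (app_basis m).2.2, ← app_two, ← C.conj_app S.r_M, C.P_add, C.P_b]
    rw [show ((2, 0, 2) : E4) = (0, 0, 2) + (2, 0, 0) by decide, C.P_add, bb, C.P_t]
    have hBV : C.b * C.b ∈ L.V := by rw [← bb, ← sq_vectors.2.2.1]; exact C.wv_V _
    rw [(L.R_comm _ S.r_R _ (L.V_le hBV)).resolve_left h2, mul_assoc (C.b * C.b) S.r,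
      ← (L.t_comm (L.R_le S.r_R)).eq]
    group
  obtain ⟨i, j, l, e2⟩ := low_facts.1 _ hc2
  obtain ⟨i', j', l', e3⟩ := low_facts.2.1 _ hc3
  have hm' : m = rCand i i' j l j' l' := Prod.ext hc1 (Prod.ext e2 e3)
  have hxx : C.x * C.x ∈ L.M := mul_mem C.x_M C.x_M
  have hrxx : S.r * (C.x * C.x) ∈ L.M := mul_mem S.r_M hxx
  have k1 : mm m m = idM := by rw [hm, ← C.mat_mul S.r_M S.r_M, S.r_sq, C.mat_one]
  have k2 : mm m mY = mm mY m := by
    rw [hm, ← I.mat_y, ← C.mat_mul S.r_M I.y_M, ← C.mat_mul I.y_M S.r_M, S.r_y]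
  have k3 : det3 m = 1 := C.det_one S.r_M
  have hmr' : C.mat (C.x * (S.r * (C.x * C.x))) = mm mX (mm m (mm mX mX)) := by
    rw [C.mat_mul C.x_M hrxx, C.mat_mul S.r_M hxx, C.mat_mul C.x_M C.x_M, C.mat_x]
  have hr'eq : C.x * (S.r * (C.x * C.x)) = C.x * S.r * C.x⁻¹ := by rw [C.x_inv]; group
  have hr'M : C.x * (S.r * (C.x * C.x)) ∈ L.M := mul_mem C.x_M hrxx
  have k4 : mm m (mm mX (mm m (mm mX mX))) = mm (mm mX (mm m (mm mX mX))) m := by
    rw [← hmr', hm, ← C.mat_mul S.r_M hr'M, ← C.mat_mul hr'M S.r_M, hr'eq, S.r_comm]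
  have k5 : mm (mm mX mX) (mm m mX) = mm m (mm mX (mm m (mm mX mX))) := by
    rw [← hmr', hm, ← C.mat_mul S.r_M hr'M, ← C.mat_x, ← C.mat_mul C.x_M C.x_M,
      ← C.mat_mul S.r_M C.x_M, ← C.mat_mul hxx (mul_mem S.r_M C.x_M), hr'eq]
    congr 1
    have e := eq_inv_of_mul_eq_one_left ((mul_assoc _ _ _).symm.trans S.norm_r)
    calc C.x * C.x * (S.r * C.x) = C.x * C.x * S.r * (C.x * C.x)⁻¹ * (C.x * C.x * C.x) := by group
      _ = C.x * (C.x * S.r * C.x⁻¹) * C.x⁻¹ := by rw [C.x3, mul_one]; group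
      _ = (C.x * S.r * C.x⁻¹ * S.r)⁻¹ := e
      _ = S.r * (C.x * S.r * C.x⁻¹) := by
          have hi : (C.x * S.r * C.x⁻¹)⁻¹ = C.x * S.r * C.x⁻¹ := by
            rw [show (C.x * S.r * C.x⁻¹)⁻¹ = C.x * S.r⁻¹ * C.x⁻¹ by group, S.inv_r]
          rw [mul_inv_rev, hi, S.inv_r]
  have ha : ∀ u v w : E4, m = (u, v, w) → S.r * C.a * S.r = C.P v ∧ S.r * C.b * S.r = C.P w := fun u v w e => by
    have q2 := C.conj_app S.r_M (0, 1, 0)
    have q3 := C.conj_app S.r_M (0, 0, 1)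
    rw [← hm, e, (app_basis _).2.1, C.P_a, S.inv_r] at q2
    rw [← hm, e, (app_basis _).2.2, C.P_b, S.inv_r] at q3
    exact ⟨q2, q3⟩
  have hneg : C.P (0, 3, 0) = C.a⁻¹ := by
    rw [show ((0, 3, 0) : E4) = -(0, 1, 0) by decide, C.P_neg, C.P_a]
  rw [hm'] at k1 k2 k3 k4 k5 hc2
  have hne : sm 2 (rCand i i' j l j' l').2.2 ≠ (0, 0, 2) := by
    rw [← hm', hc3]; decide
  rcases transvection_R i i' j l j' l' k1 k2 k3 k4 k5 hc2 hne with e | e
  · obtain ⟨p, q⟩ := ha _ _ _ (hm'.trans e)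
    exact ⟨p.trans hneg, Or.inl q⟩
  · obtain ⟨p, q⟩ := ha _ _ _ (hm'.trans e)
    exact ⟨p.trans hneg, Or.inr q⟩

end Cent

/-- The data with the central element inverted. -/
def Loc.flip (L : Loc G) : Loc G :=
  { L with
    c := L.c⁻¹
    c_sq := by rw [← mul_inv_rev, L.c_sq, inv_eq_of_mul_eq_one_left L.t_sq]
    R_cent := fun z hz h => by rw [zpowers_inv]; exact L.R_cent z hz h
    c_R := inv_mem L.c_R
    c_comm := fun r hr => (Commute.inv_left (L.c_comm r hr)).eq }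

/-- The coordinates with the central element inverted. -/
def Coord.flip (C : Coord L) : Coord L.flip :=
  ⟨C.x, C.a, C.x_H, C.x_M, C.x_ord, Commute.inv_right C.x_c, C.a_A, C.norm, C.a_one, C.a_t⟩

/-- The inverting involution with the central element inverted. -/
def Inv.flip (I : Inv C) : Inv C.flip where
  y := I.y
  y_H := I.y_H
  y_M := I.y_M
  y_sq := I.y_sq
  y_x := I.y_x
  y_c := by
    show I.y * L.c⁻¹ * I.y * L.c⁻¹ = 1
    calc I.y * L.c⁻¹ * I.y * L.c⁻¹ = (I.y⁻¹ * L.c * I.y⁻¹)⁻¹ * L.c⁻¹ := by group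
      _ = 1 := by rw [I.inv_y, I.ycy]; group
  y_a := I.y_a

theorem Cent.scs (S : Cent I) : S.s * L.c * S.s = L.c⁻¹ := eq_inv_of_mul_eq_one_left S.s_c

/-- The further involution with the central element inverted. -/
def Cent.flip (S : Cent I) : Cent I.flip where
  s := S.s
  s_H := S.s_H
  s_sq := S.s_sq
  s_x := S.s_x
  s_c := by
    show S.s * L.c⁻¹ * S.s * L.c⁻¹ = 1
    calc S.s * L.c⁻¹ * S.s * L.c⁻¹ = (S.s⁻¹ * L.c * S.s⁻¹)⁻¹ * L.c⁻¹ := by group
      _ = 1 := by rw [S.inv_s, S.scs]; group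
  s_y := by
    obtain ⟨k, hk⟩ := S.s_y
    refine ⟨3 * k, ?_⟩
    show I.y * S.s * I.y = S.s * L.c⁻¹ ^ (3 * k)
    rw [hk, inv_pow, eq_comm]
    congr 1
    refine inv_eq_of_mul_eq_one_left ?_
    rw [← pow_add, show k + 3 * k = 4 * k by ring, pow_mul, L.c_four, one_pow]
  φ_s := S.φ_s

/-- The local data may be chosen with the standard action of the transvection. -/
theorem exists_signed [Finite G] (L : Loc G) : ∃ (L' : Loc G) (C : Coord L') (I : Inv C) (S : Cent I),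
    L'.t = L.t ∧ L'.H = L.H ∧ L'.φ ⟨C.x, C.x_H⟩ = sig0 ∧ S.r * C.a * S.r = C.a⁻¹ ∧
    S.r * C.b * S.r = C.P (1, 2, 3) := by
  obtain ⟨L1, C0, ht, hH, hx⟩ := exists_seed L
  obtain ⟨C1, hC, ⟨I⟩⟩ := exists_inv C0
  have hx1 : L1.φ ⟨C1.x, C1.x_H⟩ = sig0 := by
    rw [← hx]; congr 1; exact Subtype.ext hC
  obtain ⟨S⟩ := exists_cent I hx1
  obtain ⟨ha, hb | hb⟩ := S.r_action hx1
  · exact ⟨L1, C1, I, S, ht, hH, hx1, ha, hb⟩
  · refine ⟨L1.flip, C1.flip, I.flip, S.flip, ht, hH, hx1, ha, ?_⟩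
    show S.r * C1.b * S.r = C1.flip.P (1, 2, 3)
    rw [hb]
    show L1.c ^ (3 : ZMod 4).val * _ * _ = L1.c⁻¹ ^ (1 : ZMod 4).val * _ * _
    rw [show (3 : ZMod 4).val = 3 from rfl, show (1 : ZMod 4).val = 1 from rfl, pow_one,
      eq_inv_of_mul_eq_one_left (show L1.c ^ 3 * L1.c = 1 by rw [← pow_succ, L1.c_four])]
    rfl

end Cfsg.Lib.HSLocal
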