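import Cfsg.Agent.HSLocal.Forms

/-!
The stored tables give the permutations of the words of the centralizer.
-/

set_option autoImplicit false
set_option maxRecDepth 40000

namespace Cfsg.Lib.HSLocal

open Cfsg.Lib.CosetCert Cfsg.Lib.PermCert

/-- The permutation of an element of the centralizer. -/
def hP (i : ℕ) : Equiv.Perm (Fin 100) := wvx imG (hW i)

theorem evalW_app (v w : List ℕ) (x : ℕ) : evalW tabX (v ++ w) x = evalW tabX w (evalW tabX v x) :=
  List.foldl_append

theorem hW15 (i : ℕ) : ∀ l ∈ hW i, l < 15 := fun l hl => (hW_lt i l hl).trans (by norm_num)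

theorem hEv_eq {i : ℕ} (hi : i < 7680) {x : ℕ} (hx : x < 100) : hEv i x = evalW tabX (hW i) x := by
  have ha := List.all_eq_true.1 (List.all_eq_true.1 tables_a (i % 4) (List.mem_range.2 (Nat.mod_lt _ (by norm_num))))
  have hc := List.all_eq_true.1 (List.all_eq_true.1 tables_a (i / 4 % 4) (List.mem_range.2 (Nat.mod_lt _ (by norm_num))))
  have hh := List.all_eq_true.1 (List.all_eq_true.1 tables_h (i / 1536) (List.mem_range.2 (by omega)))
  have hb : ∀ y < 100, ap ((bT.getD (i / 16 % 96 / 12) []).getD (i / 16 % 96 % 12) 0) y =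
      evalW tabX (repB.getD (i / 16 % 96) []) y := by
    intro y hy
    rcases lt_or_ge (i / 16 % 96) 48 with h | h
    · exact beq_iff_eq.1 (List.all_eq_true.1 (List.all_eq_true.1 tables_b0 _
        (List.mem_range'_1.2 ⟨Nat.zero_le _, by omega⟩)) y (List.mem_range.2 hy))
    · exact beq_iff_eq.1 (List.all_eq_true.1 (List.all_eq_true.1 tables_b1 _
        (List.mem_range'_1.2 ⟨h, by omega⟩)) y (List.mem_range.2 hy))
  have l1 := List.all_eq_true.1 (List.all_eq_true.1 tables_lt.1 (i % 4) (List.mem_range.2 (Nat.mod_lt _ (by norm_num))))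
  have l2 := List.all_eq_true.1
    (List.all_eq_true.1 tables_lt.1 (i / 4 % 4) (List.mem_range.2 (Nat.mod_lt _ (by norm_num))))
  have l3 := List.all_eq_true.1
    (List.all_eq_true.1 tables_lt.2 (i / 16 % 96) (List.mem_range.2 (Nat.mod_lt _ (by norm_num))))
  have b1 : ap (aT.getD (i % 4) 0) x < 100 := by
    have := l1 x (List.mem_range.2 hx)
    simp only [Bool.and_eq_true] at this
    exact Nat.le_of_ble_eq_true this.1
  have b2 : ∀ y < 100, ap (cT.getD (i / 4 % 4) 0) y < 100 := fun y hy => by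
    have := l2 y (List.mem_range.2 hy)
    simp only [Bool.and_eq_true] at this
    exact Nat.le_of_ble_eq_true this.2
  have b3 : ∀ y < 100, ap ((bT.getD (i / 16 % 96 / 12) []).getD (i / 16 % 96 % 12) 0) y < 100 := fun y hy =>
    Nat.le_of_ble_eq_true (l3 y (List.mem_range.2 hy))
  have e1 := ha x (List.mem_range.2 hx)
  simp only [Bool.and_eq_true, beq_iff_eq] at e1
  have e2 := hc _ (List.mem_range.2 b1)
  simp only [Bool.and_eq_true, beq_iff_eq] at e2
  rw [hW, evalW_app, evalW_app, evalW_app, ← e1.1, ← e2.2, ← hb _ (b2 _ b1), hEv]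
  exact beq_iff_eq.1 (hh _ (List.mem_range.2 (b3 _ (b2 _ b1))))

theorem hEv_act {i : ℕ} (hi : i < 7680) (x : Fin 100) : hEv i x.val = (((hP i)⁻¹ x : Fin 100) : ℕ) := by
  rw [hP, evalG (hW15 i), hEv_eq hi x.isLt]

theorem perm_eq {p q : Equiv.Perm (Fin 100)} (h : ∀ x : Fin 100, ((p⁻¹ x : Fin 100) : ℕ) = (q⁻¹ x : Fin 100)) : p = q :=
  inv_injective (Equiv.ext fun x => Fin.ext (h x))

theorem commT_iff {i T : ℕ} (hi : i < 7680) {w : List ℕ} (hw : ∀ l ∈ w, l < 15)
    (hT : ∀ x < 100, ap T x = evalW tabX w x) : commT i T = true ↔ Commute (hP i) (wvx imG w) := by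
  have hT' : ∀ x : Fin 100, ap T x.val = (((wvx imG w)⁻¹ x : Fin 100) : ℕ) := fun x => by
    rw [evalG hw, hT x.val x.isLt]
  have key : ∀ x : Fin 100, hEv i (ap T x.val) = ((((wvx imG w) * hP i)⁻¹ x : Fin 100) : ℕ) ∧
      ap T (hEv i x.val) = (((hP i * wvx imG w)⁻¹ x : Fin 100) : ℕ) := fun x => by
    rw [hT', hEv_act hi, hEv_act hi x, hT']
    exact ⟨by rw [mul_inv_rev]; rfl, by rw [mul_inv_rev]; rfl⟩
  simp only [commT, List.all_eq_true, List.mem_range, beq_iff_eq]
  constructor
  · exact fun h => perm_eq fun x => by rw [← (key x).1, ← (key x).2, h x.val x.isLt]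
  · intro h x hx
    rw [(key ⟨x, hx⟩).1, (key ⟨x, hx⟩).2, h.eq]

theorem killT_act {i : ℕ} (hi : i < 7680) : ∀ (k : ℕ) (x : Fin 100),
    killT k i x.val = (((hP i ^ k)⁻¹ x : Fin 100) : ℕ)
  | 0, x => by simp [killT]
  | k + 1, x => by
    rw [killT, hEv_act hi, killT_act hi k, pow_succ', mul_inv_rev]
    rfl

theorem expT_iff {i k : ℕ} (hi : i < 7680) : expT k i = true ↔ hP i ^ k = 1 := by
  simp only [expT, List.all_eq_true, List.mem_range, beq_iff_eq]
  constructor
  · exact fun h => perm_eq fun x => by rw [← killT_act hi, h x.val x.isLt]; simp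
  · intro h x hx
    rw [killT_act hi k ⟨x, hx⟩, h]; simp

theorem oneT_iff {i : ℕ} (hi : i < 7680) : oneT i = true ↔ hP i = 1 := by
  simp only [oneT, List.all_eq_true, List.mem_range, beq_iff_eq]
  constructor
  · exact fun h => perm_eq fun x => by rw [← hEv_act hi, h x.val x.isLt]; simp
  · intro h x hx
    rw [hEv_act hi ⟨x, hx⟩, h]; simp

theorem prodT_sound {i j k : ℕ} (hi : i < 7680) (hj : j < 7680) (hk : k < 7680) (h : prodT i j k = true) :
    hP i * hP j = hP k := by
  simp only [prodT, List.all_eq_true, List.mem_range, beq_iff_eq] at h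
  refine perm_eq fun x => ?_
  rw [← hEv_act hk, ← h x.val x.isLt, hEv_act hi, hEv_act hj, mul_inv_rev]
  rfl

theorem comm_sound {i j : ℕ} (hi : i < 7680) (hj : j < 7680) :
    ((List.range 100).all fun x => hEv j (hEv i x) == hEv i (hEv j x)) = true ↔ Commute (hP i) (hP j) := by
  have key : ∀ (a b : ℕ), a < 7680 → b < 7680 → ∀ x : Fin 100,
      hEv b (hEv a x.val) = (((hP a * hP b)⁻¹ x : Fin 100) : ℕ) := fun a b ha hb x => by
    rw [hEv_act ha, hEv_act hb, mul_inv_rev]; rfl
  simp only [List.all_eq_true, List.mem_range, beq_iff_eq]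
  constructor
  · exact fun h => perm_eq fun x => by rw [← key i j hi hj, ← key j i hj hi, h x.val x.isLt]
  · intro h x hx
    rw [key i j hi hj ⟨x, hx⟩, key j i hj hi ⟨x, hx⟩, h.eq]

theorem uT_act (x : Fin 100) : ap uT x.val = (((wvx imG uW)⁻¹ x : Fin 100) : ℕ) := by
  have h := List.all_eq_true.1 tables_w x.val (List.mem_range.2 x.isLt)
  simp only [Bool.and_eq_true, beq_iff_eq] at h
  rw [h.1.2, evalG (by decide)]

theorem shiftT_sound {i k : ℕ} (hi : i < 7680) (hk : k < 7680) (h : shiftT i k = true) :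
    hP k = hP i * wvx imG uW := by
  simp only [shiftT, List.all_eq_true, List.mem_range, beq_iff_eq] at h
  refine perm_eq fun x => ?_
  rw [← hEv_act hk, ← h x.val x.isLt, hEv_act hi, uT_act, mul_inv_rev]
  rfl

theorem isT_iff {i : ℕ} (hi : i < 7680) {w : List ℕ} (hw : ∀ l ∈ w, l < 15) :
    isT i w = true ↔ hP i = wvx imG w := by
  simp only [isT, List.all_eq_true, List.mem_range, beq_iff_eq]
  constructor
  · exact fun h => perm_eq fun x => by rw [← hEv_act hi, h x.val x.isLt, evalG hw]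
  · intro h x hx
    rw [hEv_act hi ⟨x, hx⟩, h, evalG hw]

theorem qT_eq : ∀ x < 100, ap qT x = evalW tabX qW x := fun x hx => by
  have h := List.all_eq_true.1 tables_w x (List.mem_range.2 hx)
  simp only [Bool.and_eq_true, beq_iff_eq] at h
  exact h.1.1

theorem uT_eq : ∀ x < 100, ap uT x = evalW tabX uW x := fun x hx => by
  have h := List.all_eq_true.1 tables_w x (List.mem_range.2 hx)
  simp only [Bool.and_eq_true, beq_iff_eq] at h
  exact h.1.2

theorem ubT_eq : ∀ x < 100, ap ubT x = evalW tabX (cjW hbW uW) x := fun x hx => by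
  have h := List.all_eq_true.1 tables_w x (List.mem_range.2 hx)
  simp only [Bool.and_eq_true, beq_iff_eq] at h
  exact h.2

end Cfsg.Lib.HSLocal
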