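import Cfsg.Agent.HSLocal.Seed

/-!
The involution of the centralizer outside the normalizer and the transvection it gives.
-/

set_option autoImplicit false
set_option maxRecDepth 20000
set_option synthInstance.maxSize 4096
set_option synthInstance.maxHeartbeats 400000

namespace Cfsg.Lib.HSLocal

open Subgroup

/-- The vectors of order two off the first coordinate. -/
def wv (v : Bool × Bool) : E4 := (0, zt v.1, zt v.2)

/-- The action on these vectors. -/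
def xb (v : Bool × Bool) : Bool × Bool := (v.2, v.1 != v.2)

theorem wv_facts : (∀ v, app mX (wv v) = wv (xb v)) ∧ (∀ v w, wv v = wv w → v = w) ∧ (∀ v, xb v = v → v = (false, false)) ∧
    (∀ v w, wv v + wv w = wv (v.1 != w.1, v.2 != w.2)) ∧ (∀ v, wv v + wv v = 0) ∧
    (∀ v, ∃ w : E4, w + w = wv v) ∧
    (∀ v, v ≠ (false, false) → ∀ w, w = (false, false) ∨ w = v ∨ w = xb v ∨ wv w = wv v + wv (xb v)) ∧
    (∀ v w : Bool × Bool, (v.1 != w.1, v.2 != w.2) = (false, false) → v = w) := by decide +kernel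

theorem cent_bits : ∀ k : Coord.Bits, 2 * det3 (Coord.ofBits k) ≠ 0 →
    r2 (mm (Coord.ofBits k) mX) = r2 (mm mX (Coord.ofBits k)) →
    ∃ i : Fin 3, r2 (Coord.ofBits k) = r2 (mpow mX i.val) := by decide +kernel

theorem sig0_pow : ∀ i : Fin 3, sig0 ^ i.val ≠ tau0 := by decide +kernel

theorem inverting : ∀ η : Equiv.Perm (Fin 5), η * η = 1 → η * sig0 * η * sig0 = 1 →
    (η = Equiv.swap 0 1 ∨ η = Equiv.swap 0 2 ∨ η = Equiv.swap 1 2) ∨
    (η = Equiv.swap 0 1 * tau0 ∨ η = Equiv.swap 0 2 * tau0 ∨ η = Equiv.swap 1 2 * tau0) := by decide +kernel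

theorem low_facts : (∀ v : E4, sm 2 v = (0, 2, 0) → ∃ (i : ZMod 4) (j l : Bool),
      v = (i, bif j then 3 else 1, bif l then 2 else 0)) ∧
    (∀ v : E4, sm 2 v = (2, 0, 2) → ∃ (i : ZMod 4) (j l : Bool),
      v = (i, bif j then 2 else 0, bif l then 3 else 1)) ∧
    (∀ v : E4, v + v = 0 → ∃ (q : Bool) (w : Bool × Bool), v = (bif q then (2, 0, 0) else 0) + wv w) := by
  decide +kernel

variable {G : Type*} [Group G] {L : Loc G} {C : Coord L}

namespace Coord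

variable (C)

theorem P_first : ∀ i : ZMod 4, C.P (i, 0, 0) = L.c ^ i.val := fun i => by simp [P]

theorem P_first_mem (i : ZMod 4) : C.P (i, 0, 0) ∈ zpowers L.c := by
  rw [C.P_first]; exact pow_mem (mem_zpowers _) _

theorem wv_V (v : Bool × Bool) : C.P (wv v) ∈ L.V := by
  obtain ⟨w, hw⟩ := wv_facts.2.2.2.2.2.1 v
  rw [← hw]
  refine L.A_sq _ (C.P_mem _) ?_
  rw [← C.P_add, ← C.P_zero]
  congr 1
  have : ∀ w : E4, w + w + (w + w) = 0 := by decide +kernel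
  exact this w

theorem phi_R {g : G} (hg : g ∈ L.R) : L.φ ⟨g, L.R_le hg⟩ = 1 := (L.φ_ker _).2 hg

end Coord

/-- An involution of the centralizer commuting with the element of order three, off the normalizer. -/
structure Cent (I : Inv C) where
  s : G
  s_H : s ∈ L.H
  s_sq : s * s = 1
  s_x : s * C.x = C.x * s
  s_c : s * L.c * s * L.c = 1
  s_y : ∃ k : ℕ, I.y * s * I.y = s * L.c ^ k
  φ_s : L.φ ⟨s, s_H⟩ = tau0

/-- The transvection. -/
def Cent.r {I : Inv C} (S : Cent I) : G := S.s * (C.a * C.a) * S.s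

variable [Finite G]

theorem not_M {s : G} (hs : s ∈ L.H) (hsx : s * C.x = C.x * s) (hx : L.φ ⟨C.x, C.x_H⟩ = sig0)
    (hφ : L.φ ⟨s, hs⟩ = tau0) : s ∉ L.M := by
  intro hM
  have hcomm : mm (C.mat s) mX = mm mX (C.mat s) := by
    rw [← C.mat_x, ← C.mat_mul hM C.x_M, ← C.mat_mul C.x_M hM, hsx]
  obtain ⟨i, hi⟩ := cent_bits (Coord.toBits (C.mat s))
    (by rw [Coord.det_r2 (Coord.r2_bits _)]; exact C.r2_unit hM)
    (by rw [r2_left (Coord.r2_bits _), r2_right mX (Coord.r2_bits _), hcomm])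
  rw [Coord.r2_bits, ← C.mat_x, ← C.mat_pow C.x_M] at hi
  obtain ⟨v, hv⟩ := C.P_surj (C.mem_A_of_r2 hM (pow_mem C.x_M i.val) hi)
  have hse : s = C.x ^ i.val * C.P v := by rw [hv]; group
  have hfix : app mX v = v := C.P_inj (by
    rw [← C.conj_P, hv]
    calc C.x * ((C.x ^ i.val)⁻¹ * s) * C.x⁻¹ = (C.x ^ i.val)⁻¹ * (C.x * s) * C.x⁻¹ := by group
      _ = (C.x ^ i.val)⁻¹ * s := by rw [← hsx]; group)
  have hR : C.P v ∈ L.R := by
    rw [show v = (v.1, 0, 0) from Prod.ext rfl (fix_X v hfix), C.P_first]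
    exact pow_mem L.c_R _
  refine sig0_pow i ?_
  rw [← hx, ← hφ, ← map_pow]
  have e : (⟨s, hs⟩ : L.H) = ⟨C.x, C.x_H⟩ ^ i.val * ⟨C.P v, L.R_le hR⟩ := Subtype.ext (by
    simpa using hse)
  rw [e, map_mul, Coord.phi_R hR, mul_one]

/-- Conjugates of the short vectors by an element off the normalizer lie off the abelian subgroup. -/
theorem wv_out {s : G} (hs : s ∈ L.H) (hsx : s * C.x = C.x * s) (hx : L.φ ⟨C.x, C.x_H⟩ = sig0)
    (hφ : L.φ ⟨s, hs⟩ = tau0) {v : Bool × Bool} (h : s * C.P (wv v) * s⁻¹ ∈ L.A) : v = (false, false) := by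
  by_contra hv
  refine not_M hs hsx hx hφ ((L.mem_M s).2 fun g hg => ?_)
  have h1 : s * C.P (wv v) * s⁻¹ ∈ L.V := L.A_sq _ h (by
    calc s * C.P (wv v) * s⁻¹ * (s * C.P (wv v) * s⁻¹) = s * (C.P (wv v) * C.P (wv v)) * s⁻¹ := by group
      _ = 1 := by rw [← C.P_add, wv_facts.2.2.2.2.1, C.P_zero]; group)
  have h2 : s * C.P (wv (xb v)) * s⁻¹ ∈ L.V := by
    rw [← wv_facts.1, ← C.conj_P]
    have := (L.mem_M C.x).1 C.x_M _ h1
    have e : C.x * (s * C.P (wv v) * s⁻¹) * C.x⁻¹ = s * (C.x * C.P (wv v) * C.x⁻¹) * s⁻¹ := by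
      calc C.x * (s * C.P (wv v) * s⁻¹) * C.x⁻¹ = (C.x * s) * C.P (wv v) * (C.x * s)⁻¹ := by group
        _ = _ := by rw [← hsx]; group
    rwa [e] at this
  have hall : ∀ w, s * C.P (wv w) * s⁻¹ ∈ L.V := fun w => by
    rcases wv_facts.2.2.2.2.2.2.1 v hv w with rfl | rfl | rfl | e
    · have : wv (false, false) = 0 := rfl
      rw [this, C.P_zero, mul_one, mul_inv_cancel]; exact one_mem _
    · exact h1
    · exact h2
    · rw [e, C.P_add, ← conj_mul]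
      exact mul_mem h1 h2
  obtain ⟨u, rfl⟩ := C.P_surj (L.V_A hg)
  obtain ⟨q, w, rfl⟩ := low_facts.2.2 u (C.P_inj (by rw [C.P_zero, C.P_add, L.V_sq _ hg]))
  rw [C.P_add, ← conj_mul]
  refine mul_mem ?_ (hall w)
  cases q
  · simp [C.P_zero, one_mem]
  · rw [cond_true, C.P_t, ← (L.t_comm hs).eq]; simpa using L.t_V

/-- A normal form in the two-radical. -/
theorem exists_form {s : G} (hs : s ∈ L.H) (hsx : s * C.x = C.x * s) (hx : L.φ ⟨C.x, C.x_H⟩ = sig0)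
    (hφ : L.φ ⟨s, hs⟩ = tau0) :
    (∀ (i j : ZMod 4) (v v' w w' : Bool × Bool), C.P ((i, 0, 0) + wv v) * (s * C.P (wv v') * s⁻¹) =
      C.P ((j, 0, 0) + wv w) * (s * C.P (wv w') * s⁻¹) → i = j ∧ v = w ∧ v' = w') ∧
    ∀ ρ ∈ L.R, ∃ (i : ZMod 4) (v v' : Bool × Bool), ρ = C.P ((i, 0, 0) + wv v) * (s * C.P (wv v') * s⁻¹) := by
  classical
  have hinj : ∀ (i j : ZMod 4) (v v' w w' : Bool × Bool), C.P ((i, 0, 0) + wv v) * (s * C.P (wv v') * s⁻¹) =
      C.P ((j, 0, 0) + wv w) * (s * C.P (wv w') * s⁻¹) → i = j ∧ v = w ∧ v' = w' := by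
    intro i j v v' w w' e
    have hneg : ∀ w, C.P (wv w) = (C.P (wv w))⁻¹ := fun w =>
      eq_inv_of_mul_eq_one_left (by rw [← C.P_add, wv_facts.2.2.2.2.1, C.P_zero])
    have hA : s * C.P (wv (v'.1 != w'.1, v'.2 != w'.2)) * s⁻¹ ∈ L.A := by
      rw [← wv_facts.2.2.2.1, C.P_add]
      have e' : s * (C.P (wv v') * C.P (wv w')) * s⁻¹ =
          (C.P ((i, 0, 0) + wv v))⁻¹ * C.P ((j, 0, 0) + wv w) := by
        rw [eq_inv_mul_iff_mul_eq]
        calc C.P ((i, 0, 0) + wv v) * (s * (C.P (wv v') * C.P (wv w')) * s⁻¹)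
            = C.P ((i, 0, 0) + wv v) * (s * C.P (wv v') * s⁻¹) * (s * C.P (wv w') * s⁻¹) := by group
          _ = C.P ((j, 0, 0) + wv w) * (s * (C.P (wv w') * C.P (wv w')) * s⁻¹) := by rw [e]; group
          _ = _ := by rw [← C.P_add (wv w'), wv_facts.2.2.2.2.1, C.P_zero]; group
      rw [e']
      exact mul_mem (inv_mem (C.P_mem _)) (C.P_mem _)
    have hv' := wv_facts.2.2.2.2.2.2.2 v' w' (wv_out hs hsx hx hφ hA)
    subst hv'
    have e2 := C.P_inj (mul_right_cancel e)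
    have hd : ∀ (i j : ZMod 4) (v w : Bool × Bool), ((i, 0, 0) + wv v : E4) = (j, 0, 0) + wv w → i = j ∧ v = w := by
      decide +kernel
    exact ⟨(hd i j v w e2).1, (hd i j v w e2).2, rfl⟩
  refine ⟨hinj, fun ρ hρ => ?_⟩
  let F : ZMod 4 × (Bool × Bool) × (Bool × Bool) → L.R := fun p =>
    ⟨C.P ((p.1, 0, 0) + wv p.2.1) * (s * C.P (wv p.2.2) * s⁻¹),
      mul_mem (by rw [C.P_add, C.P_first]; exact mul_mem (pow_mem L.c_R _) (L.V_le (C.wv_V _)))
        (L.R_norm s hs _ (L.V_le (C.wv_V _)))⟩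
  have hF : Function.Bijective F := (Nat.bijective_iff_injective_and_card _).2 ⟨fun p q e => by
      obtain ⟨h1, h2, h3⟩ := hinj _ _ _ _ _ _ (congrArg Subtype.val e)
      exact Prod.ext h1 (Prod.ext h2 h3), by
      rw [L.card_R, Nat.card_eq_fintype_card]; rfl⟩
  obtain ⟨p, hp⟩ := hF.2 ⟨ρ, hρ⟩
  exact ⟨p.1, p.2.1, p.2.2, (congrArg Subtype.val hp).symm⟩

theorem cent_x_R {s : G} (hs : s ∈ L.H) (hsx : s * C.x = C.x * s) (hx : L.φ ⟨C.x, C.x_H⟩ = sig0)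
    (hφ : L.φ ⟨s, hs⟩ = tau0) {ρ : G} (hρ : ρ ∈ L.R) (hρx : C.x * ρ = ρ * C.x) : ρ ∈ zpowers L.c := by
  obtain ⟨hinj, hex⟩ := exists_form hs hsx hx hφ
  obtain ⟨i, v, v', e⟩ := hex ρ hρ
  have e1 : C.P ((i, 0, 0) + wv (xb v)) * (s * C.P (wv (xb v')) * s⁻¹) = ρ := by
    have hi : app mX ((i, 0, 0) + wv v) = (i, 0, 0) + wv (xb v) := by
      rw [app_add, wv_facts.1]
      congr 1
      simp [app, sm, mX]
    rw [← hi, ← wv_facts.1, ← C.conj_P, ← C.conj_P]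
    have hc : Commute C.x s := hsx.symm
    calc C.x * C.P ((i, 0, 0) + wv v) * C.x⁻¹ * (s * (C.x * C.P (wv v') * C.x⁻¹) * s⁻¹)
        = C.x * C.P ((i, 0, 0) + wv v) * C.x⁻¹ * ((s * C.x) * C.P (wv v') * (s * C.x)⁻¹) := by group
      _ = C.x * (C.P ((i, 0, 0) + wv v) * (s * C.P (wv v') * s⁻¹)) * C.x⁻¹ := by rw [hsx]; group
      _ = ρ := by rw [← e, hρx]; group
  obtain ⟨-, h1, h2⟩ := hinj _ _ _ _ _ _ (e1.trans e)
  rw [wv_facts.2.2.1 v h1, wv_facts.2.2.1 v' h2] at e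
  have hz : wv (false, false) = 0 := rfl
  rw [hz, add_zero, C.P_zero, mul_one, mul_inv_cancel, mul_one] at e
  rw [e]
  exact C.P_first_mem i

theorem sign_c {g : G} (hg : g ∈ L.H) (I : Inv C) :
    (g * L.c * g⁻¹ = L.c ↔ Equiv.Perm.sign (L.φ ⟨g, hg⟩) = 1) := by
  classical
  let χ : L.H →* ℤˣ :=
    { toFun := fun h => if (h : G) * L.c * (h : G)⁻¹ = L.c then 1 else -1
      map_one' := by simp
      map_mul' := fun h k => by
        have e : ((h * k : L.H) : G) * L.c * ((h * k : L.H) : G)⁻¹ = (h : G) * ((k : G) * L.c * (k : G)⁻¹) * (h : G)⁻¹ := by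
          simp only [Subgroup.coe_mul]; group
        have ei : (h : G) * L.c⁻¹ * (h : G)⁻¹ = ((h : G) * L.c * (h : G)⁻¹)⁻¹ := by group
        simp only [e]
        rcases L.conj_c h.2 with p | p <;> rcases L.conj_c k.2 with q | q <;>
          simp [p, q, ei, L.c_ne_inv.symm] }
  have hker : L.φ.ker ≤ χ.ker := fun h hh => by
    have hR := (L.φ_ker h).1 hh
    show χ h = 1
    simp only [χ, MonoidHom.coe_mk, OneHom.coe_mk]
    rw [if_pos]
    rw [← L.c_comm _ hR]; group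
  let χ' := L.φ.liftOfSurjective L.φ_surj ⟨χ, hker⟩
  have hχ : ∀ h, χ' (L.φ h) = χ h := L.φ.liftOfRightInverse_comp_apply _ _ ⟨χ, hker⟩
  have hsur : Function.Surjective χ' := by
    intro z
    rcases Int.units_eq_one_or z with rfl | rfl
    · exact ⟨1, map_one _⟩
    · refine ⟨L.φ ⟨I.y, I.y_H⟩, ?_⟩
      rw [hχ]
      simp only [χ, MonoidHom.coe_mk, OneHom.coe_mk]
      rw [if_neg]
      intro e
      rw [inv_eq_of_mul_eq_one_left I.y_sq] at e
      have := I.y_c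
      rw [e] at this
      exact L.c_ne_inv (eq_inv_of_mul_eq_one_left this)
  have hsign : χ' = Equiv.Perm.sign := Equiv.Perm.eq_sign_of_surjective_hom hsur
  rw [← hsign, hχ]
  simp only [χ, MonoidHom.coe_mk, OneHom.coe_mk]
  split <;> simp_all

/-- The further involution exists. -/
theorem exists_cent (I : Inv C) (hx : L.φ ⟨C.x, C.x_H⟩ = sig0) : Nonempty (Cent I) := by
  classical
  obtain ⟨⟨h0, h0H⟩, hh0⟩ := L.φ_surj tau0
  haveI : Fact (Nat.Prime 3) := ⟨Nat.prime_three⟩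
  set x' := h0 * C.x * h0⁻¹ with hx'
  have hx'3 : x' * x' * x' = 1 := by
    calc x' * x' * x' = h0 * (C.x * C.x * C.x) * h0⁻¹ := by rw [hx']; group
      _ = 1 := by rw [C.x3]; group
  have hφx' : ∀ h : x' ∈ L.H, L.φ ⟨x', h⟩ = sig0 := fun h => by
    have e : (⟨x', h⟩ : L.H) = ⟨h0, h0H⟩ * ⟨C.x, C.x_H⟩ * ⟨h0, h0H⟩⁻¹ := Subtype.ext rfl
    rw [e, map_mul, map_mul, map_inv, hh0, hx, sig0_facts.2.2.2.1]
    group
  have hx'H : x' ∈ L.H := mul_mem (mul_mem h0H C.x_H) (inv_mem h0H)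
  have hstep : ∀ r ∈ L.R, x' * r * C.x⁻¹ ∈ L.R := fun r hr => by
    have hρ : C.x⁻¹ * x' ∈ L.R := by
      have : L.φ (⟨C.x, C.x_H⟩⁻¹ * ⟨x', hx'H⟩) = 1 := by rw [map_mul, map_inv, hx, hφx', inv_mul_cancel]
      exact (L.φ_ker _).1 this
    have := L.R_norm C.x C.x_H _ (mul_mem hρ hr)
    have e : C.x * (C.x⁻¹ * x' * r) * C.x⁻¹ = x' * r * C.x⁻¹ := by group
    rwa [e] at this
  let f : L.R → L.R := fun r => ⟨x' * r * C.x⁻¹, hstep r r.2⟩
  have hf3 : ∀ r, f (f (f r)) = r := fun r => Subtype.ext (by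
    show x' * (x' * (x' * r * C.x⁻¹) * C.x⁻¹) * C.x⁻¹ = r
    calc x' * (x' * (x' * r * C.x⁻¹) * C.x⁻¹) * C.x⁻¹ = (x' * x' * x') * r * (C.x * C.x * C.x)⁻¹ := by group
      _ = r := by rw [hx'3, C.x3]; group)
  let σ : Equiv.Perm L.R := ⟨f, fun r => f (f r), fun r => hf3 r, fun r => hf3 r⟩
  haveI : Fintype L.R := Fintype.ofFinite _
  obtain ⟨r, hr⟩ := Equiv.Perm.exists_fixed_point_of_prime (p := 3) (n := 1) (σ := σ)
    (by rw [← Nat.card_eq_fintype_card, L.card_R]; norm_num)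
    (Equiv.ext fun r => hf3 r)
  have hr' : x' * r * C.x⁻¹ = r := congrArg Subtype.val hr
  set s := (r : G)⁻¹ * h0 with hs
  have hsH : s ∈ L.H := mul_mem (inv_mem (L.R_le r.2)) h0H
  have hsx : s * C.x = C.x * s := by
    calc s * C.x = (r : G)⁻¹ * x' * h0 := by rw [hs, hx']; group
      _ = (r : G)⁻¹ * (x' * r * C.x⁻¹) * C.x * (r : G)⁻¹ * h0 := by group
      _ = C.x * s := by rw [hr', hs]; group
  have hφs : L.φ ⟨s, hsH⟩ = tau0 := by
    have e : (⟨s, hsH⟩ : L.H) = ⟨r, L.R_le r.2⟩⁻¹ * ⟨h0, h0H⟩ := Subtype.ext rfl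
    rw [e, map_mul, map_inv, Coord.phi_R r.2, hh0, inv_one, one_mul]
  have hsc : s * L.c * s⁻¹ = L.c⁻¹ := (L.conj_c hsH).resolve_left fun e => by
    have := (sign_c hsH I).1 e
    rw [hφs, tau0, Equiv.Perm.sign_swap (by decide)] at this
    simp at this
  have hφ2 : s * s ∈ L.R := by
    have : L.φ (⟨s, hsH⟩ * ⟨s, hsH⟩) = 1 := by rw [map_mul, hφs, sig0_facts.2.2.1]
    exact (L.φ_ker _).1 this
  have hs2 : s * s = 1 ∨ s * s = L.t := by
    have hz := cent_x_R hsH hsx hx hφs hφ2 ((Commute.mul_left hsx hsx).symm)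
    rcases L.cen_c hz with e | e | e | e
    · exact Or.inl e
    · exfalso
      have : s * L.c * s⁻¹ = L.c := by rw [← e]; group
      exact L.c_ne_inv (this.symm.trans hsc)
    · exact Or.inr e
    · exfalso
      have h1 : s * L.c⁻¹ * s⁻¹ = L.c⁻¹ := by rw [← e]; group
      have h2 : s * L.c * s⁻¹ = L.c := by
        calc s * L.c * s⁻¹ = (s * L.c⁻¹ * s⁻¹)⁻¹ := by group
          _ = L.c := by rw [h1, inv_inv]
      exact L.c_ne_inv (h2.symm.trans hsc)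
  obtain ⟨g, hgc⟩ : ∃ g, g * L.φ ⟨I.y, I.y_H⟩ * g⁻¹ = tau0 := by
    have hodd : Equiv.Perm.sign (L.φ ⟨I.y, I.y_H⟩) ≠ 1 := fun e => by
      have := (sign_c I.y_H I).2 e
      have h2 := I.y_c
      rw [inv_eq_of_mul_eq_one_left I.y_sq] at this
      rw [this] at h2
      exact L.c_ne_inv (eq_inv_of_mul_eq_one_left h2)
    have h1 : L.φ ⟨I.y, I.y_H⟩ * L.φ ⟨I.y, I.y_H⟩ = 1 := by
      rw [← map_mul, show (⟨I.y, I.y_H⟩ * ⟨I.y, I.y_H⟩ : L.H) = 1 from Subtype.ext I.y_sq, map_one]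
    have h2 : L.φ ⟨I.y, I.y_H⟩ * sig0 * L.φ ⟨I.y, I.y_H⟩ * sig0 = 1 := by
      rw [← hx, ← map_mul, ← map_mul, ← map_mul,
        show (⟨I.y, I.y_H⟩ * ⟨C.x, C.x_H⟩ * ⟨I.y, I.y_H⟩ * ⟨C.x, C.x_H⟩ : L.H) = 1 from Subtype.ext I.y_x, map_one]
    rcases inverting _ h1 h2 with (e | e | e) | (e | e | e) <;> rw [e] at hodd ⊢
    · exact isConj_iff.1 (Equiv.Perm.isConj_swap (by decide) (by decide))
    · exact isConj_iff.1 (Equiv.Perm.isConj_swap (by decide) (by decide))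
    · exact isConj_iff.1 (Equiv.Perm.isConj_swap (by decide) (by decide))
    all_goals
      exfalso
      apply hodd
      rw [map_mul, tau0, Equiv.Perm.sign_swap (by decide), Equiv.Perm.sign_swap (by decide)]
      rfl
  obtain ⟨⟨h, hH⟩, rfl⟩ := L.φ_surj g
  have hρ : s⁻¹ * (h * I.y * h⁻¹) ∈ L.R := by
    have : L.φ (⟨s, hsH⟩⁻¹ * (⟨h, hH⟩ * ⟨I.y, I.y_H⟩ * ⟨h, hH⟩⁻¹)) = 1 := by
      rw [map_mul, map_inv, map_mul, map_mul, map_inv, hgc, hφs, inv_mul_cancel]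
    exact (L.φ_ker _).1 this
  set ρ := s⁻¹ * (h * I.y * h⁻¹) with hρdef
  have hsq : s * ρ * (s * ρ) = 1 := by
    calc s * ρ * (s * ρ) = h * (I.y * I.y) * h⁻¹ := by rw [hρdef]; group
      _ = 1 := by rw [I.y_sq]; group
  obtain ⟨hinj, hex⟩ := exists_form hsH hsx hx hφs
  obtain ⟨i, v, v', e⟩ := hex ρ hρ
  have hss : s * s = 1 := by
    set V1 := C.P (wv v) with hV1
    set V2 := C.P (wv v') with hV2
    set ci := C.P ((i, 0, 0) : E4) with hci
    have eρ : ρ = ci * V1 * (s * V2 * s⁻¹) := by rw [e, C.P_add]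
    have hcs : s⁻¹ * ci * s = ci⁻¹ := by
      rw [hci, C.P_first, ← inv_pow]
      have : s⁻¹ * L.c * s = L.c⁻¹ := by
        calc s⁻¹ * L.c * s = (s⁻¹ * L.c⁻¹ * s)⁻¹ := by group
          _ = (s⁻¹ * (s * L.c * s⁻¹) * s)⁻¹ := by rw [hsc]
          _ = L.c⁻¹ := by group
      rw [← this]
      clear_value ci
      have := (conj_pow (a := s⁻¹) (b := L.c) (i := i.val))
      rw [inv_inv] at this
      exact this.symm
    have hVs : s⁻¹ * V1 * s = s * V1 * s⁻¹ := by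
      rcases hs2 with q | q
      · rw [inv_eq_of_mul_eq_one_left q]
      · have hc : Commute L.t V1 := L.t_comm (L.A_H (C.P_mem _))
        have q' : s⁻¹ = s * L.t := inv_eq_of_mul_eq_one_right (by rw [← mul_assoc, q, L.t_sq])
        calc s⁻¹ * V1 * s = s⁻¹ * V1 * (s * s) * s⁻¹ := by group
          _ = s * (L.t * V1) * L.t * s⁻¹ := by rw [q]; nth_rw 1 [q']; group
          _ = s * V1 * (L.t * L.t) * s⁻¹ := by rw [hc.eq]; group
          _ = _ := by rw [L.t_sq, mul_one]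
    have hprod : s * V1 * s⁻¹ * (V2 * V1) * (s * V2 * s⁻¹) = (s * s)⁻¹ := by
      refine eq_inv_of_mul_eq_one_right ?_
      have hc1 : Commute (ci⁻¹) (s * V1 * s⁻¹) := by
        have hR : s * V1 * s⁻¹ ∈ L.R := L.R_norm s hsH _ (L.V_le (C.wv_V _))
        have h' : Commute L.c (s * V1 * s⁻¹) := L.c_comm _ hR
        rw [hci, C.P_first]
        exact (h'.pow_left _).inv_left
      have hc2 : Commute ci V2 := L.A_comm _ (C.P_mem _) _ (C.P_mem _)
      calc s * s * (s * V1 * s⁻¹ * (V2 * V1) * (s * V2 * s⁻¹))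
          = s * s * ((s⁻¹ * ci * s) * (s * V1 * s⁻¹) * V2 * (ci * V1 * (s * V2 * s⁻¹))) := by
            rw [hcs, hc1.eq]
            have : ci⁻¹ * V2 * ci = V2 := by rw [mul_assoc, ← hc2.eq]; group
            calc s * s * (s * V1 * s⁻¹ * (V2 * V1) * (s * V2 * s⁻¹))
                = s * s * (s * V1 * s⁻¹ * (ci⁻¹ * V2 * ci * V1) * (s * V2 * s⁻¹)) := by rw [this]
              _ = _ := by group
        _ = s * s * ((s⁻¹ * ci * s) * (s⁻¹ * V1 * s) * V2 * (ci * V1 * (s * V2 * s⁻¹))) := by rw [hVs]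
        _ = s * ρ * (s * ρ) := by rw [eρ]; group
        _ = 1 := hsq
    obtain ⟨q, hq⟩ : ∃ q : G, (q = 1 ∨ q = L.t) ∧ (s * s)⁻¹ = q := by
      rcases hs2 with q | q
      · exact ⟨1, Or.inl rfl, by rw [q, inv_one]⟩
      · exact ⟨L.t, Or.inr rfl, by rw [q]; exact inv_eq_of_mul_eq_one_left L.t_sq⟩
    have hqA : q ∈ L.A := by
      rcases hq.1 with rfl | rfl
      · exact one_mem _
      · exact L.V_A L.t_V
    have hW : V2 * V1 = C.P (wv (v'.1 != v.1, v'.2 != v.2)) := by rw [← wv_facts.2.2.2.1, C.P_add]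
    have hout : v' = v := by
      refine wv_facts.2.2.2.2.2.2.2 v' v (wv_out hsH hsx hx hφs ?_)
      rw [← hW]
      have hR1 : s * V1 * s⁻¹ ∈ L.R := L.R_norm s hsH _ (L.V_le (C.wv_V _))
      have hR2 : V2 * V1 ∈ L.R := mul_mem (L.V_le (C.wv_V _)) (L.V_le (C.wv_V _))
      have hWA : V2 * V1 ∈ L.A := mul_mem (C.P_mem _) (C.P_mem _)
      rw [hq.2] at hprod
      have hsplit : s * (V2 * V1) * s⁻¹ = (s * V1 * s⁻¹) * (s * V2 * s⁻¹) := by
        rw [show V2 * V1 = V1 * V2 from L.A_comm _ (C.P_mem _) _ (C.P_mem _)]; group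
      rw [hsplit]
      rcases L.R_comm _ hR1 _ hR2 with p | p <;> rw [p] at hprod
      · have : s * V1 * s⁻¹ * (s * V2 * s⁻¹) = (V2 * V1)⁻¹ * q := by rw [← hprod]; group
        rw [this]; exact mul_mem (inv_mem hWA) hqA
      · have hc : Commute L.t (s * V1 * s⁻¹) := L.t_comm (L.R_le hR1)
        have : s * V1 * s⁻¹ * (s * V2 * s⁻¹) = L.t⁻¹ * (V2 * V1)⁻¹ * q := by
          rw [← hprod, mul_assoc (V2 * V1) (s * V1 * s⁻¹) L.t, ← hc.eq]; group
        rw [this]; exact mul_mem (mul_mem (inv_mem (L.V_A L.t_V)) (inv_mem hWA)) hqA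
    subst hout
    have hone : V2 * V1 = 1 := by
      rw [hV2, ← C.P_add, wv_facts.2.2.2.2.1, C.P_zero]
    rw [hone, mul_one] at hprod
    rw [← inv_eq_one, ← hprod]
    calc s * V1 * s⁻¹ * (s * V1 * s⁻¹) = s * (V2 * V1) * s⁻¹ := by rw [show V2 = V1 from rfl]; group
      _ = 1 := by rw [hone]; group
  have hinvs : s⁻¹ = s := inv_eq_of_mul_eq_one_left hss
  have hinvy : I.y⁻¹ = I.y := inv_eq_of_mul_eq_one_left I.y_sq
  refine ⟨⟨s, hsH, hss, hsx, ?_, ?_, hφs⟩⟩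
  · nth_rw 2 [← hinvs]
    rw [hsc, inv_mul_cancel]
  · have hy : L.φ ⟨I.y, I.y_H⟩ * L.φ ⟨I.y, I.y_H⟩ = 1 := by
      rw [← map_mul, show (⟨I.y, I.y_H⟩ * ⟨I.y, I.y_H⟩ : L.H) = 1 from Subtype.ext I.y_sq, map_one]
    have hyx : L.φ ⟨I.y, I.y_H⟩ * sig0 * L.φ ⟨I.y, I.y_H⟩ * sig0 = 1 := by
      rw [← hx, ← map_mul, ← map_mul, ← map_mul,
        show (⟨I.y, I.y_H⟩ * ⟨C.x, C.x_H⟩ * ⟨I.y, I.y_H⟩ * ⟨C.x, C.x_H⟩ : L.H) = 1 from Subtype.ext I.y_x, map_one]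
    have hmem : s⁻¹ * (I.y * s * I.y) ∈ L.R := by
      have : L.φ (⟨s, hsH⟩⁻¹ * (⟨I.y, I.y_H⟩ * ⟨s, hsH⟩ * ⟨I.y, I.y_H⟩)) = 1 := by
        rw [map_mul, map_inv, map_mul, map_mul, hφs, (five_facts _ hy hyx).1, mul_assoc, hy, mul_one,
          inv_mul_cancel]
      exact (L.φ_ker _).1 this
    have hyxy : I.y * C.x * I.y = C.x⁻¹ := eq_inv_of_mul_eq_one_left I.y_x
    have hcom : C.x * (s⁻¹ * (I.y * s * I.y)) = s⁻¹ * (I.y * s * I.y) * C.x := by
      have hyx2 : I.y * C.x⁻¹ * I.y = C.x := by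
        calc I.y * C.x⁻¹ * I.y = (I.y⁻¹ * C.x * I.y⁻¹)⁻¹ := by group
          _ = C.x := by rw [hinvy, hyxy, inv_inv]
      have e1 : (I.y * s * I.y) * C.x = C.x * (I.y * s * I.y) := by
        have hs' : Commute s C.x⁻¹ := Commute.inv_right hsx
        calc (I.y * s * I.y) * C.x = I.y * s * (I.y * C.x * I.y) * (I.y⁻¹) := by group
          _ = I.y * (C.x⁻¹ * s) * I.y := by rw [hyxy, hinvy, mul_assoc I.y s, hs'.eq]
          _ = (I.y * C.x⁻¹ * I.y) * (I.y⁻¹ * s * I.y) := by group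
          _ = C.x * (I.y * s * I.y) := by rw [hyx2, hinvy]
      have h1 : Commute C.x s⁻¹ := (Commute.inv_left hsx).symm
      rw [← mul_assoc, h1.eq, mul_assoc, ← e1]
      group
    obtain ⟨k, hk⟩ := (Submonoid.mem_powers_iff _ _).1
      ((isOfFinOrder_of_finite L.c).mem_powers_iff_mem_zpowers.2 (cent_x_R hsH hsx hx hφs hmem hcom))
    exact ⟨k, by rw [hk]; group⟩

end Cfsg.Lib.HSLocal
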